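import Mathlib
import Cfsg.Agent.Lib.SzS.Defs
import Cfsg.Agent.Lib.TL2.El2
import Cfsg.Agent.Lib.TwoGrp2.OneInv
import Cfsg.Prelude.Def_LieTypeChar
import Cfsg.Prelude.Def_Spor_Mathieu
import Cfsg.Prelude.Def_Spor_J1
import Cfsg.Prelude.Def_Spor_ON

/-! Standard subgroup `J₁` (plans/J1S.md; copy of Lib/GMS without the TI property): definitions. -/

set_option autoImplicit false

namespace CfsgLib.JG

open Subgroup Cfsg CfsgLib.Tech CfsgLib.SzS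
open scoped MatrixGroups

variable {F : Type*} [Field F] {G : Type*} [Group G]

/-- the conclusion -/
def Concl (_t : G) (L : Subgroup G) (_q : ℕ) : Prop := Spor.IsoON L

/-- the data of the local frame: the involution `t`, the root group `V = ι F`, the torus `η`, and a 2-group `T1`
acting by field automorphisms `σ` -/
structure Fr (F : Type*) (G : Type*) [Field F] [Group G] where
  /-- the involution -/
  t : G
  /-- coordinates on `V` -/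
  ι : F → G
  /-- the torus (for nonzero arguments) -/
  η : F → G
  /-- the complement of `V` in a Sylow 2-subgroup of `C(t)` -/
  T1 : Subgroup G
  /-- the action of `T1` -/
  σ : G → F ≃+* F
  two : (2 : F) = 0
  big : ∃ c : F, c ≠ 0 ∧ c ≠ 1
  add : ∀ a b, ι (a + b) = ι a * ι b
  inj : Function.Injective ι
  tt : t * t = 1
  tV : ∀ a, ι a ≠ t
  tι : ∀ a, t * ι a = ι a * t
  ηmul : ∀ l m, l ≠ 0 → m ≠ 0 → η (l * m) = η l * η m
  ηt : ∀ l, l ≠ 0 → η l * t = t * η l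
  ηι : ∀ l a, l ≠ 0 → η l * ι a * (η l)⁻¹ = ι (l * a)
  pg1 : IsPGroup 2 T1
  tT1 : t ∈ T1
  T1t : ∀ x ∈ T1, x * t = t * x
  act : ∀ x ∈ T1, ∀ a, x * ι a * x⁻¹ = ι (σ x a)
  actη : ∀ x ∈ T1, ∀ l, l ≠ 0 → x * η l * x⁻¹ = η (σ x l)

namespace Fr

variable (D : Fr F G)

theorem ι0 : D.ι 0 = 1 := by
  have h := D.add 0 0
  rw [add_zero] at h
  exact (mul_eq_left.1 h.symm)

include D in
theorem add_self (a : F) : a + a = 0 := by linear_combination a * D.two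

theorem ιι (a : F) : D.ι a * D.ι a = 1 := by rw [← D.add, D.add_self, D.ι0]

theorem ι_inv (a : F) : (D.ι a)⁻¹ = D.ι a := inv_eq_of_mul_eq_one_right (D.ιι a)

theorem ι_comm (a b : F) : D.ι a * D.ι b = D.ι b * D.ι a := by rw [← D.add, add_comm, D.add]

theorem t_inv : D.t⁻¹ = D.t := inv_eq_of_mul_eq_one_right D.tt

theorem t1 : D.t ≠ 1 := fun e => D.tV 0 (D.ι0.trans e.symm)

/-- the root group -/
def V : Subgroup G where
  carrier := {g | ∃ a, D.ι a = g}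
  one_mem' := ⟨0, D.ι0⟩
  mul_mem' := by
    rintro _ _ ⟨a, rfl⟩ ⟨b, rfl⟩
    exact ⟨a + b, D.add a b⟩
  inv_mem' := by
    rintro _ ⟨a, rfl⟩
    exact ⟨a, (D.ι_inv a).symm⟩

theorem mem_V {g : G} : g ∈ D.V ↔ ∃ a, D.ι a = g := Iff.rfl

theorem ι_mem (a : F) : D.ι a ∈ D.V := ⟨a, rfl⟩

/-- `⟨t⟩ × V` -/
abbrev E : Subgroup G := D.V ⊔ zpowers D.t

/-- the Sylow 2-subgroup of `C(t)` -/
abbrev T : Subgroup G := D.V ⊔ D.T1

/-- the properties of the frame that come from the structure of `C(t)` -/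
structure Ok : Prop where
  syl : IsSylowIn 2 D.T (centralizer {D.t})
  cyc : IsCyclic ↥(D.T1 ⊓ centralizer (D.V : Set G))
  semi : ∀ g, g * D.t = D.t * g → g ∈ normalizer (D.V : Set G) → ∃ (c : F) (τ : F ≃+* F),
    (∀ a, g * D.ι a * g⁻¹ = D.ι (c * τ a)) ∧ ∀ l, l ≠ 0 → ∃ a, g * D.η l * g⁻¹ = D.ι a * D.η (τ l)
  cv : ∀ g, g * D.t = D.t * g → g ∈ centralizer (D.V : Set G) →
    ∃ a, ∀ l, l ≠ 0 → D.ι a * g * D.η l = D.η l * (D.ι a * g)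
  nc : ∀ x y, x * D.t = D.t * x → y * D.t = D.t * y → Odd (orderOf x) → y * x * y⁻¹ * x⁻¹ ∈ D.T →
    y * x * y⁻¹ * x⁻¹ ∈ D.V
  fus : (∀ r ∈ D.T1, r ∈ centralizer (D.V : Set G) → r = 1 ∨ r = D.t) → ∀ c x, c * D.t = D.t * c → x ∈ D.T →
    c * x * c⁻¹ ∈ D.T → c * x * c⁻¹ * x⁻¹ ∈ D.V

/-- the global hypotheses -/
structure Glob (A L : Subgroup G) : Prop extends D.Ok where
  top : Top D.t L
  simple : IsSimpleGroup L
  nab : ¬ IsMulCommutative L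
  cL : centralizer (L : Set G) = ⊥
  AL : A ≤ L
  VA : D.V ≤ A
  card8 : Nat.card F = 8
  T1 : D.T1 = zpowers D.t
  cardA : Nat.card A = 175560
  three : ∃ a ∈ A, ∃ b ∈ A, a * a = 1 ∧ b * b = 1 ∧ a * D.ι 1 = D.ι 1 * a ∧ b * D.ι 1 = D.ι 1 * b ∧
    orderOf (a * b) = 3
  cz : Nat.card ↥(A ⊓ centralizer {D.ι 1}) ≤ 120
  el : ∀ x, x * D.t = D.t * x → IsPGroup 2 (zpowers x) → (x ∈ A ∨ D.t * x ∈ A) ∧ x * x = 1

/-- `C_T(A) = ⟨t⟩` -/
structure R2 : Prop extends D.Ok where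
  r2 : ∀ r ∈ D.T1, r ∈ centralizer (D.V : Set G) → r = 1 ∨ r = D.t

/-- the generic fusion pattern -/
structure Gen : Prop extends D.R2 where
  nV : ∀ v ∈ D.V, ¬ IsConj D.t v
  mov : ∃ n ∈ normalizer (D.V : Set G), D.t * (n * D.t * n⁻¹) ∈ D.V ∧ n * D.t ≠ D.t * n

/-- `T1 = ⟨t⟩ × ⟨f⟩`, and `φ` is the involution of `⟨f⟩` -/
structure Spl (f φ : G) (b : ℕ) : Prop where
  fT : f ∈ D.T1
  ord : orderOf f = 2 ^ (b + 1)
  pw : φ = f ^ 2 ^ b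
  tf : D.t ∉ zpowers f
  dec : ∀ x ∈ D.T1, ∃ i : ℕ, x = f ^ i ∨ x = D.t * f ^ i

/-- `T1 = ⟨f⟩` is cyclic of order at least four -/
structure Cy (f : G) (b : ℕ) : Prop where
  ord : orderOf f = 2 ^ (b + 2)
  pw : D.t = f ^ 2 ^ (b + 1)
  eq : D.T1 = zpowers f

/-- a `B`-invariant 2-group with `C_Y(t) = V` -/
structure Inv (Y : Subgroup G) : Prop extends D.Gen where
  pg : IsPGroup 2 Y
  VY : D.V ≤ Y
  nt : D.t ∈ normalizer (Y : Set G)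
  ct : ∀ y ∈ Y, y * D.t = D.t * y → y ∈ D.V
  nB : ∀ g, g * D.t = D.t * g → g ∈ normalizer (D.V : Set G) → g ∈ normalizer (Y : Set G)

/-- type `α`: homocyclic -/
structure TA (Y : Subgroup G) : Prop extends D.Inv Y where
  ab : ∀ a ∈ Y, ∀ b ∈ Y, a * b = b * a
  om : ∀ y ∈ Y, y * y = 1 → y ∈ D.V
  ne : ∃ y ∈ Y, y ∉ D.V
  fz : ∀ n ∈ normalizer ((Y ⊔ zpowers D.t : Subgroup G) : Set G), ∃ y ∈ Y, n * D.t * n⁻¹ = y * D.t * y⁻¹

/-- type `β`: elementary of order `q ^ 2` -/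
structure TB (Y : Subgroup G) : Prop extends D.Inv Y where
  el : ∀ y ∈ Y, y * y = 1
  card : Nat.card Y = Nat.card F ^ 2

/-- types `γ`, `δ`: special of order `q ^ 3` -/
structure TC (Y : Subgroup G) (a b : F) (π : G → F × F) (j : F → G) : Prop extends D.Inv Y where
  b0 : b ≠ 0
  πadd : ∀ x ∈ Y, ∀ y ∈ Y, π (x * y) = π x + π y
  πsurj : ∀ v, ∃ y ∈ Y, π y = v
  πker : ∀ y ∈ Y, π y = 0 ↔ y ∈ D.V
  cen : ∀ v ∈ D.V, ∀ y ∈ Y, y * v = v * y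
  jadd : ∀ w w', j (w + w') = j w * j w'
  jinj : Function.Injective j
  jV : ∀ g, g ∈ D.V ↔ ∃ w, j w = g
  sq : ∀ y ∈ Y, y * y = j ((π y).1 * (π y).1 + b * (π y).1 * (π y).2 + a * (π y).2 * (π y).2)

/-- the exceptional end of the tower -/
structure Exc [Finite G] (W : Subgroup G) (e : ℕ) (π : TL2.Nt D.t W →* Equiv.Perm F) : Prop
    extends D.Inv W where
  card : Nat.card F = 8
  tp : TL2.Tp D.t D.V D.E W D.ι e π
  ntr : ∀ (m : G) (h : m ∈ TL2.Nt D.t W ⊓ centralizer (D.V : Set G)), π ⟨m, h.1⟩ 0 = 0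
  aff : TL2.Aff π.range

end Fr

/-- `Aff` without the condition on the order of the point stabiliser -/
structure Aff0 (A : Subgroup (Equiv.Perm F)) : Prop where
  two : (2 : F) = 0
  aff : ∀ f ∈ A, ∀ a b, f (a + b) + f 0 = f a + f b
  scal : ∀ l : F, l ≠ 0 → ∃ f ∈ A, ∀ a, f a = l * a
  semi : ∀ f ∈ A, f 0 = 0 → ∃ (c : F) (σ : F ≃+* F), ∀ a, f a = c * σ a
  ntr : ∀ f ∈ A, (∀ a, f a = a + f 0) → f = 1
  mov : ∃ f ∈ A, f 0 ≠ 0

/-- `Y` is weakly closed in `S` with respect to `L` -/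
def WC (Y S L : Subgroup G) : Prop := ∀ g ∈ L, cj g Y ≤ S → cj g Y = Y

/-- all involutions of `L` are conjugate in `L` -/
def One (L : Subgroup G) : Prop :=
  ∀ a ∈ L, ∀ b ∈ L, a * a = 1 → b * b = 1 → a ≠ 1 → b ≠ 1 → ∃ g ∈ L, g * a * g⁻¹ = b

/-- a 2-group `D` with an involution `τ` such that `C_D(τ) = ⟨τ⟩ × ⟨f⟩` -/
structure Sc (D : Subgroup G) (τ f : G) (b : ℕ) : Prop where
  pg : IsPGroup 2 D
  τD : τ ∈ D
  fD : f ∈ D
  ττ : τ * τ = 1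
  ord : orderOf f = 2 ^ (b + 1)
  τf : τ ∉ zpowers f
  comm : f * τ = τ * f
  cτ : ∀ d ∈ D, d * τ = τ * d → ∃ i : ℕ, d = f ^ i ∨ d = τ * f ^ i

section lin

open TwoGrp2

variable {Y : Type*} [Group Y]

/-- such a group acting on an elementary abelian group of order `r ^ 4` -/
structure Lin (D : Subgroup (MulAut Y)) (τ f φ : MulAut Y) (b r : ℕ) : Prop extends Sc D τ f b where
  pw : φ = f ^ 2 ^ b
  cen : ∀ d ∈ D, d * φ = φ * d
  el : ∀ y : Y, y * y = 1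
  card : Nat.card Y = r ^ 4
  c1 : Nat.card (fx τ) = r ^ 2
  c2 : Nat.card (fx φ) = r ^ 2
  c3 : Nat.card (fx (τ * φ)) = r ^ 2
  c4 : Nat.card ↥(fx τ ⊓ fx φ) = r

/-- the additional data for `r = 4` -/
structure Lin4 (M D : Subgroup (MulAut Y)) (τ f φ h : MulAut Y) (b : ℕ) : Prop extends Lin D τ f φ b 4 where
  syl : IsSylowIn 2 D M
  hM : h ∈ M
  h3 : h ^ 3 = 1
  fpf : ∀ y, h y = y → y = 1
  hτ : h * τ = τ * h
  hφ : h * φ = φ * h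
  uniq : ∀ m ∈ M, m ^ 3 = 1 → m * τ = τ * m → m = 1 ∨ m = h ∨ m = h⁻¹
  fV : ∀ d ∈ D, d * τ = τ * d → (∀ y, τ y = y → φ y = y → d y = y) → d = 1 ∨ d = τ ∨ d = φ ∨ d = τ * φ

end lin

/-- the vector space of the exceptional case -/
abbrev V3 : Type := Fin 3 → ZMod 2

/-- the unitriangular maps -/
def ut (α β γ : ZMod 2) (x : V3) : V3 := ![x 0 + α * x 1 + γ * x 2, x 1 + β * x 2, x 2]

/-- the map of order three fixing the first basis vector -/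
def th (x : V3) : V3 := ![x 0, x 2, x 1 + x 2]

/-- the first basis vector -/
def e0 : V3 := ![1, 0, 0]

/-- the second basis vector -/
def e1 : V3 := ![0, 1, 0]

/-- `g` acts on `W / W²` as `m` -/
def Acts (W : Subgroup G) (p : G → V3) (g : G) (m : V3 → V3) : Prop := ∀ w ∈ W, p (g * w * g⁻¹) = m (p w)

/-- the exceptional configuration: `W` is homocyclic of rank three and exponent `2 ^ (n + 1)`, inverted by `t`,
`N` induces `GL₃(2)`, and `S = W.D₈` is a Sylow 2-subgroup of `L` -/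
structure Xc (t : G) (L W N S : Subgroup G) (n : ℕ) (p : G → V3) (j : V3 → G) (θ : G) : Prop where
  top : Top t L
  tt : t * t = 1
  tL : t ∉ L
  syl : IsSylowIn 2 S L
  WS : W ≤ S
  SN : S ≤ N
  NL : N ≤ L
  nW : N ≤ normalizer (W : Set G)
  ab : ∀ a ∈ W, ∀ b ∈ W, a * b = b * a
  inv : ∀ w ∈ W, t * w * t = w⁻¹
  add : ∀ a ∈ W, ∀ b ∈ W, p (a * b) = p a + p b
  ker : ∀ w ∈ W, p w = 0 ↔ ∃ v ∈ W, w = v * v
  surj : ∀ x, ∃ w ∈ W, p w = x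
  jp : ∀ w ∈ W, j (p w) = w ^ 2 ^ n
  jinj : Function.Injective j
  jom : ∀ w ∈ W, w * w = 1 ↔ ∃ x, j x = w
  full : ∀ m : V3 ≃+ V3, ∃ g ∈ N, Acts W p g m
  utS : ∀ s ∈ S, ∃ α β γ, Acts W p s (ut α β γ)
  utX : ∀ α β γ, ∃ s ∈ S, Acts W p s (ut α β γ)
  ut0 : ∀ s ∈ S, Acts W p s id → s ∈ W
  two : ∀ g ∈ N, IsPGroup 2 (zpowers g) → ∀ α β γ, Acts W p g (ut α β γ) → g ∈ S
  coc : ∀ g ∈ N, t * g * t * g⁻¹ ∈ W
  fpf : ∀ g ∈ N, ¬ Acts W p g id → Acts W p (g * g) id → ∀ w ∈ W,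
    p (t * g * t * g⁻¹) ≠ p (g * w * g⁻¹) + p w
  TT : ∀ s ∈ S, IsConj t (t * s) → s ∈ W
  θN : θ ∈ N
  θt : θ * t = t * θ
  θodd : Odd (orderOf θ)
  θact : Acts W p θ th
  ct : ∃ C : Subgroup G, Nat.card C ≤ 120 ∧
    ∀ x ∈ L, x * t = t * x → x * j e0 = j e0 * x → IsPGroup 2 (zpowers x) → x ∈ C ∧ x * x = 1

/-- the end of the fusion analysis for `n ≥ 1` -/
structure Xl (L W S : Subgroup G) (p : G → V3) (j : V3 → G) (a ζ : G) : Prop where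
  aS : a ∈ S
  aa : a * a = 1
  aact : Acts W p a (ut 0 0 1)
  ζW : ζ ∈ W
  pζ : p ζ = e0
  cζ : ∀ s ∈ S, ∀ α γ, Acts W p s (ut α 0 γ) → s * ζ = ζ * s
  iζ : ∀ s ∈ S, ∀ α γ, Acts W p s (ut α 1 γ) → s * ζ * s⁻¹ = ζ⁻¹
  fus : ∃ x ∈ L, x * ζ = ζ * x ∧ x * a * x⁻¹ = j e1

end CfsgLib.JG
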