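import Mathlib
import Cfsg.Agent.Lib.JG.Defs
import Cfsg.Agent.Lib.TL2.Aff
import Cfsg.Agent.Lib.U3S.Fld

/-! Standard subgroup `J₁` (plans/J1S.md; copy of Lib/GMS without the TI property, package FLD). -/

set_option autoImplicit false
set_option linter.unusedSectionVars false

namespace CfsgLib.JG

open Subgroup Cfsg CfsgLib.Tech CfsgLib.SzS
open scoped MatrixGroups

variable {F : Type*} [Field F] [Finite F] {G : Type*} [Group G] [Finite G]

/-- the fixed points of a field automorphism -/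
def fixA (τ : F ≃+* F) : AddSubgroup F where
  carrier := {a | τ a = a}
  zero_mem' := map_zero τ
  add_mem' := fun {a b} ha hb => by
    simp only [Set.mem_setOf_eq] at *
    rw [map_add, ha, hb]
  neg_mem' := fun {a} ha => by
    simp only [Set.mem_setOf_eq] at *
    rw [map_neg, ha]

theorem mem_fixA {τ : F ≃+* F} {a : F} : a ∈ fixA τ ↔ τ a = a := Iff.rfl

section

variable (h2 : (2 : F) = 0)
include h2

theorem card_two_pow : ∃ n : ℕ, Nat.card F = 2 ^ n := by
  have := Fintype.ofFinite F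
  have : CharP F 2 := CharTwo.of_one_ne_zero_of_two_eq_zero one_ne_zero h2
  obtain ⟨n, -, hn⟩ := FiniteField.card F 2
  exact ⟨n, by rw [Nat.card_eq_fintype_card, hn]⟩

theorem four_le_card (big : ∃ c : F, c ≠ 0 ∧ c ≠ 1) : 4 ≤ Nat.card F := by
  classical
  have := Fintype.ofFinite F
  obtain ⟨n, hn⟩ := card_two_pow h2
  obtain ⟨c, h0, h1⟩ := big
  have h3 : 3 ≤ Nat.card F := by
    have := Finset.card_le_univ ({0, 1, c} : Finset F)
    rwa [Finset.card_eq_three.2 ⟨0, 1, c, zero_ne_one, h0.symm, h1.symm, rfl⟩,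
      ← Nat.card_eq_fintype_card] at this
  rw [hn] at h3 ⊢
  by_cases hn2 : 2 ≤ n
  · exact Nat.pow_le_pow_right (n := 2) two_pos hn2
  · have := Nat.pow_le_pow_right (n := 2) two_pos (show n ≤ 1 by omega)
    omega

/-- the order of an automorphism divides the degree -/
theorem orderOf_dvd {n : ℕ} (h : Nat.card F = 2 ^ n) (σ : F ≃+* F) : orderOf σ ∣ n := by
  have := Fintype.ofFinite F
  obtain ⟨m, -, e⟩ := TL2.AffB.dvd_of_card h (zpowers σ)
  rw [Nat.card_zpowers] at e
  exact Dvd.intro_left _ e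

variable {τ : F ≃+* F} (h1 : τ ≠ 1) (hτ : τ * τ = 1)
include h1 hτ

omit h2 h1 in
theorem fld_ττ (x : F) : τ (τ x) = x := congrArg (fun f : F ≃+* F => f x) hτ

omit hτ in
theorem fld_exists_ne : ∃ w, w + τ w ≠ 0 := by
  by_contra hcon
  push Not at hcon
  refine h1 (RingEquiv.ext fun x => ?_)
  change τ x = x
  linear_combination hcon x - x * h2

theorem exists_trace {a : F} (ha : τ a = a) : ∃ d, a = d + τ d := by
  obtain ⟨w, hw⟩ := fld_exists_ne h2 h1
  refine ⟨a * w / (w + τ w), ?_⟩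
  rw [map_div₀, map_mul, map_add, fld_ττ hτ, ha, add_comm (τ w) w]
  field_simp

theorem card_fixA : Nat.card (fixA τ) ^ 2 = Nat.card F := by
  let f : F →+ F := AddMonoidHom.id F + (τ : F →+ F)
  have hf : ∀ x, f x = x + τ x := fun x => rfl
  have hk : f.ker = fixA τ := by
    ext x
    rw [AddMonoidHom.mem_ker, hf, mem_fixA]
    exact ⟨fun e => by linear_combination e - x * h2, fun e => by linear_combination e + x * h2⟩
  have hr : f.range = fixA τ := by
    ext x
    rw [AddMonoidHom.mem_range, mem_fixA]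
    constructor
    · rintro ⟨d, rfl⟩
      rw [hf, map_add, fld_ττ hτ, add_comm]
    · intro e
      obtain ⟨d, e⟩ := exists_trace h2 h1 hτ e
      exact ⟨d, e.symm⟩
  rw [← f.ker.card_mul_index, AddSubgroup.index_ker, hk, hr, sq]

omit h2 h1 hτ in
theorem fld_card_two : Nat.card (fixA τ) = 2 ↔ ∀ a, τ a = a → a = 0 ∨ a = 1 := by
  have e1 : (1 : F) ∈ fixA τ := map_one τ
  constructor
  · intro h a ha
    obtain ⟨y, -, hy⟩ := (Nat.card_eq_two_iff' (0 : fixA τ)).1 h
    refine or_iff_not_imp_left.2 fun h0 => ?_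
    have h3 := hy ⟨a, ha⟩ fun e => h0 (congrArg Subtype.val e)
    have h4 := hy ⟨1, e1⟩ fun e => one_ne_zero (congrArg Subtype.val e)
    exact congrArg Subtype.val (h3.trans h4.symm)
  · intro h
    refine Nat.card_eq_two_iff.2 ⟨0, ⟨1, e1⟩, fun e => zero_ne_one (congrArg Subtype.val e),
      Set.eq_univ_of_forall fun x => ?_⟩
    exact (h x x.2).imp Subtype.ext Subtype.ext

theorem exists_fix (h : Nat.card F ≠ 4) : ∃ l, l ≠ 0 ∧ l ≠ 1 ∧ τ l = l := by
  by_contra hcon
  push Not at hcon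
  refine h ?_
  rw [← card_fixA h2 h1 hτ, fld_card_two.2 fun a ha => ?_]
  · rfl
  by_contra h3
  push Not at h3
  exact hcon a h3.1 h3.2 ha

theorem fix_four (h : Nat.card F = 4) {a : F} : τ a = a ↔ a = 0 ∨ a = 1 := by
  refine ⟨fld_card_two.1 ?_ a, ?_⟩
  · have e := card_fixA h2 h1 hτ
    rw [h] at e
    exact Nat.pow_left_injective two_ne_zero e
  · rintro (rfl | rfl)
    · exact map_zero τ
    · exact map_one τ

theorem exists_norm_one : ∃ l, l ≠ 1 ∧ l * τ l = 1 := by
  obtain ⟨w, hw⟩ := fld_exists_ne h2 h1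
  have w0 : w ≠ 0 := by
    rintro rfl
    exact hw (by rw [map_zero, add_zero])
  have w1 : τ w ≠ 0 := (map_ne_zero τ).2 w0
  refine ⟨w / τ w, fun e => hw ?_, ?_⟩
  · rw [div_eq_one_iff_eq w1] at e
    linear_combination e + τ w * h2
  · rw [map_div₀, fld_ττ hτ]
    field_simp

theorem exists_hilbert {c : F} (hc : c * τ c = 1) : ∃ d, d ≠ 0 ∧ c * τ d = d := by
  by_cases e : c = 1
  · exact ⟨1, one_ne_zero, by rw [e, map_one, mul_one]⟩
  refine ⟨1 + c, fun e' => e ?_, ?_⟩
  · linear_combination e' - h2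
  · rw [map_add, map_one]
    linear_combination hc

theorem card_norm_one : {l | l * τ l = 1}.ncard = Nat.card (fixA τ) + 1 := by
  classical
  let f : Fˣ →* Fˣ := MonoidHom.id Fˣ / Units.map (τ : F →* F)
  have hf : ∀ x : Fˣ, (f x : F) = x / τ x := fun x => by
    simp [f]
  have hr : Nat.card f.range = {l | l * τ l = 1}.ncard := by
    rw [← SetLike.coe_sort_coe, Nat.card_coe_set_eq,
      ← Set.ncard_image_of_injective _ Units.val_injective]
    congr 1
    ext l
    constructor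
    · rintro ⟨_, ⟨x, rfl⟩, rfl⟩
      have x0 : (x : F) ≠ 0 := x.ne_zero
      have x1 : τ x ≠ 0 := (map_ne_zero τ).2 x0
      change (f x : F) * τ (f x) = 1
      rw [hf, map_div₀, fld_ττ hτ]
      field_simp
    · intro hl
      obtain ⟨d, d0, e⟩ := exists_hilbert h2 h1 hτ hl
      refine ⟨f (Units.mk0 d d0), ⟨_, rfl⟩, ?_⟩
      rw [hf, Units.val_mk0, div_eq_iff ((map_ne_zero τ).2 d0), e]
  have hk : Nat.card f.ker + 1 = Nat.card (fixA τ) := by
    rw [← SetLike.coe_sort_coe, Nat.card_coe_set_eq,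
      ← Set.ncard_image_of_injective _ Units.val_injective, ← SetLike.coe_sort_coe (fixA τ),
      Nat.card_coe_set_eq, ← Set.ncard_sdiff_singleton_add_one (zero_mem (fixA τ))]
    congr 2
    ext l
    constructor
    · rintro ⟨x, hx, rfl⟩
      have e := hf x
      rw [show f x = 1 from hx, Units.val_one, eq_div_iff ((map_ne_zero τ).2 x.ne_zero), one_mul] at e
      exact ⟨e, x.ne_zero⟩
    · rintro ⟨e, l0⟩
      replace l0 : l ≠ 0 := l0
      refine ⟨Units.mk0 l l0, Units.ext ?_, rfl⟩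
      rw [hf, Units.val_mk0, show τ l = l from e, div_self l0, Units.val_one]
  have h3 := f.ker.card_mul_index
  rw [index_ker, hr, Nat.card_units, ← card_fixA h2 h1 hτ, ← hk] at h3
  rw [← hk]
  refine Nat.eq_of_mul_eq_mul_left (Nat.card_pos (α := f.ker)) ?_
  rw [h3]
  refine Nat.sub_eq_of_eq_add ?_
  ring

theorem eq_of_fix {ρ : F ≃+* F} (h : ∀ a, τ a = a → ρ a = a) : ρ = 1 ∨ ρ = τ := by
  obtain ⟨w, hw⟩ := fld_exists_ne h2 h1
  have e1 := h (w + τ w) (by rw [map_add, fld_ττ hτ, add_comm])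
  have e2 := h (w * τ w) (by rw [map_mul, fld_ττ hτ, mul_comm])
  rw [map_add] at e1
  rw [map_mul] at e2
  have e3 : (ρ w - w) * (ρ w - τ w) = 0 := by
    linear_combination ρ w * e1 - e2
  have dec : ∀ x, ∃ a b, τ a = a ∧ τ b = b ∧ x = a + b * w := by
    intro x
    have hb : τ ((x + τ x) / (w + τ w)) = (x + τ x) / (w + τ w) := by
      rw [map_div₀, map_add, map_add, fld_ττ hτ, fld_ττ hτ, add_comm (τ x), add_comm (τ w)]
    have hb' : (x + τ x) / (w + τ w) * (w + τ w) = x + τ x := div_mul_cancel₀ _ hw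
    refine ⟨x - (x + τ x) / (w + τ w) * w, _, ?_, hb, by ring⟩
    rw [map_sub, map_mul, hb]
    linear_combination hb' + (τ x - (x + τ x) / (w + τ w) * τ w) * h2
  rcases mul_eq_zero.1 e3 with e | e
  · refine Or.inl (RingEquiv.ext fun x => ?_)
    obtain ⟨a, b, ha, hb, rfl⟩ := dec x
    rw [map_add, map_mul, h a ha, h b hb, sub_eq_zero.1 e]
    rfl
  · refine Or.inr (RingEquiv.ext fun x => ?_)
    obtain ⟨a, b, ha, hb, rfl⟩ := dec x
    rw [map_add, map_mul, h a ha, h b hb, sub_eq_zero.1 e, map_add, map_mul, ha, hb]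

theorem eq_of_sq {ρ : F ≃+* F} (h : ρ * ρ = 1) : ρ = 1 ∨ ρ = τ := by
  have := U3S.fld_cyclic F
  have := Suz2.finite_ringEquiv F
  have ho : orderOf τ = 2 :=
    haveI : Fact (Nat.Prime 2) := ⟨Nat.prime_two⟩
    orderOf_eq_prime (by rw [sq, hτ]) h1
  obtain ⟨j, rfl⟩ := U3S.fld_mem_zpowers (γ := ρ) (δ := τ)
    (by rw [ho]; exact orderOf_dvd_of_pow_eq_one (by rw [sq, h]))
  rw [← pow_mod_orderOf, ho]
  rcases Nat.mod_two_eq_zero_or_one j with e | e
  · rw [e, pow_zero]; exact Or.inl rfl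
  · rw [e, pow_one]; exact Or.inr rfl

end

theorem isCyclic_aut : IsCyclic (F ≃+* F) := U3S.fld_cyclic F

theorem exists_gen : ∃ l : F, Suz2.IsGen l := by
  obtain ⟨g, hg⟩ := IsCyclic.exists_generator (α := Fˣ)
  refine ⟨g, g.ne_zero, fun t ht => ?_⟩
  obtain ⟨n, hn⟩ := mem_powers_iff_mem_zpowers.2 (hg (Units.mk0 t ht))
  exact ⟨n, by simpa using congrArg Units.val hn⟩

/-- the only subgroups invariant under all scalars -/
theorem eq_top_of_scal {R : AddSubgroup F} (h : ∀ l, ∀ a ∈ R, l * a ∈ R) {a : F} (ha : a ∈ R) (h0 : a ≠ 0) :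
    R = ⊤ := by
  refine (AddSubgroup.eq_top_iff' R).2 fun x => ?_
  have := h (x / a) a ha
  rwa [div_mul_cancel₀ _ h0] at this

/-- the field with four elements -/
theorem four_cases (h : Nat.card F = 4) {w : F} (h0 : w ≠ 0) (h1 : w ≠ 1) :
    w * w = w + 1 ∧ ∀ a : F, a = 0 ∨ a = 1 ∨ a = w ∨ a = w + 1 := by
  have := Fintype.ofFinite F
  rw [Nat.card_eq_fintype_card] at h
  have h4 : ((4 : ℕ) : F) = 0 := h ▸ FiniteField.cast_card_eq_zero F
  have h2 : (2 : F) = 0 := by
    refine pow_eq_zero_iff (n := 2) two_ne_zero |>.1 ?_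
    rw [← h4]
    norm_num
  have hp : ∀ a : F, a * ((a - 1) * (a * a + a + 1)) = 0 := fun a => by
    have := FiniteField.pow_card a
    rw [h] at this
    linear_combination this
  have hw : w * w + w + 1 = 0 :=
    (mul_eq_zero.1 ((mul_eq_zero.1 (hp w)).resolve_left h0)).resolve_left (sub_ne_zero.2 h1)
  refine ⟨by linear_combination hw - (w + 1) * h2, fun a => ?_⟩
  rcases mul_eq_zero.1 (hp a) with e | e
  · exact Or.inl e
  rcases mul_eq_zero.1 e with e | e
  · exact Or.inr (Or.inl (sub_eq_zero.1 e))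
  have e' : (a - w) * (a - (w + 1)) = 0 := by
    linear_combination e + hw - (a * w + a + 1) * h2
  exact Or.inr (Or.inr ((mul_eq_zero.1 e').imp sub_eq_zero.1 sub_eq_zero.1))

end CfsgLib.JG
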