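import Mathlib
import Cfsg.Agent.Lib.JG.Defs
import Cfsg.Agent.Lib.SzS.Gen
import Cfsg.Agent.Lib.W2.Tools
import Cfsg.Agent.Lib.Transfer.Thompson
import Cfsg.Agent.Lib.TL2.Basic
import Cfsg.Agent.Lib.FS.R1D

/-! Standard subgroup `J₁` (plans/J1S.md; copy of Lib/GMS without the TI property, package GEN). -/

set_option autoImplicit false
set_option linter.unusedSectionVars false
set_option linter.unusedVariables false

namespace CfsgLib.JG

open Subgroup Cfsg CfsgLib.Tech CfsgLib.SzS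
open scoped MatrixGroups

variable {F : Type*} [Field F] [Finite F] {G : Type*} [Group G] [Finite G]

/-- G1: an involution inverting a fixed point free element of odd order acts freely -/
theorem free_conj {Y : Subgroup G} {k s : G} (hY : IsPGroup 2 Y) (hk : k ∈ normalizer (Y : Set G))
    (hs : s ∈ normalizer (Y : Set G)) (ss : s * s = 1) (ho : Odd (orderOf k)) (inv : s * k * s = k⁻¹)
    (fpf : ∀ y ∈ Y, k * y = y * k → y = 1) :
    (∀ y ∈ Y, s * y * (s * y) = 1 → ∃ z ∈ Y, z * s * z⁻¹ = s * y) ∧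
      Nat.card ↥(Y ⊓ centralizer {s}) ^ 2 ≤ Nat.card Y := by
  have si : s⁻¹ = s := inv_eq_of_mul_eq_one_right ss
  have fpf2 : ∀ y ∈ Y, k * k * y = y * (k * k) → y = 1 := fun y hy e => by
    obtain ⟨n, hn⟩ := ho
    have e1 : k = (k * k) ^ (n + 1) := by
      rw [← sq, ← pow_mul, show 2 * (n + 1) = orderOf k + 1 by omega, pow_succ, pow_orderOf_eq_one, one_mul]
    refine fpf y hy ?_
    rw [e1]
    exact (Commute.pow_left e (n + 1)).eq
  have hkk := mul_mem hk hk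
  have inv2 : s * (k * k) * s = (k * k)⁻¹ := by
    calc s * (k * k) * s = s * k * (s * s) * k * s := by rw [ss]; group
      _ = s * k * s * (s * k * s) := by group
      _ = _ := by rw [inv]; group
  refine ⟨fun y hy h => ?_, ?_⟩
  · obtain ⟨z, hz⟩ := (Finite.injective_iff_surjective (f := fun u : Y =>
      (⟨u * ((k * k)⁻¹ * (u : G)⁻¹ * (k * k)), mul_mem u.2
        (conj_mem_of_mem_normalizer' hkk (inv_mem u.2))⟩ : Y))).1 (fun a b e => by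
        have e1 : a * ((k * k)⁻¹ * (a : G)⁻¹ * (k * k)) = b * ((k * k)⁻¹ * (b : G)⁻¹ * (k * k)) :=
          congrArg Subtype.val e
        refine Subtype.ext (inv_mul_eq_one.1 (fpf2 _ (mul_mem (inv_mem b.2) a.2) ?_)).symm
        calc k * k * ((b : G)⁻¹ * a)
            = k * k * (b : G)⁻¹ * (a * ((k * k)⁻¹ * (a : G)⁻¹ * (k * k))) * (k * k)⁻¹ * a * (k * k) := by
              group
          _ = _ := by rw [e1]; group) ⟨s * y * s⁻¹, conj_mem_of_mem_normalizer hs hy⟩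
    have e : (z : G) * ((k * k)⁻¹ * (z : G)⁻¹ * (k * k)) = s * y * s⁻¹ := congrArg Subtype.val hz
    have e2 : s * y * (k * s * k⁻¹) = z * (k * k)⁻¹ * (z : G)⁻¹ := by
      calc s * y * (k * s * k⁻¹) = s * y * s⁻¹ * (s * k * s) * k⁻¹ := by group
        _ = _ := by rw [inv, ← e]; group
    have h' : k * s * k⁻¹ * (k * s * k⁻¹) = 1 := by
      calc k * s * k⁻¹ * (k * s * k⁻¹) = k * (s * s) * k⁻¹ := by group
        _ = 1 := by rw [ss]; group
    have e3 := left_inverts h h'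
    rw [e2] at e3
    have hy' : s⁻¹ * (z : G)⁻¹ * s * y * z ∈ Y :=
      mul_mem (mul_mem (conj_mem_of_mem_normalizer' hs (inv_mem z.2)) hy) z.2
    have e4 := fpf2 _ hy' (by
      have e5 : k * k * s⁻¹ = s⁻¹ * (k * k)⁻¹ := by
        rw [← inv2, ← mul_assoc, inv_mul_cancel_left, si]
      have e6 : s * y * z * (k * k) = z * (k * k)⁻¹ * (z : G)⁻¹ * (s * y) * z := by
        calc s * y * z * (k * k)
            = z * (k * k)⁻¹ * (z : G)⁻¹ * ((z * (k * k)⁻¹ * (z : G)⁻¹)⁻¹ * (s * y)) *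
              (z * (k * k) * (z : G)⁻¹) * z := by group
          _ = _ := by rw [← e3]; group
      calc k * k * (s⁻¹ * (z : G)⁻¹ * s * y * z) = k * k * s⁻¹ * ((z : G)⁻¹ * s * y * z) := by group
        _ = s⁻¹ * (z : G)⁻¹ * (z * (k * k)⁻¹ * (z : G)⁻¹ * (s * y) * z) := by rw [e5]; group
        _ = _ := by rw [← e6]; group)
    refine ⟨z, z.2, ?_⟩
    calc z * s * (z : G)⁻¹ = z * s * (s⁻¹ * (z : G)⁻¹ * s * y * z) * (z : G)⁻¹ := by rw [e4, mul_one]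
      _ = _ := by group
  · have := Sect.card_mul_le_of_disj (A := Y ⊓ centralizer {s}) (B := cj k (Y ⊓ centralizer {s})) (T := Y)
      inf_le_left (cj_le_iff.2 fun x hx => conj_mem_of_mem_normalizer hk hx.1) fun x h1 h2 => fpf2 x h2.1 (by
        have e1 : k⁻¹ * x * k * s = s * (k⁻¹ * x * k) := Sect.mem_cent.1 (mem_cj.1 h1).2
        have e2 : x * s = s * x := Sect.mem_cent.1 h2.2
        have e3 : k * k = k * s * k⁻¹ * s := by
          rw [← inv, mul_assoc (k * s), mul_assoc (s * k), ss, mul_one, mul_assoc k, ← mul_assoc s, ss,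
            one_mul]
        rw [e3]
        calc k * s * k⁻¹ * s * x = k * (s * (k⁻¹ * x * k)) * k⁻¹ * s := by rw [mul_assoc _ s, ← e2]; group
          _ = _ := by rw [← e1]; group)
    rwa [card_cj, ← sq] at this

/-- G2: transfer into a cyclic quotient -/
theorem exists_index_two_of_cyclic {H S Y : Subgroup G} {u : G} {m : ℕ} (hS : IsSylowIn 2 S H) (hY : Y ≤ S)
    (hn : S ≤ normalizer (Y : Set G)) (hu : u ∈ S) (ord : orderOf u = 2 ^ (m + 1))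
    (dec : ∀ s ∈ S, ∃ y ∈ Y, ∃ i : ℕ, s = y * u ^ i) (hf : ∀ g ∈ H, g * u ^ 2 ^ m * g⁻¹ ∉ Y) :
    ∃ N ≤ H, N.relIndex H = 2 ∧ u ∉ N := by
  have mul : ∀ {a b : G} {i j : ℕ}, a * (u ^ i)⁻¹ ∈ Y → b * (u ^ j)⁻¹ ∈ Y →
      a * b * (u ^ (i + j))⁻¹ ∈ Y := fun {a b i j} h1 h2 => by
    have e : a * b * (u ^ (i + j))⁻¹ = a * (u ^ i)⁻¹ * (u ^ i * (b * (u ^ j)⁻¹) * (u ^ i)⁻¹) := by group
    rw [e]
    exact mul_mem h1 (conj_mem_of_mem_normalizer (hn (pow_mem hu i)) h2)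
  have pw : ∀ {a : G} {i : ℕ}, a * (u ^ i)⁻¹ ∈ Y → ∀ n : ℕ, a ^ n * (u ^ (n * i))⁻¹ ∈ Y := fun {a i} h n => by
    induction n with
    | zero => simp
    | succ n ih => rw [pow_succ, Nat.succ_mul]; exact mul ih h
  have u2 : u ^ (2 ^ m * 2) = 1 := by rw [← pow_succ, ← ord, pow_orderOf_eq_one]
  have u0 : u ^ 2 ^ m ∉ Y := by simpa using hf 1 H.one_mem
  have par : ∀ {a : G} {i : ℕ}, a * (u ^ i)⁻¹ ∈ Y → (a ^ 2 ^ m ∈ Y ↔ Even i) := fun {a i} h => by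
    have h1 := pw h (2 ^ m)
    rcases Nat.even_or_odd' i with ⟨j, rfl | rfl⟩
    · rw [← mul_assoc, pow_mul, u2, one_pow, inv_one, mul_one] at h1
      exact iff_of_true h1 (even_two_mul j)
    · rw [mul_add, ← mul_assoc, pow_add, pow_mul, u2, one_pow, one_mul, mul_one] at h1
      refine iff_of_false (fun h2 => u0 ?_) (Nat.not_even_iff_odd.2 (odd_two_mul_add_one j))
      simpa using mul_mem (inv_mem h1) h2
  have dec' : ∀ s ∈ S, ∃ i : ℕ, s * (u ^ i)⁻¹ ∈ Y := fun s hs => by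
    obtain ⟨y, hy, i, rfl⟩ := dec s hs
    exact ⟨i, by simpa using hy⟩
  let Q : Subgroup G :=
    { carrier := {s | s ∈ S ∧ s ^ 2 ^ m ∈ Y}
      one_mem' := ⟨S.one_mem, by simp⟩
      mul_mem' := fun {a b} ha hb => ⟨mul_mem ha.1 hb.1, by
        obtain ⟨i, hi⟩ := dec' a ha.1
        obtain ⟨j, hj⟩ := dec' b hb.1
        exact (par (mul hi hj)).2 (((par hi).1 ha.2).add ((par hj).1 hb.2))⟩
      inv_mem' := fun {a} ha => ⟨inv_mem ha.1, by rw [inv_pow]; exact inv_mem ha.2⟩ }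
  have hQ : ∀ s, s ∈ Q ↔ s ∈ S ∧ s ^ 2 ^ m ∈ Y := fun s => Iff.rfl
  have i2 : Q.relIndex S = 2 := le_antisymm (Sect.relIndex_le_two fun x hx y hy h1 h2 => by
    obtain ⟨i, hi⟩ := dec' x⁻¹ (inv_mem hx)
    obtain ⟨j, hj⟩ := dec' y hy
    have o1 : ¬ Even i := fun e => h1 (inv_mem_iff.1 ((hQ _).2 ⟨inv_mem hx, (par hi).2 e⟩))
    have o2 : ¬ Even j := fun e => h2 ((hQ _).2 ⟨hy, (par hj).2 e⟩)
    exact (hQ _).2 ⟨mul_mem (inv_mem hx) hy, (par (mul hi hj)).2 (Nat.even_add.2 (iff_of_false o1 o2))⟩)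
    (Sect.two_le_relIndex fun e => u0 ((hQ u).1 (e hu)).2)
  obtain ⟨M, -, h1, h2⟩ := Transfer.exists_index_two_of_parity (G := H) (H := S.subgroupOf H)
    (Q := Q.subgroupOf H) hS.not_dvd (by rw [relIndex_subgroupOf hS.le, i2]) ⟨u, hS.le hu⟩
    fun k g h3 h4 => by
      have h5 : (g : G)⁻¹ * u ^ k * g ∈ S := h3
      have e : ((g : G)⁻¹ * u ^ k * g) ^ 2 ^ m = (g : G)⁻¹ * u ^ (2 ^ m * k) * (g : G)⁻¹⁻¹ := by
        rw [← inv_inv (g : G), inv_inv (g : G)⁻¹, conj_pow, ← pow_mul, mul_comm]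
      change (g : G)⁻¹ * u ^ k * g ∈ Q ↔ _
      rw [hQ, e]
      rw [orderOf_mk, ord] at h4
      obtain ⟨i, -, rfl⟩ := (Nat.dvd_prime_pow Nat.prime_two).1 h4
      rcases i with _ | i
      · rw [pow_zero, mul_one]
        exact iff_of_false (fun h => hf _ (inv_mem g.2) h.2) (by decide)
      · refine iff_of_true ⟨h5, ?_⟩ (by rw [pow_succ]; exact even_two.mul_left _)
        rw [pow_succ', ← mul_assoc, pow_mul, u2]
        simp
  refine ⟨M.map H.subtype, map_subtype_le M, ?_, fun h => h2 ?_⟩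
  · rw [relIndex, subgroupOf, comap_map_eq_self_of_injective H.subtype_injective, h1]
  · obtain ⟨x, hx, e⟩ := h
    rwa [show x = ⟨u, hS.le hu⟩ from Subtype.ext e] at hx

/-- G3: Thompson transfer for `t` -/
theorem not_mem_of_transfer {t : G} {L S Q : Subgroup G} (hL : Top t L) (tt : t * t = 1)
    (hS : IsSylowIn 2 S ⊤) (ht : t ∈ S) (hQ : Q ≤ S) (hd : ∀ s ∈ S, s ∈ Q ∨ t * s ∈ Q)
    (hf : ∀ g : G, g * t * g⁻¹ ∉ Q) : t ∉ L := by
  have t0 : t ∉ Q := by simpa using hf 1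
  have i2 : Q.relIndex S = 2 := le_antisymm (Sect.relIndex_le_two fun x hx y hy h1 h2 => by
    have := mul_mem (inv_mem ((hd x hx).resolve_left h1)) ((hd y hy).resolve_left h2)
    rwa [mul_inv_rev, mul_assoc, inv_mul_cancel_left] at this) (Sect.two_le_relIndex fun e => t0 (e ht))
  rcases Transfer.thompson_transfer (relIndex_top_right S ▸ hS.not_dvd) i2
    (orderOf_two_of_mul_self tt fun e => t0 (e ▸ Q.one_mem)) with ⟨N, -, h2, h3⟩ | ⟨g, hg⟩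
  · exact fun e => h3 (hL.no2 N h2 e)
  · exact (hf g hg).elim

theorem mem_of_odd {t x : G} {L : Subgroup G} (hL : Top t L) (hx : Odd (orderOf x)) : x ∈ L := by
  have h : x * x ∈ L := (hL.gen x).elim (fun e => mul_mem e e) fun e => (hL.gen x⁻¹).elim
    (fun e' => mul_mem (inv_mem_iff.1 e') (inv_mem_iff.1 e')) fun e' => by
      have := mul_mem (inv_mem e') e
      rwa [mul_inv_rev, inv_inv, mul_assoc, inv_mul_cancel_left] at this
  obtain ⟨k, hk⟩ := hx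
  have e : x = (x * x) ^ (k + 1) := by
    rw [← sq, ← pow_mul, show 2 * (k + 1) = orderOf x + 1 by omega, pow_succ, pow_orderOf_eq_one, one_mul]
  exact e ▸ pow_mem h _

theorem eq_top_of_mem {t : G} {L : Subgroup G} (hL : Top t L) (ht : t ∈ L) : L = ⊤ :=
  (eq_top_iff' L).2 fun g => (hL.gen g).elim id fun e => (mul_mem_cancel_left ht).1 e

/-- G4: an involution fixes at least the square root of an elementary abelian group -/
theorem card_le_sq {X : Subgroup G} {s : G} (el : ∀ x ∈ X, x * x = 1) (hs : s ∈ normalizer (X : Set G))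
    (ss : s * s ∈ centralizer (X : Set G)) : Nat.card X ≤ Nat.card ↥(X ⊓ centralizer {s}) ^ 2 := by
  rw [sq]
  refine card_le_of_comm fun x hx => ?_
  have h1 := conj_mem_of_mem_normalizer hs hx
  have xi : x⁻¹ = x := inv_eq_of_mul_eq_one_right (el x hx)
  have e : x * s * x⁻¹ * s⁻¹ = x * (s * x * s⁻¹) := by rw [xi]; group
  rw [e]
  refine ⟨mul_mem hx h1, Sect.mem_cent.2 ?_⟩
  have e1 : x * (s * s) = s * s * x := Sect.mem_cent'.1 ss x hx
  calc x * (s * x * s⁻¹) * s = x * (s * x * s⁻¹) * s := rfl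
    _ = s * x * s⁻¹ * x * s := by rw [Sect.comm_of_sq el hx h1]
    _ = s * x * s⁻¹ * (x * (s * s)) * s⁻¹ := by group
    _ = _ := by rw [e1]; group

/-- G5: `SzS.syl_of_fus` inside a subgroup -/
theorem syl_of_fus_in {t : G} {P Y K : Subgroup G} (hP : IsSylowIn 2 P (K ⊓ centralizer {t}))
    (hY : IsPGroup 2 Y) (hPY : P ≤ Y) (hYK : Y ≤ K)
    (h : ∀ g ∈ K, g ∈ normalizer (Y : Set G) → ∃ y ∈ Y, g * t * g⁻¹ = y * t * y⁻¹) : IsSylowIn 2 Y K := by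
  have := Fact.mk Nat.prime_two
  refine isSylowIn_of_isSylowIn_normalizer hYK (isSylowIn_of_maximal hY (le_inf hYK le_normalizer)
    fun R hR h1 h2 r hr => ?_)
  obtain ⟨y, hy, e⟩ := h r (h2 hr).1 (h2 hr).2
  have e1 := hP.eq_of_le (hR.to_le (inf_le_left : R ⊓ centralizer {t} ≤ R))
    (le_inf (hPY.trans h1) (hP.le.trans inf_le_right)) (inf_le_inf_right _ (h2.trans inf_le_left))
  have : y⁻¹ * r ∈ P := e1.le ⟨R.mul_mem (R.inv_mem (h1 hy)) hr, Sect.mem_cent.2 (by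
    calc y⁻¹ * r * t = y⁻¹ * (r * t * r⁻¹) * r := by group
      _ = _ := by rw [e]; group)⟩
  simpa using mul_mem hy (hPY this)

/-- G10: the involutions of `tY` when `|Y| = |C_Y(t)| ^ 3` and `Y / C_Y(t)` is elementary -/
theorem cls_of_cube {Y Z : Subgroup G} {t : G} (tt : t * t = 1) (ht : t ∈ normalizer (Y : Set G)) (hZ : Z ≤ Y)
    (ct : ∀ y ∈ Y, y * t = t * y ↔ y ∈ Z) (sq : ∀ y ∈ Y, y * y ∈ Z) (cen : ∀ z ∈ Z, ∀ y ∈ Y, y * z = z * y)
    (hc : Nat.card Y = Nat.card Z ^ 3) {y : G} (hy : y ∈ Y) (h : t * y * (t * y) = 1) :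
    ∃ z ∈ Y, t * y = z * t * z⁻¹ := by
  have ti : t⁻¹ = t := inv_eq_of_mul_eq_one_right tt
  have cz : ∀ z ∈ Z, ∀ a ∈ Y, a * z * a⁻¹ = z := fun z hz a ha => by rw [cen z hz a ha]; group
  let P : Subgroup G :=
    { carrier := {a | a ∈ Y ∧ a * t * a⁻¹ * t⁻¹ ∈ Z}
      one_mem' := ⟨Y.one_mem, by simp⟩
      mul_mem' := fun {a b} ha hb => ⟨mul_mem ha.1 hb.1, by
        have e : a * b * t * (a * b)⁻¹ * t⁻¹ = a * (b * t * b⁻¹ * t⁻¹) * a⁻¹ * (a * t * a⁻¹ * t⁻¹) := by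
          group
        rw [e, cz _ hb.2 a ha.1]
        exact mul_mem hb.2 ha.2⟩
      inv_mem' := fun {a} ha => ⟨inv_mem ha.1, by
        have e : a⁻¹ * t * a⁻¹⁻¹ * t⁻¹ = a⁻¹ * (a * t * a⁻¹ * t⁻¹)⁻¹ * a⁻¹⁻¹ := by group
        rw [e, cz _ (inv_mem ha.2) _ (inv_mem ha.1)]
        exact inv_mem ha.2⟩ }
  have hP : Nat.card P ≤ Nat.card Z * Nat.card Z :=
    (card_le_of_comm (S := P) (Z := Z) (v := t) fun a ha => ha.2).trans (Nat.mul_le_mul_right _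
      (card_le_of_le fun a ha => (ct a ha.1.1).1 (Sect.mem_cent.1 ha.2)))
  have key : ∀ a ∈ Y, t * a * (t * a) = 1 → a ∈ P := fun a ha h => ⟨ha, by
    have e : a * t⁻¹ * a⁻¹ * t⁻¹ = a * a * (t * a * (t * a))⁻¹ := by group
    rw [h, inv_one, mul_one, ti] at e
    rw [ti, e]
    exact sq a ha⟩
  have hc1 := TL2.card_conj Y t
  rw [show Y ⊓ centralizer {t} = Z from le_antisymm (fun a ha => (ct a ha.1).1 (Sect.mem_cent.1 ha.2))
    fun a ha => ⟨hZ ha, Sect.mem_cent.2 ((ct a (hZ ha)).2 ha)⟩, hc, pow_succ, pow_two] at hc1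
  have hc2 := Nat.eq_of_mul_eq_mul_right Nat.card_pos hc1
  have hsub : {w | ∃ z ∈ Y, z * t * z⁻¹ = w} ⊆ (fun a => t * a) '' (P : Set G) := by
    rintro _ ⟨z, hz, rfl⟩
    refine ⟨t⁻¹ * z * t * z⁻¹, key _ (mul_mem (conj_mem_of_mem_normalizer' ht hz) (inv_mem hz)) ?_, by group⟩
    calc t * (t⁻¹ * z * t * z⁻¹) * (t * (t⁻¹ * z * t * z⁻¹)) = z * (t * t) * z⁻¹ := by group
      _ = 1 := by rw [tt]; group
  have he := Set.eq_of_subset_of_ncard_le hsub (by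
    rw [hc2, Set.ncard_image_of_injective _ (mul_right_injective t), ← Nat.card_coe_set_eq]
    exact hP)
  obtain ⟨z, hz, e⟩ := he.ge ⟨y, key y hy h, rfl⟩
  exact ⟨z, hz, e.symm⟩

/-- G11: 2-elements of the automorphism group of an elementary abelian group of order 16 -/
theorem pow_four_of_card {Y : Type*} [Group Y] [Finite Y] (el : ∀ y : Y, y * y = 1) (hc : Nat.card Y = 16)
    {β : MulAut Y} (h : IsPGroup 2 (zpowers β)) : β ^ 4 = 1 := by
  have comm : ∀ a b : Y, a * b = b * a := fun a b =>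
    Sect.comm_of_sq (V := ⊤) (fun x _ => el x) (mem_top a) (mem_top b)
  have inv : ∀ a : Y, a⁻¹ = a := fun a => inv_eq_of_mul_eq_one_right (el a)
  obtain ⟨n, hn⟩ := isPGroup_iff_mem.1 h β (mem_zpowers β)
  let N : Y →* Y := MonoidHom.mk' (fun y => β y * y⁻¹) fun a b => by
    rw [map_mul, mul_inv_rev, comm b⁻¹, mul_assoc, mul_assoc, ← mul_assoc (β b), comm (β b), mul_assoc]
  have hN : ∀ y, N y = β y * y⁻¹ := fun y => rfl
  have step : ∀ K : Subgroup Y, (∀ y ∈ K, β y ∈ K) →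
      (∀ y ∈ K.comap N, β y ∈ K.comap N) ∧ (K.comap N ≠ ⊤ → K ≠ ⊤ ∧ 2 * Nat.card K ≤ Nat.card (K.comap N)) := by
    intro K hK
    have le : K ≤ K.comap N := fun y hy => mul_mem (hK y hy) (inv_mem hy)
    refine ⟨fun y hy => ?_, fun h1 => ?_⟩
    · have := hK _ hy
      rwa [hN, map_mul, map_inv] at this
    have h2 : K ≠ ⊤ := fun e => h1 (by rw [e, comap_top])
    obtain ⟨s, -, h3, h4⟩ := FS.r1d_fix (V := K) (S := ⊤)
      (fun a _ v hv => by rwa [comm a, mul_inv_cancel_right])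
      (fun a _ b _ => by rw [comm a b, mul_inv_cancel_right, mul_inv_cancel]; exact K.one_mem)
      (fun a _ => by rw [el]; exact K.one_mem)
      (by by_contra hc; push Not at hc; exact h2 ((eq_top_iff' K).2 fun x => hc x (mem_top x)))
      n β hn fun _ _ => mem_top _
    exact ⟨h2, Sect.two_mul_card_le le fun e => h3 (e h4)⟩
  obtain ⟨a1, b1⟩ := step ⊥ fun y hy => by rw [mem_bot.1 hy, map_one]; exact one_mem _
  obtain ⟨a2, b2⟩ := step _ a1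
  obtain ⟨a3, b3⟩ := step _ a2
  obtain ⟨-, b4⟩ := step _ a3
  have top : ((((⊥ : Subgroup Y).comap N).comap N).comap N).comap N = ⊤ := by
    by_contra c4
    obtain ⟨c3, d4⟩ := b4 c4
    obtain ⟨c2, d3⟩ := b3 c3
    obtain ⟨c1, d2⟩ := b2 c2
    obtain ⟨-, d1⟩ := b1 c1
    have d5 := Sect.two_mul_card_le le_top fun e => c4 (top_le_iff.1 e)
    rw [card_top, hc] at d5
    rw [card_bot] at d1
    omega
  have NN : ∀ y, N (N y) = β (β y) * y⁻¹ := fun y => by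
    rw [hN, hN, map_mul, map_inv, inv (β y * y⁻¹), inv (β y), mul_assoc, ← mul_assoc (β y), el, one_mul]
  ext y
  have e : N (N (N (N y))) = 1 := mem_bot.1 (top.ge (mem_top y))
  rw [NN, NN, map_mul, map_mul, map_inv, map_inv, inv (β (β y) * y⁻¹), inv (β (β y)), mul_assoc,
    ← mul_assoc (β (β y)), el, one_mul, mul_inv_eq_one] at e
  exact e

/-- G12: the Sylow subgroup of `L` -/
theorem syl_inf {t : G} {L S : Subgroup G} (hL : Top t L) (hS : IsSylowIn 2 S ⊤) : IsSylowIn 2 (S ⊓ L) L := by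
  have := Fact.mk Nat.prime_two
  have := hS.inf_of_le_normalizer (N := L) (normalizer_eq_top_iff.2 hL.norm).ge
  rwa [top_inf_eq] at this

variable {Y S L : Subgroup G}

theorem WC.le_normalizer (h : WC Y S L) (hY : Y ≤ S) (hS : S ≤ L) : S ≤ normalizer (Y : Set G) :=
  fun s hs => mem_normalizer_iff_cj.2
    (h s (hS hs) (cj_le_iff.2 fun _ hx => mul_mem (mul_mem hs (hY hx)) (inv_mem hs)))

/-- G6 -/
theorem WC.syl (h : WC Y S L) (hY : Y ≤ S) (hS : IsSylowIn 2 S (L ⊓ normalizer (Y : Set G))) :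
    IsSylowIn 2 S L := by
  have := Fact.mk Nat.prime_two
  have hL : S ≤ L := hS.le.trans inf_le_left
  refine isSylowIn_of_isSylowIn_normalizer hL (hS.of_le (le_inf hL Subgroup.le_normalizer) fun x hx => ⟨hx.1, ?_⟩)
  exact mem_normalizer_iff_cj.2
    (h x hx.1 (cj_le_iff.2 fun _ hy => conj_mem_of_mem_normalizer hx.2 (hY hy)))

/-- G7: two conjugates of `Y` in a 2-subgroup of `L` are equal -/
theorem WC.cj_eq (h : WC Y S L) (hS : IsSylowIn 2 S L) {P : Subgroup G} (hP : IsPGroup 2 P) (hPL : P ≤ L)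
    {g g' : G} (hg : g ∈ L) (hg' : g' ∈ L) (h1 : cj g Y ≤ P) (h2 : cj g' Y ≤ P) : cj g Y = cj g' Y := by
  have := Fact.mk Nat.prime_two
  obtain ⟨k, hk, e⟩ := hS.exists_cj_le hP hPL
  refine cj_injective k ?_
  rw [← cj_mul, ← cj_mul, h _ (mul_mem hk hg) (cj_mul k g Y ▸ (cj_mono k h1).trans e),
    h _ (mul_mem hk hg') (cj_mul k g' Y ▸ (cj_mono k h2).trans e)]

theorem WC.le_norm (h : WC Y S L) (hS : IsSylowIn 2 S L) {P : Subgroup G} (hP : IsPGroup 2 P) (hPL : P ≤ L)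
    {g : G} (hg : g ∈ L) (h1 : cj g Y ≤ P) : P ≤ normalizer (cj g Y : Set G) := fun p hp =>
  mem_normalizer_iff_cj.2 (by
    rw [← cj_mul]
    refine h.cj_eq hS hP hPL (mul_mem (hPL hp) hg) hg ?_ h1
    rw [cj_mul, ← cj_eq_of_mem hp]
    exact cj_mono p h1)

/-- G8: two conjugates of `Y` in `K ≤ L` are conjugate in `K` -/
theorem WC.exists_cj (h : WC Y S L) (hY : Y ≤ S) (hS : IsSylowIn 2 S L) {K : Subgroup G} (hK : K ≤ L)
    {g g' : G} (hg : g ∈ L) (hg' : g' ∈ L) (h1 : cj g Y ≤ K) (h2 : cj g' Y ≤ K) :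
    ∃ k ∈ K, cj (k * g) Y = cj g' Y := by
  have := Fact.mk Nat.prime_two
  have hY2 := hS.pgroup.to_le hY
  obtain ⟨P, hP, h3⟩ := exists_isSylowIn_ge (isPGroup_cj g' hY2) h2
  obtain ⟨k, hk, e⟩ := hP.exists_cj_le (isPGroup_cj g hY2) h1
  exact ⟨k, hk, h.cj_eq hS hP.pgroup (hP.le.trans hK) (mul_mem (hK hk) hg) hg' (cj_mul k g Y ▸ e) h3⟩

/-- G9: a weakly closed elementary abelian subgroup that is not strongly closed -/
theorem WC.scc (h : WC Y S L) (hY : Y ≤ S) (hS : IsSylowIn 2 S L) (el : ∀ y ∈ Y, y * y = 1)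
    (hn : ¬ Gold.SC Y L) : ∃ β ∈ S, β ∉ Y ∧ β * β = 1 ∧ ∃ β' ∈ Y, ∃ Z0 Z1 : Subgroup G, Z0 ≤ Z1 ∧ Z1 ≤ S ∧
      (∀ z ∈ Z1, z * z = 1) ∧ ¬ Z0 ≤ Y ∧ Z1 ⊓ Y ≤ Z0 ∧ β' ∉ Z1 ∧ (∀ z ∈ Z0, z * β' = β' * z) ∧
      Nat.card Z0 = Nat.card ↥(Y ⊓ centralizer {β}) ∧
      Nat.card Y * Nat.card ↥(Z1 ⊓ Y) ≤ Nat.card Z1 * Nat.card ↥(Y ⊓ centralizer {β}) := by
  have := Fact.mk Nat.prime_two
  have hY2 := hS.pgroup.to_le hY
  have hYL := hY.trans hS.le
  obtain ⟨y₀, hy₀, g, hg, hβS, hβY⟩ : ∃ a ∈ Y, ∃ g ∈ L, g * a * g⁻¹ ∈ S ∧ g * a * g⁻¹ ∉ Y := by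
    by_contra hc
    push Not at hc
    exact hn (Gold.sc_of_isSylowIn hS hY hc)
  have hβg : g * y₀ * g⁻¹ ∈ cj g Y := conj_mem_cj.2 hy₀
  generalize g * y₀ * g⁻¹ = β at hβS hβY hβg
  have elc : ∀ k, ∀ z ∈ cj k Y, z * z = 1 := fun k z hz => by
    have := el _ (mem_cj.1 hz)
    calc z * z = k * (k⁻¹ * z * k * (k⁻¹ * z * k)) * k⁻¹ := by group
      _ = 1 := by rw [this]; group
  have ββ := elc g β hβg
  have hβn := h.le_normalizer hY hS.le hβS
  set K0 := Y ⊓ centralizer {β} with hK0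
  obtain ⟨g₁, ⟨hg₁, hβ₁⟩, hmax⟩ := Set.exists_max_image {k | k ∈ L ∧ β ∈ cj k Y}
    (fun k => Nat.card ↥(K0 ⊓ cj k Y)) (Set.toFinite _) ⟨g, hg, hβg⟩
  have cm : ∀ a ∈ Y, ∀ b ∈ Y, a * b = b * a := fun a ha b hb => Sect.comm_of_sq el ha hb
  let φ : Y →* G := MonoidHom.mk' (fun y => y * β * (y : G)⁻¹ * β⁻¹) fun a b => by
    have e := cm _ a.2 _ (mul_mem b.2 (conj_mem_of_mem_normalizer hβn (inv_mem b.2)))
    have e' := cm _ (mul_mem a.2 (conj_mem_of_mem_normalizer hβn (inv_mem a.2))) _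
      (mul_mem b.2 (conj_mem_of_mem_normalizer hβn (inv_mem b.2)))
    calc (a * b : G) * β * (a * b : G)⁻¹ * β⁻¹
        = a * (b * (β * (b : G)⁻¹ * β⁻¹)) * (β * (a : G)⁻¹ * β⁻¹) := by group
      _ = b * (β * (b : G)⁻¹ * β⁻¹) * (a * (β * (a : G)⁻¹ * β⁻¹)) := by rw [e]; group
      _ = _ := by rw [← e']; group
  have hφ : ∀ y : Y, φ y = y * β * (y : G)⁻¹ * β⁻¹ := fun y => rfl
  have φK : ∀ y : Y, φ y ∈ K0 := fun y => by
    have h1 := conj_mem_of_mem_normalizer hβn (inv_mem y.2)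
    have e : φ y = y * (β * (y : G)⁻¹ * β⁻¹) := by rw [hφ]; group
    rw [e]
    refine ⟨mul_mem y.2 h1, Sect.mem_cent.2 ?_⟩
    have yi : (y : G)⁻¹ = y := inv_eq_of_mul_eq_one_right (el y y.2)
    rw [yi] at h1 ⊢
    calc y * (β * y * β⁻¹) * β = β * y * β⁻¹ * y * β := by rw [cm _ y.2 _ h1]
      _ = β * y * β⁻¹ * ((β * β) * y * (β * β)⁻¹) * β := by rw [ββ]; group
      _ = _ := by group
  let Y2 : Subgroup G := ((cj g₁ Y).comap φ).map Y.subtype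
  have hY2m : ∀ y, y ∈ Y2 ↔ y ∈ Y ∧ y * β * y⁻¹ * β⁻¹ ∈ cj g₁ Y := fun y =>
    ⟨by rintro ⟨x, hx, rfl⟩; exact ⟨x.2, hx⟩, fun hy => ⟨⟨y, hy.1⟩, hy.2, rfl⟩⟩
  have Y2Y : Y2 ≤ Y := map_subtype_le _
  have KY2 : K0 ≤ Y2 := fun y hy => (hY2m y).2 ⟨hy.1, by
    rw [Sect.mem_cent.1 hy.2]; simp⟩
  have hcard : Nat.card Y * Nat.card ↥(K0 ⊓ cj g₁ Y) ≤ Nat.card Y2 * Nat.card K0 := by
    have e1 : Nat.card Y2 = Nat.card ((cj g₁ Y).comap φ) := card_map_of_injective Y.subtype_injective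
    have e2 := Sect.relIndex_mono_right (cj g₁ Y) (show φ.range ≤ K0 by rintro _ ⟨y, rfl⟩; exact φK y)
    rw [← index_comap] at e2
    rw [e1, ← ((cj g₁ Y).comap φ).card_mul_index, Sect.card_eq_relIndex (cj g₁ Y) K0, inf_comm K0,
      mul_assoc, mul_comm _ (Nat.card ↥(cj g₁ Y ⊓ K0))]
    exact Nat.mul_le_mul_left _ (Nat.mul_le_mul_left _ e2)
  set B := K0 ⊓ cj g₁ Y ⊔ zpowers β with hB
  have BY : B ≤ cj g₁ Y := sup_le inf_le_right (zpowers_le.2 hβ₁)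
  have nB : Y2 ≤ normalizer (B : Set G) := fun y hy => mem_normalizer_of_cj_le (by
    rw [hB, cj_sup, cj_zpowers]
    refine sup_le (cj_le_iff.2 fun x hx => ?_) (zpowers_le.2 ?_)
    · rw [cm y (Y2Y hy) x hx.1.1, mul_inv_cancel_right]
      exact mem_sup_left hx
    · have e : y * β * y⁻¹ = y * β * y⁻¹ * β⁻¹ * β := by group
      rw [e]
      exact mul_mem (mem_sup_left ⟨φK ⟨y, Y2Y hy⟩, ((hY2m y).1 hy).2⟩) (mem_sup_right (mem_zpowers β)))
  obtain ⟨P, hP, hYP⟩ := exists_isSylowIn_ge (hY2.to_le Y2Y) (le_inf (Y2Y.trans hYL) nB)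
  have hP' := hP.inf_of_le_normalizer (N := centralizer (B : Set G)) fun x hx =>
    mem_normalizer_iff_cj.2 (by rw [cj_centralizer, mem_normalizer_iff_cj.1 hx.2])
  have cB : cj g₁ Y ≤ centralizer (B : Set G) := fun x hx =>
    Sect.mem_cent'.2 fun v hv => Sect.comm_of_sq (elc g₁) (BY hv) hx
  obtain ⟨c, hc, hcP⟩ := hP'.exists_cj_le (isPGroup_cj g₁ hY2) (le_inf (le_inf
    (cj_le_iff.2 fun x hx => mul_mem (mul_mem hg₁ (hYL hx)) (inv_mem hg₁))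
    (cB.trans (centralizer_le_normalizer _))) cB)
  rw [← cj_mul] at hcP
  replace hcP := hcP.trans inf_le_left
  have hcg := mul_mem hc.1.1 hg₁
  have BY' : B ≤ cj (c * g₁) Y := by
    rw [cj_mul, ← mem_normalizer_iff_cj.1 hc.1.2]
    exact cj_mono c BY
  have hβ₂ : β ∈ cj (c * g₁) Y := BY' (mem_sup_right (mem_zpowers β))
  have eK : K0 ⊓ cj g₁ Y = K0 ⊓ cj (c * g₁) Y :=
    eq_of_le_of_card_ge (le_inf inf_le_left (le_sup_left.trans BY')) (hmax _ ⟨hcg, hβ₂⟩)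
  have eI : Y2 ⊓ cj (c * g₁) Y = K0 ⊓ cj (c * g₁) Y := le_antisymm (fun y hy =>
    ⟨⟨Y2Y hy.1, Sect.mem_cent.2 (Sect.comm_of_sq (elc _) hy.2 hβ₂)⟩, hy.2⟩) (inf_le_inf_right _ KY2)
  have hPL : P ≤ L := hP.le.trans inf_le_left
  obtain ⟨k, hk, hkS⟩ := hS.exists_cj_le hP.pgroup hPL
  have eY : cj k (cj (c * g₁) Y) = Y := by
    rw [← cj_mul]
    exact h _ (mul_mem hk hcg) (cj_mul k _ Y ▸ (cj_mono k hcP).trans hkS)
  have eZ : cj k Y2 ⊓ Y = cj k (K0 ⊓ cj g₁ Y) := by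
    rw [eK, ← eI, cj_inf, eY]
  refine ⟨β, hβS, hβY, ββ, k * β * k⁻¹, eY ▸ conj_mem_cj.2 hβ₂, cj k K0, cj k Y2, cj_mono k KY2,
    (cj_mono k hYP).trans hkS, fun z hz => elc k z (cj_mono k Y2Y hz), fun hle => hβY ?_, ?_,
    fun hm => hβY (Y2Y (conj_mem_cj.1 hm)), fun z hz => ?_, card_cj _ _, ?_⟩
  · rw [← eY, cj_le_cj_iff] at hle
    have h1 : K0 ≤ cj g₁ Y := ((le_inf le_rfl hle).trans eK.ge).trans inf_le_right
    have h2 : Y ≤ P := fun y hy => hYP ((hY2m y).2 ⟨hy, h1 (φK ⟨y, hy⟩)⟩)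
    have h3 := h.cj_eq hS hP.pgroup hPL L.one_mem hcg ((cj_one Y).le.trans h2) hcP
    rw [cj_one] at h3
    exact h3.ge hβ₂
  · rw [eZ]
    exact cj_mono k inf_le_left
  · have e : k⁻¹ * z * k * β = β * (k⁻¹ * z * k) := Sect.mem_cent.1 (mem_cj.1 hz).2
    calc z * (k * β * k⁻¹) = k * (k⁻¹ * z * k * β) * k⁻¹ := by group
      _ = _ := by rw [e]; group
  · rw [eZ, card_cj, card_cj]
    exact hcard

end CfsgLib.JG
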