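import Mathlib
import Cfsg.Agent.Lib.JG.Fld
import Cfsg.Agent.Lib.JG.Gen
import Cfsg.Agent.Lib.U3S.Fld
import Cfsg.Agent.Lib.U3S.Gen2

/-! Standard subgroup `J₁` (plans/J1S.md; copy of Lib/GMS without the TI property, package BASE). -/

set_option autoImplicit false
set_option linter.unusedSectionVars false

namespace CfsgLib.JG

open Subgroup Cfsg CfsgLib.Tech CfsgLib.SzS
open scoped MatrixGroups

variable {F : Type*} [Field F] [Finite F] {G : Type*} [Group G] [Finite G]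

namespace Fr

variable (D : Fr F G)

omit [Finite F] in
/-- the order of a product of two subgroups with trivial intersection -/
theorem _root_.CfsgLib.JG.base_card {K A B : Subgroup G} (h : ∀ g, g ∈ K ↔ ∃ a ∈ A, ∃ b ∈ B, g = a * b)
    (h1 : ∀ x ∈ A, x ∈ B → x = 1) : Nat.card K = Nat.card A * Nat.card B := by
  rw [← Nat.card_prod]
  refine (Nat.card_eq_of_bijective (fun p : A × B => (⟨p.1.1 * p.2.1, (h _).2 ⟨_, p.1.2, _, p.2.2, rfl⟩⟩ : K))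
    ⟨?_, ?_⟩).symm
  · rintro ⟨⟨e, he⟩, ⟨p, hp⟩⟩ ⟨⟨e', he'⟩, ⟨p', hp'⟩⟩ h
    replace h : e * p = e' * p' := congrArg Subtype.val h
    have h2 : e'⁻¹ * e = 1 := h1 _ (mul_mem (inv_mem he') he) (by
      rw [show e'⁻¹ * e = e'⁻¹ * (e * p) * p⁻¹ by group, h, inv_mul_cancel_left]
      exact mul_mem hp' (inv_mem hp))
    obtain rfl := inv_mul_eq_one.1 h2
    obtain rfl := mul_left_cancel h
    rfl
  · rintro ⟨p, hp⟩
    obtain ⟨a, ha, b, hb, rfl⟩ := (h p).1 hp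
    exact ⟨⟨⟨a, ha⟩, ⟨b, hb⟩⟩, rfl⟩

omit [Finite F] in
/-- a cyclic group has at most one involution -/
theorem _root_.CfsgLib.JG.base_cyc {C : Subgroup G} (hC : IsCyclic C) {a b : G} (ha : a ∈ C) (hb : b ∈ C)
    (aa : a * a = 1) (bb : b * b = 1) (b1 : b ≠ 1) : a = 1 ∨ a = b :=
  (em _).imp_right fun e => Transfer.eq_of_orderOf_eq_two_of_isCyclic hC ha hb (orderOf_two_of_mul_self aa e)
    (orderOf_two_of_mul_self bb b1)

omit [Finite F] in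
/-- the involution of a cyclic 2-group -/
theorem _root_.CfsgLib.JG.base_inv {f : G} {b : ℕ} (h : orderOf f = 2 ^ (b + 1)) :
    f ^ 2 ^ b * f ^ 2 ^ b = 1 ∧ f ^ 2 ^ b ≠ 1 :=
  ⟨by rw [← pow_add, ← two_mul, ← pow_succ', ← h, pow_orderOf_eq_one], pow_ne_one_of_lt_orderOf (by positivity)
    (by rw [h]; exact Nat.pow_lt_pow_right one_lt_two (lt_add_one b))⟩

/-- two 2-elements of the automorphism group of a finite field -/
theorem _root_.CfsgLib.JG.base_chain {γ δ : F ≃+* F} {k l : ℕ} (h1 : γ ^ 2 ^ k = 1) (h2 : δ ^ 2 ^ l = 1) :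
    (∃ j : ℕ, γ = δ ^ j) ∨ ∃ j : ℕ, δ = γ ^ j := by
  have := U3S.fld_cyclic F
  have := Suz2.finite_ringEquiv F
  obtain ⟨i, -, e1⟩ := (Nat.dvd_prime_pow Nat.prime_two).1 (orderOf_dvd_of_pow_eq_one h1)
  obtain ⟨j, -, e2⟩ := (Nat.dvd_prime_pow Nat.prime_two).1 (orderOf_dvd_of_pow_eq_one h2)
  exact (le_total i j).imp (fun h => U3S.fld_mem_zpowers (e1 ▸ e2 ▸ pow_dvd_pow 2 h))
    fun h => U3S.fld_mem_zpowers (e1 ▸ e2 ▸ pow_dvd_pow 2 h)

/-- `x` acts on `V` as the field automorphism `γ` -/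
def Ac (x : G) (γ : F ≃+* F) : Prop := ∀ a, x * D.ι a * x⁻¹ = D.ι (γ a)

variable {D}

theorem Ac.mul {x y : G} {γ δ : F ≃+* F} (h : D.Ac x γ) (h' : D.Ac y δ) : D.Ac (x * y) (γ * δ) := fun a => by
  rw [show x * y * D.ι a * (x * y)⁻¹ = x * (y * D.ι a * y⁻¹) * x⁻¹ by group, h', h]
  rfl

theorem Ac.uniq {x : G} {γ δ : F ≃+* F} (h : D.Ac x γ) (h' : D.Ac x δ) : γ = δ :=
  RingEquiv.ext fun a => D.inj ((h a).symm.trans (h' a))

theorem ac_one {x : G} : D.Ac x 1 ↔ x ∈ centralizer (D.V : Set G) :=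
  ⟨fun h => by rintro _ ⟨a, rfl⟩; exact (mul_inv_eq_iff_eq_mul.1 (h a)).symm,
    fun h a => mul_inv_eq_iff_eq_mul.2 (h _ (D.ι_mem a)).symm⟩

theorem Ac.cent {x : G} {γ : F ≃+* F} (h : D.Ac x γ) : γ = 1 ↔ x ∈ centralizer (D.V : Set G) :=
  ⟨fun e => ac_one.1 (e ▸ h), fun e => h.uniq (ac_one.2 e)⟩

theorem Ac.pow {x : G} {γ : F ≃+* F} (h : D.Ac x γ) (n : ℕ) : D.Ac (x ^ n) (γ ^ n) := by
  induction n with
  | zero => rw [pow_zero, pow_zero]; exact ac_one.2 (one_mem _)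
  | succ n ih => rw [pow_succ, pow_succ]; exact ih.mul h

theorem Ac.div {x y : G} {γ : F ≃+* F} (h : D.Ac x γ) (h' : D.Ac y γ) : y⁻¹ * x ∈ centralizer (D.V : Set G) :=
  ac_one.1 fun a => by
    rw [show y⁻¹ * x * D.ι a * (y⁻¹ * x)⁻¹ = y⁻¹ * (x * D.ι a * x⁻¹) * y by group, h, ← h']
    simp [mul_assoc]

theorem Ac.comm {x : G} {γ : F ≃+* F} (h : D.Ac x γ) {a : F} : D.ι a * x = x * D.ι a ↔ γ a = a := by
  rw [eq_comm, ← mul_inv_eq_iff_eq_mul, h, D.inj.eq_iff]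

variable (D)

theorem ι_cent (a : F) : D.ι a ∈ centralizer (D.V : Set G) := by
  rintro _ ⟨b, rfl⟩
  exact D.ι_comm b a

theorem ac_T1 {x : G} (hx : x ∈ D.T1) : D.Ac x (D.σ x) := D.act x hx

theorem ac_mul (a : F) {x : G} (hx : x ∈ D.T1) : D.Ac (D.ι a * x) (D.σ x) := by
  simpa using (ac_one.2 (D.ι_cent a)).mul (D.ac_T1 hx)

theorem mul_ι {x : G} (hx : x ∈ D.T1) (a : F) : x * D.ι a = D.ι (D.σ x a) * x := mul_inv_eq_iff_eq_mul.1 (D.act x hx a)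

theorem ι_eq_one {a : F} : D.ι a = 1 ↔ a = 0 := by rw [← D.ι0, D.inj.eq_iff]

include D in
theorem eq_of_add {a b : F} (h : a + b = 0) : a = b := by linear_combination h - b * D.two

include D in
theorem one_add_ne {c : F} (h : c ≠ 1) : 1 + c ≠ 0 := fun e => h (D.eq_of_add e).symm

theorem η_one : D.η 1 = 1 := by
  have h := D.ηmul 1 1 one_ne_zero one_ne_zero
  rw [mul_one] at h
  exact mul_eq_left.1 h.symm

theorem η_pow {l : F} (hl : l ≠ 0) (n : ℕ) : D.η (l ^ n) = D.η l ^ n := by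
  induction n with
  | zero => rw [pow_zero, pow_zero, D.η_one]
  | succ n ih => rw [pow_succ, pow_succ, D.ηmul _ _ (pow_ne_zero n hl) hl, ih]

theorem η_inv {l : F} (hl : l ≠ 0) : D.η l⁻¹ = (D.η l)⁻¹ := by
  exact eq_inv_of_mul_eq_one_left (by rw [← D.ηmul _ _ (inv_ne_zero hl) hl, inv_mul_cancel₀ hl, D.η_one])

theorem η_odd {l : F} (hl : l ≠ 0) : Odd (orderOf (D.η l)) := by
  have := Fintype.ofFinite F
  obtain ⟨n, hn⟩ := card_two_pow D.two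
  have h4 := four_le_card D.two D.big
  refine Odd.of_dvd_nat (n := Nat.card F - 1) (Nat.Even.sub_odd (by omega) ?_ odd_one) (orderOf_dvd_of_pow_eq_one ?_)
  · rw [hn] at h4 ⊢
    exact (Nat.even_pow' (by rintro rfl; omega)).2 even_two
  · rw [← D.η_pow hl, Nat.card_eq_fintype_card, FiniteField.pow_card_sub_one_eq_one l hl, D.η_one]

theorem η_norm {l : F} (hl : l ≠ 0) : D.η l ∈ normalizer (D.V : Set G) := by
  refine mem_normalizer_of_forall ?_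
  rintro _ ⟨a, rfl⟩
  exact ⟨_, (D.ηι l a hl).symm⟩

theorem σ_mul {x y : G} (hx : x ∈ D.T1) (hy : y ∈ D.T1) : D.σ (x * y) = D.σ x * D.σ y := by
  exact (D.ac_T1 (mul_mem hx hy)).uniq ((D.ac_T1 hx).mul (D.ac_T1 hy))

theorem σ_pow {x : G} (hx : x ∈ D.T1) (n : ℕ) : D.σ (x ^ n) = D.σ x ^ n := by
  exact (D.ac_T1 (pow_mem hx n)).uniq ((D.ac_T1 hx).pow n)

theorem σ_eq_one {x : G} (hx : x ∈ D.T1) : D.σ x = 1 ↔ x ∈ centralizer (D.V : Set G) := by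
  exact (D.ac_T1 hx).cent

theorem σ_t : D.σ D.t = 1 := by
  exact (D.ac_T1 D.tT1).uniq fun a => by rw [D.tι, mul_inv_cancel_right]; rfl

theorem t_cent : D.t ∈ centralizer (D.V : Set G) := by
  exact (D.σ_eq_one D.tT1).1 D.σ_t

theorem T1_norm : D.T1 ≤ normalizer (D.V : Set G) := by
  refine fun x hx => mem_normalizer_of_forall ?_
  rintro _ ⟨a, rfl⟩
  exact ⟨_, (D.act x hx a).symm⟩

theorem T_norm : D.T ≤ normalizer (D.V : Set G) := by
  exact sup_le le_normalizer D.T1_norm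

theorem mem_T {x : G} : x ∈ D.T ↔ ∃ a, ∃ y ∈ D.T1, x = D.ι a * y := by
  refine ⟨fun h => ?_, by rintro ⟨a, y, hy, rfl⟩; exact mul_mem_sup (D.ι_mem a) hy⟩
  rw [T, sup_comm, Sect.mem_sup_of_norm fun y hy v => conj_mem_of_mem_normalizer (D.T1_norm hy)] at h
  obtain ⟨y, hy, _, ⟨a, rfl⟩, rfl⟩ := h
  exact ⟨_, y, hy, D.mul_ι hy a⟩

theorem mem_E {x : G} : x ∈ D.E ↔ ∃ a, x = D.ι a ∨ x = D.t * D.ι a := by
  rw [E, sup_comm, Sect.mem_sup_of_comm fun y hy v hv => (zpowers_le.2 D.t_cent hy v hv).symm]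
  simp only [Sect.mem_zpowers_two D.tt, exists_eq_or_imp, exists_eq_left, one_mul, D.mem_V, exists_exists_eq_and,
    exists_or]

theorem E_le : D.E ≤ D.T := by
  exact sup_le_sup_left (zpowers_le.2 D.tT1) _

theorem E_sq {x : G} (hx : x ∈ D.E) : x * x = 1 := by
  obtain ⟨a, rfl | rfl⟩ := D.mem_E.1 hx
  · exact D.ιι a
  · rw [mul_assoc, ← mul_assoc (D.ι a), ← D.tι, mul_assoc, D.ιι, mul_one, D.tt]

theorem T_comm {x : G} (hx : x ∈ D.T) : x * D.t = D.t * x := by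
  obtain ⟨a, y, hy, rfl⟩ := D.mem_T.1 hx
  rw [mul_assoc, D.T1t y hy, ← mul_assoc, ← D.tι, mul_assoc]

theorem t_not_mem : D.t ∉ D.V := by
  rintro ⟨a, h⟩
  exact D.tV a h

theorem eq_one_of_mem {x : G} (h1 : x ∈ D.V) (h2 : x ∈ D.T1) : x = 1 := by
  obtain ⟨a, rfl⟩ := h1
  obtain ⟨c, c0, c1⟩ := D.big
  have h := D.actη _ h2 c c0
  rw [(D.σ_eq_one h2).2 (D.ι_cent a), RingAut.one_apply, mul_inv_eq_iff_eq_mul, eq_comm, ← mul_inv_eq_iff_eq_mul,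
    D.ηι c a c0, D.inj.eq_iff] at h
  rw [D.ι_eq_one, ← mul_eq_zero_iff_left (D.one_add_ne c1)]
  linear_combination h + a * D.two

theorem card_V : Nat.card D.V = Nat.card F := by
  exact (Nat.card_eq_of_bijective (fun a => (⟨D.ι a, D.ι_mem a⟩ : D.V))
    ⟨fun a b h => D.inj (congrArg Subtype.val h), fun ⟨_, a, h⟩ => ⟨a, Subtype.ext h⟩⟩).symm

theorem card_E : Nat.card D.E = 2 * Nat.card F := by
  rw [base_card (fun g => Sect.mem_sup_of_comm fun v hv y hy => zpowers_le.2 D.t_cent hy v hv)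
    fun x h1 h2 => D.eq_one_of_mem h1 (zpowers_le.2 D.tT1 h2), D.card_V, Sect.card_zpowers_two D.tt D.t1, mul_comm]

theorem card_T : Nat.card D.T = Nat.card F * Nat.card D.T1 := by
  rw [base_card (A := D.V) (B := D.T1) (fun g => by simp only [D.mem_T, D.mem_V, exists_exists_eq_and])
    fun x => D.eq_one_of_mem, D.card_V]

include D in
theorem four_le : 4 ≤ Nat.card F := by
  exact four_le_card D.two D.big

variable {D} in
theorem Ac.card_inf {s : G} {γ : F ≃+* F} (h : D.Ac s γ) : Nat.card ↥(D.V ⊓ centralizer {s}) = Nat.card (fixA γ) :=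
  (Nat.card_eq_of_bijective (fun a : fixA γ => (⟨D.ι a, D.ι_mem _, Sect.mem_cent.2 (h.comm.2 a.2)⟩ :
    ↥(D.V ⊓ centralizer {s}))) ⟨fun _ _ e => Subtype.ext (D.inj (congrArg Subtype.val e)),
      fun ⟨_, ⟨a, rfl⟩, e⟩ => ⟨⟨a, h.comm.1 (Sect.mem_cent.1 e)⟩, rfl⟩⟩).symm

theorem sq_mul {y : G} (hy : y ∈ D.T1) {a : F} (h : D.ι a * y * (D.ι a * y) = 1) : y * y = 1 ∧ D.σ y a = a := by
  rw [mul_assoc, ← mul_assoc y, D.mul_ι hy, mul_assoc, ← mul_assoc, ← D.add, mul_eq_one_iff_inv_eq, D.ι_inv] at h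
  have h1 := D.eq_one_of_mem ⟨_, h⟩ (mul_mem hy hy)
  rw [h1, D.ι_eq_one] at h
  exact ⟨h1, (D.eq_of_add h).symm⟩

theorem σ_one : D.σ 1 = 1 := (D.σ_eq_one (one_mem _)).2 (one_mem _)

theorem σ_sq {y : G} (hy : y ∈ D.T1) (h : y * y = 1) : D.σ y * D.σ y = 1 := by rw [← D.σ_mul hy hy, h, D.σ_one]

theorem V_le_E : D.V ≤ D.E := le_sup_left

theorem t_mem_E : D.t ∈ D.E := mem_sup_right (mem_zpowers _)

theorem E_cent : D.E ≤ centralizer (D.V : Set G) := by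
  refine sup_le ?_ (zpowers_le.2 D.t_cent)
  rintro _ ⟨a, rfl⟩
  exact D.ι_cent a

theorem mem_E' {x : G} : x ∈ D.E ↔ x ∈ D.V ∨ D.t * x ∈ D.V := by
  simp only [D.mem_E, exists_or, D.mem_V]
  exact or_congr (exists_congr fun a => eq_comm) (exists_congr fun a => by rw [← inv_mul_eq_iff_eq_mul, D.t_inv, eq_comm])

theorem norm_E {g : G} (ht : g * D.t = D.t * g) (hg : g ∈ normalizer (D.V : Set G)) : g ∈ normalizer (D.E : Set G) :=
  mem_normalizer_of_forall fun x hx => by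
    rw [D.mem_E', ← mul_assoc, ← mul_assoc, ← ht, mul_assoc g D.t]
    exact (D.mem_E'.1 hx).imp (conj_mem_of_mem_normalizer hg) (conj_mem_of_mem_normalizer hg)

theorem E_comm {g : G} (ht : g * D.t = D.t * g) (hg : g ∈ centralizer (D.V : Set G)) {x : G} (hx : x ∈ D.E) :
    g * x = x * g := by
  obtain ⟨a, rfl | rfl⟩ := D.mem_E.1 hx
  · exact (hg _ (D.ι_mem a)).symm
  · rw [← mul_assoc, ht, mul_assoc, ← hg _ (D.ι_mem a), mul_assoc]

/-- the centraliser in `V` of an element of `T1` -/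
theorem card_V_inf {s : G} (hs : s ∈ D.T1) : Nat.card ↥(D.V ⊓ centralizer {s}) = Nat.card (fixA (D.σ s)) := by
  exact (D.ac_T1 hs).card_inf

/-- an involution of `T` outside `C(V)` is conjugate into `T1` -/
theorem conj_T1 {s : G} (hs : s ∈ D.T) (ss : s * s = 1) (hc : s ∉ centralizer (D.V : Set G)) :
    ∃ a, D.ι a * s * D.ι a ∈ D.T1 := by
  obtain ⟨b, y, hy, rfl⟩ := D.mem_T.1 hs
  obtain ⟨h1, h2⟩ := D.sq_mul hy ss
  obtain ⟨d, hd⟩ := exists_trace D.two (fun e => hc ((D.ac_mul b hy).cent.1 e)) (D.σ_sq hy h1) h2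
  refine ⟨d, ?_⟩
  rwa [mul_assoc, mul_assoc, D.mul_ι hy, ← mul_assoc, ← mul_assoc, ← D.add, ← D.add, add_right_comm, ← hd, D.add_self,
    D.ι0, one_mul]

variable {D}

namespace Ok

variable (H : D.Ok)
include H

theorem pgT : IsPGroup 2 D.T := by
  exact H.syl.pgroup

theorem mem_E_of_sq {s : G} (hs : s ∈ D.T) (hc : s ∈ centralizer (D.V : Set G)) (ss : s * s = 1) : s ∈ D.E := by
  obtain ⟨b, y, hy, rfl⟩ := D.mem_T.1 hs
  rcases base_cyc H.cyc ⟨hy, (mul_mem_cancel_left (D.ι_cent b)).1 hc⟩ ⟨D.tT1, D.t_cent⟩ (D.sq_mul hy ss).1 D.tt D.t1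
    with rfl | rfl
  · exact mem_sup_left (mul_mem (D.ι_mem b) (one_mem _))
  · exact mul_mem_sup (D.ι_mem b) (mem_zpowers _)

/-- `V` is strongly closed in `T` with respect to `C(t)` -/
theorem conj_mem_V {c v : G} (hc : c * D.t = D.t * c) (hv : v ∈ D.V) (h : c * v * c⁻¹ ∈ D.T) : c * v * c⁻¹ ∈ D.V := by
  obtain ⟨a, rfl⟩ := hv
  obtain ⟨l, l0, l1⟩ := D.big
  have cm : ∀ x, x * D.t = D.t * x → c * x * c⁻¹ * D.t = D.t * (c * x * c⁻¹) := fun x hx =>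
    ((Commute.mul_left hc hx).mul_left (Commute.inv_left hc)).eq
  have e : c * D.ι a * c⁻¹ = c * D.ι (a / (1 + l)) * c⁻¹ * (c * D.η l * c⁻¹) * (c * D.ι (a / (1 + l)) * c⁻¹)⁻¹ *
      (c * D.η l * c⁻¹)⁻¹ := by
    have h1 : D.ι a = D.ι (a / (1 + l)) * (D.η l * D.ι (a / (1 + l)) * (D.η l)⁻¹) := by
      rw [D.ηι l _ l0, ← D.add, ← one_add_mul, mul_div_cancel₀ _ (D.one_add_ne l1)]
    nth_rewrite 3 [← D.ι_inv]
    nth_rewrite 1 [h1]
    group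
  rw [e] at h ⊢
  exact H.nc _ _ (cm _ (D.ηt l l0)) (cm _ (D.tι _).symm) (by rw [orderOf_conj_eq]; exact D.η_odd l0) h

theorem not_fus {d s : G} (hd : d * D.t = D.t * d) (hs : s ∈ D.T1) (h : d * s * d⁻¹ ∈ D.V) : s = 1 := by
  have h1 := H.conj_mem_V (c := d⁻¹) (Commute.inv_left hd).eq h
  rw [show d⁻¹ * (d * s * d⁻¹) * d⁻¹⁻¹ = s by group] at h1
  exact D.eq_one_of_mem (h1 (mem_sup_right hs)) hs

/-- 2-subgroups of the centraliser of a conjugate of `t` -/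
theorem conj_le {s : G} (hs : IsConj D.t s) {Q : Subgroup G} (hQ : IsPGroup 2 Q) (hc : Q ≤ centralizer {s}) :
    ∃ g : G, g * s * g⁻¹ = D.t ∧ cj g Q ≤ D.T := by
  obtain ⟨g, rfl⟩ := isConj_iff.1 hs
  obtain ⟨c, hc', h⟩ := H.syl.exists_cj_le (isPGroup_cj g⁻¹ hQ) (by
    rw [← cj_le_cj_iff g, cj_cj_inv, cj_centralizer_singleton]; exact hc)
  refine ⟨c * g⁻¹, ?_, by rwa [cj_mul]⟩
  rw [show c * g⁻¹ * (g * D.t * g⁻¹) * (c * g⁻¹)⁻¹ = c * D.t * c⁻¹ by group, Sect.mem_cent.1 hc', mul_inv_cancel_right]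

theorem card_le {s : G} (hs : IsConj D.t s) {Q : Subgroup G} (hQ : IsPGroup 2 Q) (hc : Q ≤ centralizer {s}) :
    Nat.card Q ≤ Nat.card D.T := by
  obtain ⟨g, -, h⟩ := H.conj_le hs hQ hc
  rw [← card_cj g]
  exact card_le_of_le h

/-- the product of two involutions outside `E` centralises `V` -/
theorem mul_cent {x y : G} (hx : x ∈ D.T) (hy : y ∈ D.T) (xx : x * x = 1) (yy : y * y = 1) (h1 : x ∉ D.E)
    (h2 : y ∉ D.E) : x * y ∈ centralizer (D.V : Set G) := by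
  obtain ⟨a, u, hu, rfl⟩ := D.mem_T.1 hx
  obtain ⟨b, w, hw, rfl⟩ := D.mem_T.1 hy
  have n1 : D.σ u ≠ 1 := fun e => h1 (H.mem_E_of_sq hx ((D.ac_mul a hu).cent.1 e) xx)
  have n2 : D.σ w ≠ 1 := fun e => h2 (H.mem_E_of_sq hy ((D.ac_mul b hw).cent.1 e) yy)
  have e2 := D.σ_sq hw (D.sq_mul hw yy).1
  rw [← ((D.ac_mul a hu).mul (D.ac_mul b hw)).cent,
    (eq_of_sq D.two n2 e2 (D.σ_sq hu (D.sq_mul hu xx).1)).resolve_left n1, e2]

theorem elem_cases {X : Subgroup G} (hX : X ≤ D.T) (el : ∀ x ∈ X, x * x = 1) :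
    X ≤ D.E ∨ ∃ s ∈ D.T1, s * s = 1 ∧ D.σ s ≠ 1 ∧ Nat.card X ≤ 4 * Nat.card (fixA (D.σ s)) := by
  refine or_iff_not_imp_left.2 fun h => ?_
  obtain ⟨s, hs, hE⟩ := SetLike.not_le_iff_exists.1 h
  obtain ⟨a, y, hy, rfl⟩ := D.mem_T.1 (hX hs)
  refine ⟨y, hy, (D.sq_mul hy (el _ hs)).1, fun e => hE (H.mem_E_of_sq (hX hs) ((D.ac_mul a hy).cent.1 e) (el _ hs)), ?_⟩
  have h1 := U3S.card_le_two (J := X) (D := X ⊓ D.E) inf_le_left fun x hx x' hx' n1 n2 => ⟨mul_mem hx hx',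
    H.mem_E_of_sq (hX (mul_mem hx hx')) (H.mul_cent (hX hx) (hX hx') (el x hx) (el x' hx') (fun e => n1 ⟨hx, e⟩)
      fun e => n2 ⟨hx', e⟩) (el _ (mul_mem hx hx'))⟩
  have h2 := U3S.card_le_two (J := X ⊓ D.E) (D := X ⊓ D.V) (inf_le_inf_left _ D.V_le_E) fun x hx x' hx' n1 n2 => by
    refine ⟨mul_mem hx.1 hx'.1, ?_⟩
    have := mul_mem ((D.mem_E'.1 hx.2).resolve_left fun e => n1 ⟨hx.1, e⟩)
      ((D.mem_E'.1 hx'.2).resolve_left fun e => n2 ⟨hx'.1, e⟩)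
    rwa [mul_assoc, ← mul_assoc x, D.T_comm (hX hx.1), ← mul_assoc, ← mul_assoc, D.tt, one_mul] at this
  have h3 := card_le_of_le (show X ⊓ D.V ≤ D.V ⊓ centralizer {D.ι a * y} from fun x hx =>
    ⟨hx.2, Sect.mem_cent.2 (Sect.comm_of_sq el hx.1 hs)⟩)
  rw [(D.ac_mul a hy).card_inf] at h3
  omega

theorem elem_le {X : Subgroup G} (hX : X ≤ D.T) (el : ∀ x ∈ X, x * x = 1) : Nat.card X ≤ 2 * Nat.card F := by
  rcases H.elem_cases hX el with h | ⟨s, hs, ss, h1, h2⟩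
  · exact D.card_E ▸ card_le_of_le h
  · have h3 := card_fixA D.two h1 (D.σ_sq hs ss)
    have h4 := D.four_le
    rw [← h3] at h4 ⊢
    nlinarith

theorem elem_eq (h : Nat.card F ≠ 4 ∨ ∀ s ∈ D.T1, s * s = 1 → D.σ s = 1) {X : Subgroup G} (hX : X ≤ D.T)
    (el : ∀ x ∈ X, x * x = 1) (hc : Nat.card X = 2 * Nat.card F) : X = D.E := by
  rcases H.elem_cases hX el with h1 | ⟨s, hs, ss, h1, h2⟩
  · exact eq_of_le_of_card_ge h1 (by rw [hc, D.card_E])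
  · have h3 := card_fixA D.two h1 (D.σ_sq hs ss)
    have h4 := D.four_le
    refine absurd (h.resolve_right fun e => h1 (e s hs ss)) (not_not.2 ?_)
    rw [hc] at h2
    rw [← h3] at h4 h2 ⊢
    have h5 : Nat.card (fixA (D.σ s)) ≤ 2 := by nlinarith
    nlinarith

/-- the 2-rank of the centraliser of a conjugate of `t` -/
theorem elem_le' {s : G} (hs : IsConj D.t s) {X : Subgroup G} (hX : X ≤ centralizer {s})
    (el : ∀ x ∈ X, x * x = 1) : Nat.card X ≤ 2 * Nat.card F := by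
  obtain ⟨g, -, h⟩ := H.conj_le hs (Gold.isPGroup_of_elem el) hX
  rw [← card_cj g]
  exact H.elem_le h fun x hx => by
    have := el _ (mem_cj.1 hx)
    rwa [show g⁻¹ * x * g * (g⁻¹ * x * g) = g⁻¹ * (x * x) * g⁻¹⁻¹ by group, conj_eq_one_iff] at this

theorem odd_comm {o : G} (ht : o * D.t = D.t * o) (hc : o ∈ centralizer (D.V : Set G)) (ho : Odd (orderOf o))
    {l : F} (hl : l ≠ 0) : o * D.η l = D.η l * o := by
  obtain ⟨a, h⟩ := H.cv o ht hc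
  have h1 : D.ι a * o * (D.ι a * o) = o ^ 2 := by
    rw [mul_assoc, ← mul_assoc o, ← hc _ (D.ι_mem a), mul_assoc, ← mul_assoc, D.ιι, one_mul, pow_two]
  exact Sect.mem_cent.1 (W2.mem_of_coprime_pow ((Nat.coprime_two_left).2 ho)
    (h1 ▸ mul_mem (Sect.mem_cent.2 (h l hl)) (Sect.mem_cent.2 (h l hl))) (by rw [pow_orderOf_eq_one]; exact one_mem _))

end Ok

namespace R2

variable (H : D.R2)
include H

theorem mem_E {x : G} (hx : x ∈ D.T) (hc : x ∈ centralizer (D.V : Set G)) : x ∈ D.E := by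
  obtain ⟨b, y, hy, rfl⟩ := D.mem_T.1 hx
  rcases H.r2 y hy ((mul_mem_cancel_left (D.ι_cent b)).1 hc) with rfl | rfl
  · exact mem_sup_left (mul_mem (D.ι_mem b) (one_mem _))
  · exact mul_mem_sup (D.ι_mem b) (mem_zpowers _)

theorem cent_two {x : G} (ht : x * D.t = D.t * x) (hc : x ∈ centralizer (D.V : Set G))
    (h2 : IsPGroup 2 (zpowers x)) : x ∈ D.E := by
  obtain ⟨c, hc', h⟩ := H.syl.exists_cj_le (Q := zpowers x ⊔ D.E) (h2.to_sup_of_normal_right' (H.pgT.to_le D.E_le)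
    (zpowers_le.2 (D.norm_E ht (centralizer_le_normalizer _ hc))))
    (sup_le (zpowers_le.2 (Sect.mem_cent.2 ht)) (D.E_le.trans H.syl.le))
  rw [cj_le_iff] at h
  have h1 : c ∈ normalizer (D.V : Set G) := mem_normalizer_of_forall fun v hv =>
    H.conj_mem_V (Sect.mem_cent.1 hc') hv (h v (mem_sup_right (D.V_le_E hv)))
  refine (mem_normalizer_iff.1 (D.norm_E (Sect.mem_cent.1 hc') h1) x).2 (H.mem_E (h x (mem_sup_left (mem_zpowers x))) ?_)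
  rw [← mem_normalizer_iff_cj.1 h1, ← cj_centralizer, conj_mem_cj]
  exact hc

/-- `C(t) ∩ C(V) = E × O` -/
theorem exists_O : ∃ O : Subgroup G,
    (∀ x, x ∈ O ↔ x * D.t = D.t * x ∧ x ∈ centralizer (D.V : Set G) ∧ Odd (orderOf x)) ∧
      ∀ x, x * D.t = D.t * x → x ∈ centralizer (D.V : Set G) → ∃ e ∈ D.E, ∃ o ∈ O, x = e * o := by
  have hE : D.E ≤ centralizer {D.t} ⊓ centralizer (D.V : Set G) := le_inf (D.E_le.trans H.syl.le) D.E_cent
  have hS : IsSylowIn 2 D.E (centralizer {D.t} ⊓ centralizer (D.V : Set G)) :=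
    isSylowIn_of_maximal (H.pgT.to_le D.E_le) hE fun R hR _ h x hx =>
      H.cent_two (Sect.mem_cent.1 (h hx).1) (h hx).2 (isPGroup_zpowers_of_mem hR hx)
  have hN := W2.npc_of_burnside hS fun n hn _ x => D.E_comm (Sect.mem_cent.1 hn.1) hn.2
  have key : ∀ x, x ∈ PComp.opOf 2 (centralizer {D.t} ⊓ centralizer (D.V : Set G)) ↔
      x * D.t = D.t * x ∧ x ∈ centralizer (D.V : Set G) ∧ Odd (orderOf x) := fun x =>
    ⟨fun h => ⟨Sect.mem_cent.1 (PComp.opOf_le _ h).1, (PComp.opOf_le _ h).2,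
      (W2.odd_card_opOf _).of_dvd_nat (orderOf_dvd_natCard _ h)⟩,
      fun h => W2.mem_opOf_of_npc hN ⟨Sect.mem_cent.2 h.1, h.2.1⟩ (Nat.coprime_two_right.2 h.2.2)⟩
  refine ⟨_, key, fun x ht hc => ?_⟩
  obtain ⟨a, b, ha, hb, ⟨k, hk⟩, ho, e⟩ := Transfer.exists_p_part (p := 2) x
  have le : zpowers x ≤ centralizer {D.t} ⊓ centralizer (D.V : Set G) := zpowers_le.2 ⟨Sect.mem_cent.2 ht, hc⟩
  exact ⟨a, H.cent_two (Sect.mem_cent.1 (le ha).1) (le ha).2 (isPGroup_zpowers_of_pow hk), b,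
    (key b).2 ⟨Sect.mem_cent.1 (le hb).1, (le hb).2, Nat.coprime_two_right.1 ho⟩, e⟩

/-- `T / E` is a cyclic 2-group -/
theorem chain {x y : G} (hx : x ∈ D.T) (hy : y ∈ D.T) :
    (∃ j : ℕ, (y ^ j)⁻¹ * x ∈ D.E) ∨ ∃ j : ℕ, (x ^ j)⁻¹ * y ∈ D.E := by
  obtain ⟨a, u, hu, e1⟩ := D.mem_T.1 hx
  obtain ⟨b, w, hw, e2⟩ := D.mem_T.1 hy
  have h1 := e1 ▸ D.ac_mul a hu
  have h2 := e2 ▸ D.ac_mul b hw
  obtain ⟨k, hk⟩ := isPGroup_iff_mem.1 D.pg1 u hu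
  obtain ⟨l, hl⟩ := isPGroup_iff_mem.1 D.pg1 w hw
  refine (base_chain (γ := D.σ u) (δ := D.σ w) (k := k) (l := l) (by rw [← D.σ_pow hu, hk, D.σ_one])
    (by rw [← D.σ_pow hw, hl, D.σ_one])).imp ?_ ?_
  · rintro ⟨j, e⟩
    exact ⟨j, H.mem_E (mul_mem (inv_mem (pow_mem hy j)) hx) (h1.div (e ▸ h2.pow j))⟩
  · rintro ⟨j, e⟩
    exact ⟨j, H.mem_E (mul_mem (inv_mem (pow_mem hx j)) hy) (h2.div (e ▸ h1.pow j))⟩

theorem mem_t {x : G} (hx : x ∈ D.T1) (h : x ∈ D.E) : x = 1 ∨ x = D.t := H.r2 x hx (D.E_cent h)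

theorem ab_sq {z z' : G} (hz : z ∈ D.T) (hz' : z' ∈ D.T) (hc : z * z' = z' * z) (h1 : z * z ≠ 1)
    (h1' : z' * z' ≠ 1) (h4 : z * z * (z * z) = 1) (h4' : z' * z' * (z' * z') = 1) : z * z = z' * z' := by
  have key : ∀ x y : G, x * y = y * x → x * x ≠ 1 → y * y * (y * y) = 1 → ∀ j : ℕ, (y ^ j)⁻¹ * x ∈ D.E →
      x * x = y * y := fun x y c n h j he => by
    have h2 := D.E_sq he
    have c' : Commute x (y ^ j)⁻¹ := (Commute.pow_right c j).inv_right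
    rw [mul_assoc, ← mul_assoc x, c'.eq, mul_assoc, ← mul_assoc, ← mul_inv_rev, inv_mul_eq_one, ← pow_add, ← two_mul,
      pow_mul, pow_two] at h2
    exact ((Sect.mem_zpowers_two h).1 (h2 ▸ pow_mem (mem_zpowers _) j)).resolve_left n
  rcases H.chain hz hz' with ⟨j, h⟩ | ⟨j, h⟩
  · exact key _ _ hc h1 h4' j h
  · exact (key _ _ hc.symm h1' h4 j h).symm

theorem T1_comm {x y : G} (hx : x ∈ D.T1) (hy : y ∈ D.T1) : x * y = y * x := by
  have key : ∀ x ∈ D.T1, ∀ y ∈ D.T1, ∀ j : ℕ, (y ^ j)⁻¹ * x ∈ D.E → Commute x y := fun x hx y hy j h => by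
    rcases H.mem_t (mul_mem (inv_mem (pow_mem hy j)) hx) h with e | e
    · rw [← inv_mul_eq_one.1 e]
      exact (Commute.refl y).pow_left j
    · rw [inv_mul_eq_iff_eq_mul.1 e]
      exact ((Commute.refl y).pow_left j).mul_left (D.T1t y hy).symm
  rcases H.chain (mem_sup_right hx) (mem_sup_right hy) with ⟨j, h⟩ | ⟨j, h⟩
  · exact key x hx y hy j h
  · exact (key y hy x hx j h).symm

theorem cases : D.T1 = zpowers D.t ∨ (∃ f b, D.Cy f b) ∨ ∃ f φ b, D.Spl f φ b := by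
  have := Suz2.finite_ringEquiv F
  have := U3S.fld_cyclic F
  obtain ⟨f, hf, hm⟩ := Set.exists_max_image (D.T1 : Set G) (fun x => orderOf (D.σ x)) (Set.toFinite _) ⟨1, one_mem _⟩
  have two : ∀ x ∈ D.T1, ∃ k, orderOf (D.σ x) = 2 ^ k := fun x hx => by
    obtain ⟨k, hk⟩ := isPGroup_iff_mem.1 D.pg1 x hx
    obtain ⟨i, -, e⟩ := (Nat.dvd_prime_pow Nat.prime_two).1 (orderOf_dvd_of_pow_eq_one (x := D.σ x) (n := 2 ^ k)
      (by rw [← D.σ_pow hx, hk, D.σ_one]))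
    exact ⟨i, e⟩
  have dec : ∀ x ∈ D.T1, ∃ i : ℕ, x = f ^ i ∨ x = D.t * f ^ i := fun x hx => by
    obtain ⟨k, e1⟩ := two x hx
    obtain ⟨l, e2⟩ := two f hf
    obtain ⟨i, e⟩ := U3S.fld_mem_zpowers (γ := D.σ x) (δ := D.σ f) (by
      have := hm x hx
      rw [e1, e2] at this ⊢
      exact pow_dvd_pow 2 ((Nat.pow_le_pow_iff_right one_lt_two).1 this))
    refine ⟨i, (H.r2 _ (mul_mem (inv_mem (pow_mem hf i)) hx) ((D.ac_T1 hx).div (e ▸ (D.ac_T1 hf).pow i))).imp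
      (fun e => (inv_mul_eq_one.1 e).symm) fun e => ?_⟩
    rw [inv_mul_eq_iff_eq_mul.1 e, D.T1t _ (pow_mem hf i)]
  obtain ⟨m, hm⟩ := isPGroup_zpowers_iff.1 (isPGroup_zpowers_of_mem D.pg1 hf)
  have le : ∀ K : Subgroup G, f ∈ K → D.t ∈ K → D.T1 ≤ K := fun K h1 h2 x hx => by
    obtain ⟨i, rfl | rfl⟩ := dec x hx
    exacts [pow_mem h1 i, mul_mem h2 (pow_mem h1 i)]
  by_cases h : f ∈ zpowers D.t
  · exact Or.inl (le_antisymm (le _ h (mem_zpowers _)) (zpowers_le.2 D.tT1))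
  rcases m with _ | m
  · exact absurd (orderOf_eq_one_iff.1 hm ▸ one_mem _) h
  by_cases ht : D.t ∈ zpowers f
  · have e := (base_cyc inferInstance ht (pow_mem (mem_zpowers f) _) D.tt (base_inv hm).1 (base_inv hm).2).resolve_left D.t1
    rcases m with _ | m
    · exact absurd (by rw [e, pow_zero, pow_one]; exact mem_zpowers f) h
    · exact Or.inr (Or.inl ⟨f, m, hm, e, le_antisymm (le _ (mem_zpowers f) ht) (zpowers_le.2 hf)⟩)
  · exact Or.inr (Or.inr ⟨f, _, m, hf, hm, rfl, ht, dec⟩)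

theorem T_eq (h : D.T1 = zpowers D.t) : D.T = D.E := by
  rw [T, h]

/-- fusion in `C(t)` -/
theorem fus' {c x : G} (hc : c * D.t = D.t * c) (hx : x ∈ D.T) (h : c * x * c⁻¹ ∈ D.T) :
    c * x * c⁻¹ * x⁻¹ ∈ D.V := by
  exact H.fus H.r2 c x hc hx h

end R2

namespace Cy

variable {f : G} {b : ℕ} (H : D.Cy f b)
include H

theorem inv {s : G} (hs : s ∈ D.T1) (ss : s * s = 1) : s = 1 ∨ s = D.t := by
  exact base_cyc (H.eq ▸ inferInstance) hs D.tT1 ss D.tt D.t1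

theorem mem_E {s : G} (hs : s ∈ D.T) (ss : s * s = 1) : s ∈ D.E := by
  obtain ⟨b, y, hy, rfl⟩ := D.mem_T.1 hs
  rcases H.inv hy (D.sq_mul hy ss).1 with rfl | rfl
  · exact mem_sup_left (mul_mem (D.ι_mem b) (one_mem _))
  · exact mul_mem_sup (D.ι_mem b) (mem_zpowers _)

theorem sq : ∃ x ∈ D.T1, x * x = D.t := by
  exact ⟨f ^ 2 ^ b, H.eq ▸ pow_mem (mem_zpowers f) _, by rw [H.pw, ← pow_add, ← two_mul, ← pow_succ']⟩

end Cy

namespace Spl

variable {f φ : G} {b : ℕ} (H : D.Spl f φ b)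
include H

theorem φT : φ ∈ D.T1 := by
  exact H.pw ▸ pow_mem H.fT _

theorem φφ : φ * φ = 1 := by
  exact H.pw ▸ (base_inv H.ord).1

theorem φ1 : φ ≠ 1 := by
  exact H.pw ▸ (base_inv H.ord).2

theorem φt : φ ≠ D.t := by
  exact fun e => H.tf (by rw [← e, H.pw]; exact pow_mem (mem_zpowers f) _)

theorem tφ : D.t * φ = φ * D.t := by
  exact (D.T1t φ H.φT).symm

theorem fφ : f * φ = φ * f := by
  rw [H.pw]
  exact (Commute.refl f).pow_right _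

theorem inv {s : G} (hs : s ∈ D.T1) (ss : s * s = 1) : s = 1 ∨ s = D.t ∨ s = φ ∨ s = D.t * φ := by
  have key : ∀ i : ℕ, f ^ i * f ^ i = 1 → f ^ i = 1 ∨ f ^ i = φ := fun i h =>
    base_cyc inferInstance (pow_mem (mem_zpowers f) i) (H.pw ▸ pow_mem (mem_zpowers f) _) h H.φφ H.φ1
  obtain ⟨i, rfl | rfl⟩ := H.dec s hs
  · exact (key i ss).imp_right fun e => Or.inr (Or.inl e)
  · rw [mul_assoc, ← mul_assoc (f ^ i), D.T1t _ (pow_mem H.fT i), mul_assoc, ← mul_assoc, D.tt, one_mul] at ss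
    exact Or.inr ((key i ss).imp (fun e => by rw [e, mul_one]) fun e => Or.inr (by rw [e]))

theorem swap : D.Spl (D.t * f) (if b = 0 then D.t * φ else φ) b := by
  have c : Commute D.t f := (D.T1t f H.fT).symm
  have t2 : D.t ^ 2 = 1 := by rw [pow_two, D.tt]
  have ev : ∀ i : ℕ, (D.t * f) ^ (2 * i) = f ^ (2 * i) := fun i => by rw [c.mul_pow, pow_mul, t2, one_pow, one_mul]
  have od : ∀ i : ℕ, (D.t * f) ^ (2 * i + 1) = D.t * f ^ (2 * i + 1) := fun i => by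
    rw [c.mul_pow, pow_succ, pow_mul, t2, one_pow, one_mul]
  have e : (if b = 0 then D.t * φ else φ) = (D.t * f) ^ 2 ^ b := by
    rcases b with _ | b
    · rw [if_pos rfl, H.pw, pow_zero, pow_one, pow_one]
    · rw [if_neg b.succ_ne_zero, H.pw, pow_succ', ev]
  have n1 : (if b = 0 then D.t * φ else φ) ≠ 1 := by
    split_ifs
    · exact fun e => H.φt (by rw [← D.t_inv, eq_inv_of_mul_eq_one_right e])
    · exact H.φ1
  have o : orderOf (D.t * f) = 2 ^ (b + 1) :=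
    orderOf_eq_prime_pow (e ▸ n1) (by rw [pow_succ', ev, ← pow_succ', ← H.ord, pow_orderOf_eq_one])
  refine ⟨mul_mem D.tT1 H.fT, o, e, fun h => ?_, fun x hx => ?_⟩
  · have h1 := (base_cyc inferInstance h (pow_mem (mem_zpowers _) _) D.tt (base_inv o).1 (base_inv o).2).resolve_left D.t1
    rw [← e] at h1
    split_ifs at h1
    · exact H.φ1 (left_eq_mul.1 h1)
    · exact H.φt h1.symm
  · obtain ⟨i, h⟩ := H.dec x hx
    refine ⟨i, ?_⟩
    rcases Nat.even_or_odd' i with ⟨k, rfl | rfl⟩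
    · rwa [ev]
    · rwa [od, ← mul_assoc, D.tt, one_mul, or_comm]

theorem card_T1 : Nat.card D.T1 = 2 ^ (b + 2) := by
  rw [base_card (A := zpowers D.t) (B := zpowers f) (fun g => ⟨fun h => ?_, ?_⟩) fun x h1 h2 => ?_,
    Sect.card_zpowers_two D.tt D.t1, Nat.card_zpowers, H.ord, ← pow_succ']
  · obtain ⟨i, rfl | rfl⟩ := H.dec g h
    · exact ⟨1, one_mem _, _, pow_mem (mem_zpowers f) i, (one_mul _).symm⟩
    · exact ⟨_, mem_zpowers _, _, pow_mem (mem_zpowers f) i, rfl⟩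
  · rintro ⟨x, hx, y, hy, rfl⟩
    exact mul_mem (zpowers_le.2 D.tT1 hx) (zpowers_le.2 H.fT hy)
  · exact ((Sect.mem_zpowers_two D.tt).1 h1).resolve_right fun e => H.tf (e ▸ h2)

theorem σφ (R : D.R2) : D.σ φ ≠ 1 ∧ D.σ φ * D.σ φ = 1 ∧ D.σ (D.t * φ) = D.σ φ := by
  exact ⟨fun e => (R.r2 φ H.φT ((D.σ_eq_one H.φT).1 e)).elim H.φ1 H.φt, D.σ_sq H.φT H.φφ,
    by rw [D.σ_mul D.tT1 H.φT, D.σ_t, one_mul]⟩

theorem ord_σ (R : D.R2) : orderOf (D.σ f) = 2 ^ (b + 1) := by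
  exact orderOf_eq_prime_pow (by rw [← D.σ_pow H.fT, ← H.pw]; exact (H.σφ R).1)
    (by rw [← D.σ_pow H.fT, ← H.ord, pow_orderOf_eq_one, D.σ_one])

theorem dvd (R : D.R2) {n : ℕ} (h : Nat.card F = 2 ^ n) : 2 ^ (b + 1) ∣ n := by
  exact H.ord_σ R ▸ orderOf_dvd D.two h _

theorem card_F (R : D.R2) : Nat.card (fixA (D.σ φ)) ^ 2 = Nat.card F := by
  exact card_fixA D.two (H.σφ R).1 (H.σφ R).2.1

theorem b_four (R : D.R2) (h : Nat.card F = 4) : b = 0 := by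
  have h1 := Nat.le_of_dvd two_pos (H.dvd R (n := 2) h)
  have h2 := (Nat.pow_le_pow_iff_right one_lt_two (n := b + 1) (m := 1)).1 h1
  omega

/-- the involutions of `T` -/
theorem inv_T (R : D.R2) {s : G} (hs : s ∈ D.T) (ss : s * s = 1) :
    s ∈ D.E ∨ ∃ a, D.ι a * s * D.ι a = φ ∨ D.ι a * s * D.ι a = D.t * φ := by
  by_cases hc : s ∈ centralizer (D.V : Set G)
  · exact Or.inl (R.mem_E hs hc)
  obtain ⟨a, h⟩ := D.conj_T1 hs ss hc
  have n : D.ι a * s * D.ι a ∉ centralizer (D.V : Set G) := fun e =>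
    hc ((mul_mem_cancel_left (D.ι_cent a)).1 ((mul_mem_cancel_right (D.ι_cent a)).1 e))
  rcases H.inv h (by
    rw [show D.ι a * s * D.ι a * (D.ι a * s * D.ι a) = D.ι a * (s * (D.ι a * D.ι a) * s) * D.ι a by group, D.ιι,
      mul_one, ss, mul_one, D.ιι]) with e | e | e
  · exact absurd (e ▸ one_mem _) n
  · exact absurd (e ▸ D.t_cent) n
  · exact Or.inr ⟨a, e⟩

/-- an element of the torus inverted by `φ` -/
theorem exists_k (R : D.R2) : ∃ l : F, l ≠ 0 ∧ l ≠ 1 ∧ φ * D.η l * φ = (D.η l)⁻¹ := by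
  obtain ⟨l, l1, h⟩ := exists_norm_one D.two (H.σφ R).1 (H.σφ R).2.1
  have l0 := left_ne_zero_of_mul_eq_one h
  refine ⟨l, l0, l1, ?_⟩
  rw [← D.η_inv l0, ← eq_inv_of_mul_eq_one_right h, ← D.actη φ H.φT l l0, inv_eq_of_mul_eq_one_right H.φφ]

theorem syl_φ (R : D.R2) :
    IsSylowIn 2 (D.T ⊓ centralizer {φ}) (centralizer {D.t} ⊓ centralizer {φ}) := by
  rw [show centralizer {D.t} ⊓ centralizer {φ} = centralizer {D.t} ⊓ W2.Cx φ from rfl]
  refine W2.isSylowIn_cent_of_max R.syl (mem_sup_right H.φT) fun k hk h => ?_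
  have hk' := Sect.mem_cent.1 hk
  rcases H.inv_T R h (by rw [conj_mul, H.φφ, mul_one, mul_inv_cancel]) with e | ⟨a, e⟩
  · rcases D.mem_E'.1 e with e | e
    · exact absurd (R.not_fus hk' H.φT e) H.φ1
    · rw [← mul_assoc, ← mul_assoc, ← hk', mul_assoc k D.t] at e
      exact absurd (by rw [← D.t_inv, eq_inv_of_mul_eq_one_right (R.not_fus hk' (mul_mem D.tT1 H.φT) e)]) H.φt
  · rw [← card_cj (D.ι a), cj_inf, W2.cj_Cx, cj_eq_of_mem (mem_sup_left (D.ι_mem a)), D.ι_inv]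
    refine card_le_of_le fun x hx => ⟨hx.1, ?_⟩
    rcases e with e | e
    · exact e ▸ hx.2
    · have h1 := W2.mem_Cx.1 (e ▸ hx.2)
      rw [← mul_assoc, D.T_comm hx.1, mul_assoc, mul_assoc, mul_right_inj] at h1
      exact W2.mem_Cx.2 h1

theorem card_cφ (R : D.R2) :
    Nat.card ↥(D.T ⊓ centralizer {φ}) = Nat.card (fixA (D.σ φ)) * 2 ^ (b + 2) := by
  rw [base_card (A := D.V ⊓ centralizer {φ}) (B := D.T1) (fun g => ⟨fun h => ?_, ?_⟩)
    fun x h => D.eq_one_of_mem h.1, D.card_V_inf H.φT, H.card_T1]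
  · obtain ⟨a, y, hy, rfl⟩ := D.mem_T.1 h.1
    exact ⟨_, ⟨D.ι_mem a, (mul_mem_cancel_right (Sect.mem_cent.2 (R.T1_comm hy H.φT))).1 h.2⟩, y, hy, rfl⟩
  · rintro ⟨x, hx, y, hy, rfl⟩
    exact ⟨mul_mem_sup hx.1 hy, mul_mem hx.2 (Sect.mem_cent.2 (R.T1_comm hy H.φT))⟩

end Spl

end Fr

end CfsgLib.JG
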