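import Mathlib
import Cfsg.Agent.Lib.JG.Fld

/-! Standard subgroup `J₁` (plans/J1S.md; copy of Lib/GMS without the TI property, package EX0A). -/

set_option autoImplicit false
set_option linter.unusedSectionVars false

namespace CfsgLib.JG

open Subgroup Cfsg CfsgLib.Tech CfsgLib.SzS
open scoped MatrixGroups

variable {F : Type*} [Field F] [Finite F] {G : Type*} [Group G] [Finite G]

namespace Ex0AP

open TL2 TL2.AffB MulAction

theorem exists_root [Fintype F] (h2 : (2 : F) = 0) (h8 : Fintype.card F = 8) : ∃ x : F, x ^ 3 = x + 1 := by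
  classical
  obtain ⟨a, a0, a1⟩ : ∃ a : F, a ≠ 0 ∧ a ≠ 1 := by
    by_contra! hn
    have : (Finset.univ : Finset F) ⊆ {0, 1} := fun a _ => by
      by_cases e : a = 0
      · simp [e]
      · simp [hn a e]
    have h3 := Finset.card_le_card this
    have h4 : ({0, 1} : Finset F).card ≤ 2 := Finset.card_le_two
    rw [Finset.card_univ, h8] at h3
    omega
  have h7 : a ^ 7 = 1 := by
    have := FiniteField.pow_card_sub_one_eq_one a a0
    rwa [h8] at this
  have h5 : (a - 1) * ((a ^ 3 - (a + 1)) * ((a + 1) ^ 3 - (a + 1 + 1))) = 0 := by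
    linear_combination h7 + (a ^ 6 - a ^ 5 - 3 * a ^ 4 + 2 * a ^ 2 + a) * h2
  rcases mul_eq_zero.1 h5 with e | e
  · exact absurd (sub_eq_zero.1 e) a1
  rcases mul_eq_zero.1 e with e | e
  · exact ⟨a, sub_eq_zero.1 e⟩
  · exact ⟨a + 1, sub_eq_zero.1 e⟩

/-- coordinates -/
def co (x : F) (v : V3) : F := ((v 0).val : F) + ((v 1).val : F) * x + ((v 2).val : F) * x ^ 2

theorem z2 (a : ZMod 2) : a = 0 ∨ a = 1 := by revert a; decide

theorem val_add' (h2 : (2 : F) = 0) (a b : ZMod 2) : (((a + b).val : ℕ) : F) = (a.val : F) + (b.val : F) := by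
  have e0 : (0 : ZMod 2).val = 0 := rfl
  have e1 : (1 : ZMod 2).val = 1 := rfl
  have e2 : (1 + 1 : ZMod 2).val = 0 := rfl
  rcases z2 a with rfl | rfl <;> rcases z2 b with rfl | rfl
  · simp
  · simp
  · simp
  · rw [e2, e1]; push_cast; linear_combination -h2

theorem co_add (h2 : (2 : F) = 0) (x : F) (v w : V3) : co x (v + w) = co x v + co x w := by
  simp only [co, Pi.add_apply, val_add' h2]; ring

theorem co_zero (x : F) : co x 0 = 0 := by simp [co]

theorem co_inj (h2 : (2 : F) = 0) {x : F} (hx : x ^ 3 = x + 1) (v : V3) (e : co x v = 0) : v = 0 := by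
  have e0 : (0 : ZMod 2).val = 0 := rfl
  have e1 : (1 : ZMod 2).val = 1 := rfl
  have n0 : x ≠ 0 := fun e => by rw [e] at hx; simp at hx
  have n1 : 1 + x ≠ 0 := fun e => n0 (pow_eq_zero_iff (n := 3) (by decide) |>.1 (by rw [hx, add_comm, e]))
  unfold co at e
  rcases z2 (v 0) with a | a <;> rcases z2 (v 1) with b | b <;> rcases z2 (v 2) with c | c <;>
    rw [a, b, c] at e <;> simp only [e0, e1, Nat.cast_zero, Nat.cast_one, zero_mul, one_mul, zero_add, add_zero] at e
  · funext i; fin_cases i <;> assumption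
  · exact absurd (pow_eq_zero_iff (n := 2) (by decide) |>.1 e) n0
  · exact absurd e n0
  · exact absurd (show x * (1 + x) = 0 by linear_combination e) (mul_ne_zero n0 n1)
  · exact absurd e one_ne_zero
  · exact absurd (show (1 + x) * (1 + x) = 0 by linear_combination e + x * h2) (mul_ne_zero n1 n1)
  · exact absurd e n1
  · exact absurd (show x = 0 by linear_combination (x - 1) * e - hx) n0

theorem exists_kappa [Fintype F] (h2 : (2 : F) = 0) (h8 : Fintype.card F = 8) {x : F} (hx : x ^ 3 = x + 1) :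
    ∃ κ : F ≃+ V3, ∀ v, κ.symm v = co x v := by
  let ψ : V3 →+ F := AddMonoidHom.mk' (co x) (co_add h2 x)
  have hi : Function.Injective ψ := (injective_iff_map_eq_zero ψ).2 (co_inj h2 hx)
  have hb : Function.Bijective ψ := (Fintype.bijective_iff_injective_and_card ψ).2 ⟨hi, by rw [h8]; rfl⟩
  exact ⟨(AddEquiv.ofBijective ψ hb).symm, fun _ => rfl⟩

theorem co_sq (h2 : (2 : F) = 0) {x : F} (hx : x ^ 3 = x + 1) (v : V3) : co x v ^ 2 = co x (th v) := by
  have e0 : (0 : ZMod 2).val = 0 := rfl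
  have e1 : (1 : ZMod 2).val = 1 := rfl
  have t0 : th v 0 = v 0 := rfl
  have t1 : th v 1 = v 2 := rfl
  have t2 : th v 2 = v 1 + v 2 := rfl
  unfold co
  rw [t0, t1, t2, val_add' h2]
  rcases z2 (v 0) with a | a <;> rcases z2 (v 1) with b | b <;> rcases z2 (v 2) with c | c <;>
    rw [a, b, c] <;> simp only [e0, e1, Nat.cast_zero, Nat.cast_one, zero_mul, one_mul, zero_add, add_zero]
  · ring
  · linear_combination x * hx
  · linear_combination x * hx + x ^ 3 * h2
  · ring
  · linear_combination x * hx + x ^ 2 * h2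
  · linear_combination x * h2
  · linear_combination x * hx + (x + x ^ 2 + x ^ 3) * h2

theorem map_co (σ : F ≃+* F) (x : F) (v : V3) : σ (co x v) = co (σ x) v := by
  simp only [co, map_add, map_mul, map_pow, map_natCast]

theorem frob_mem [Fintype F] {A : Subgroup (Equiv.Perm F)} (h : TL2.Aff A) :
    ∃ f ∈ A, ∀ a, f a = a ^ 2 := by
  obtain ⟨x, hx⟩ := exists_root h.two h.card
  obtain ⟨κ, hκ⟩ := exists_kappa h.two h.card hx
  have hs : ∀ a : F, ∃ v, co x v = a := fun a => ⟨κ a, by rw [← hκ, κ.symm_apply_apply]⟩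
  obtain ⟨φ, hφ, r, -, hp, -, -, f0, f1, -⟩ := h.exists_pair
  have h1 : φ ≠ 1 := by rintro rfl; rw [orderOf_one] at hp; exact Nat.not_prime_one hp
  obtain ⟨σ, hσ⟩ := h.exists_aut hφ f0 f1
  have hσ' : ∀ a, φ a = σ a := fun a => by rw [← hσ]; rfl
  have hy : σ x ^ 3 = σ x + 1 := by rw [← map_pow, hx, map_add, map_one]
  have h2 := h.two
  have : CharP F 2 := CharTwo.of_one_ne_zero_of_two_eq_zero one_ne_zero h.two
  have hq : ∀ v, co x v ^ 2 = co (x ^ 2) v := fun v =>
    map_co (frobeniusEquiv F 2) x v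
  have hq4 : ∀ v, (co x v ^ 2) ^ 2 = co ((x ^ 2) ^ 2) v := fun v => by
    rw [hq]; exact map_co (frobeniusEquiv F 2) (x ^ 2) v
  have h5 : (σ x - x) * ((σ x - x ^ 2) * (σ x - (x ^ 2) ^ 2)) = 0 := by
    have h4 : (x ^ 2) ^ 2 = x ^ 2 + x := by linear_combination x * hx
    rw [h4]
    linear_combination hy + (3 * σ x + x * σ x - x ^ 2 - x - 1) * hx +
      (-(σ x) ^ 2 * (x + x ^ 2) + σ x * (2 + 2 * x + x ^ 2) - x ^ 2 - x) * h2
  rcases mul_eq_zero.1 h5 with e | e
  · refine absurd (Equiv.ext fun a => ?_) h1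
    obtain ⟨v, rfl⟩ := hs a
    rw [hσ', map_co, sub_eq_zero.1 e]; rfl
  rcases mul_eq_zero.1 e with e | e
  · refine ⟨φ, hφ, fun a => ?_⟩
    obtain ⟨v, rfl⟩ := hs a
    rw [hσ', map_co, sub_eq_zero.1 e, hq]
  · have h6 : ∀ a, φ a = (a ^ 2) ^ 2 := fun a => by
      obtain ⟨v, rfl⟩ := hs a
      rw [hσ', map_co, sub_eq_zero.1 e, hq4]
    refine ⟨φ * φ, mul_mem hφ hφ, fun a => ?_⟩
    have h8 := FiniteField.pow_card a
    rw [h.card] at h8
    rw [Equiv.Perm.mul_apply, h6, h6]
    calc (((a ^ 2) ^ 2) ^ 2) ^ 2 = (a ^ 8) ^ 2 := by ring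
      _ = a ^ 2 := by rw [h8]

theorem card_dvd [Fintype F] {A : Subgroup (Equiv.Perm F)} (h : TL2.Aff A) : 168 ∣ Nat.card A := by
  obtain ⟨x, hx⟩ := exists_root h.two h.card
  have n0 : x ≠ 0 := fun e => by rw [e] at hx; simp at hx
  have n1 : x ≠ 1 := fun e => by rw [e] at hx; simp at hx
  have h1 : 8 ∣ Nat.card A := by
    have : IsPretransitive A F := IsPretransitive.of_orbit (x₀ := 0) fun a => by
      obtain ⟨k, hk, e⟩ := h.tr0 a
      exact ⟨⟨k, hk⟩, e⟩
    refine dvd_trans ?_ (index_dvd_card (stabilizer A (0 : F)))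
    rw [index_stabilizer_of_transitive, Nat.card_eq_fintype_card, h.card]
  have h2 : 7 ∣ Nat.card A := by
    have h7 : x ^ 7 = 1 := by
      have := FiniteField.pow_card_sub_one_eq_one x n0
      rwa [h.card] at this
    have : Fact (Nat.Prime 7) := ⟨by decide⟩
    have ho : orderOf (sc x n0) = 7 := orderOf_eq_prime (Equiv.ext fun a => by
      simp only [pow_succ, pow_zero, Equiv.Perm.mul_apply, sc_apply, Equiv.Perm.one_apply]
      linear_combination a * h7) (fun e => n1 (by simpa [sc_apply] using DFunLike.congr_fun e 1))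
    rw [← ho]
    exact orderOf_dvd_natCard _ (h.sc_mem x n0)
  have h3 : 3 ∣ Nat.card A := by
    obtain ⟨f, hf, e⟩ := frob_mem h
    have ho : orderOf f = 3 := orderOf_eq_prime (Equiv.ext fun a => by
      have h8 := FiniteField.pow_card a
      rw [h.card] at h8
      simp only [pow_succ f, pow_zero, Equiv.Perm.mul_apply, e, Equiv.Perm.one_apply]
      linear_combination h8) (fun e' => n1 (by
        have := e x
        rw [e', Equiv.Perm.one_apply] at this
        exact mul_left_cancel₀ n0 (by linear_combination -this)))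
    rw [← ho]
    exact orderOf_dvd_natCard _ hf
  exact Nat.Coprime.mul_dvd_of_dvd_of_dvd (m := 8) (n := 21) (by decide) h1
    (Nat.Coprime.mul_dvd_of_dvd_of_dvd (m := 7) (n := 3) (by decide) h2 h3)

/-- third basis vector -/
def e2' : V3 := ![0, 0, 1]

theorem v3_eq : ∀ v : V3, v = (v 0).val • e0 + (v 1).val • e1 + (v 2).val • e2' := by decide

theorem card_aut : Nat.card (V3 ≃+ V3) ≤ 168 := by
  let T := {t : V3 × V3 × V3 // t.1 ≠ 0 ∧ t.2.1 ≠ 0 ∧ t.2.1 ≠ t.1 ∧ t.2.2 ≠ 0 ∧ t.2.2 ≠ t.1 ∧ t.2.2 ≠ t.2.1 ∧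
    t.2.2 ≠ t.1 + t.2.1}
  have hT : Fintype.card T = 168 := by decide +kernel
  let g : (V3 ≃+ V3) → T := fun m => ⟨(m e0, m e1, m e2'),
    (map_ne_zero_iff m m.injective).2 (by decide), (map_ne_zero_iff m m.injective).2 (by decide),
    m.injective.ne (by decide), (map_ne_zero_iff m m.injective).2 (by decide), m.injective.ne (by decide),
    m.injective.ne (by decide), by rw [← map_add]; exact m.injective.ne (by decide)⟩
  have hg : Function.Injective g := fun m n e => AddEquiv.ext fun v => by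
    have e' := congrArg Subtype.val e
    simp only [g, Prod.mk.injEq] at e'
    rw [v3_eq v]
    simp only [map_add, map_nsmul, e'.1, e'.2.1, e'.2.2]
  rw [← hT, ← Nat.card_eq_fintype_card]
  exact Nat.card_le_card_of_injective g hg

theorem exists_lin [Fintype F] {A : Subgroup (Equiv.Perm F)} (h : TL2.Aff A) (κ : F ≃+ V3) :
    ∃ g : A → (V3 ≃+ V3), Function.Injective g ∧ ∀ f a, κ (f.1 a + f.1 0) = g f (κ a) := by
  let l : A → (F ≃+ F) := fun f => AddEquiv.ofBijective (h.lin f : F →+ F) (Finite.injective_iff_bijective.1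
    fun a b e => f.1.injective (add_right_cancel (show f.1 a + f.1 0 = f.1 b + f.1 0 from e)))
  have hl : ∀ f a, l f a = h.lin f a := fun _ _ => rfl
  refine ⟨fun f => (κ.symm.trans (l f)).trans κ, fun f g e => ?_, fun f a => by simp [hl, h.lin_apply]⟩
  have h1 : ∀ a, h.lin f a = h.lin g a := fun a => by
    have := DFunLike.congr_fun e (κ a)
    simpa [hl] using this
  have h2 : g⁻¹ * f = 1 := h.eq_one_of_lin fun v => by
    rw [map_mul]
    change h.lin g⁻¹ (h.lin f v) = v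
    rw [h1]
    change (h.lin g⁻¹ * h.lin g) v = v
    rw [← map_mul, inv_mul_cancel, map_one]; rfl
  exact (inv_mul_eq_one.1 h2).symm

end Ex0AP

/-- the affine group is `L₃(2)` on eight points -/
theorem aff_full {A : Subgroup (Equiv.Perm F)} (h : TL2.Aff A) : ∃ κ : F ≃+ V3, κ 1 = e0 ∧
    (∀ m : V3 ≃+ V3, ∃ f ∈ A, ∀ a, κ (f a + f 0) = m (κ a)) ∧
    (∃ f ∈ A, f 0 = 0 ∧ ∀ a, κ (f a) = th (κ a)) ∧
    ∀ M ≤ A, A ≤ normalizer (M : Set (Equiv.Perm F)) → (∀ l : F, l ≠ 0 → ∃ f ∈ M, ∀ a, f a = l * a) →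
      ∀ f ∈ A, IsPGroup 2 (zpowers f) → f ∈ M := by
  have := Fintype.ofFinite F
  obtain ⟨x, hx⟩ := Ex0AP.exists_root h.two h.card
  obtain ⟨κ, hκ⟩ := Ex0AP.exists_kappa h.two h.card hx
  have n0 : x ≠ 0 := fun e => by rw [e] at hx; simp at hx
  have n1 : x ≠ 1 := fun e => by rw [e] at hx; simp at hx
  obtain ⟨g, gi, hg⟩ := Ex0AP.exists_lin h κ
  have : Finite (V3 ≃+ V3) := Finite.of_injective (fun m : V3 ≃+ V3 => (m : V3 → V3)) DFunLike.coe_injective
  have hA : Nat.card A ≤ 168 := (Nat.card_le_card_of_injective g gi).trans Ex0AP.card_aut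
  refine ⟨κ, ?_, fun m => ?_, ?_, fun M hM hn hs f hf _ => ?_⟩
  · rw [← κ.eq_symm_apply, hκ]
    have e1 : (1 : ZMod 2).val = 1 := rfl
    simp [Ex0AP.co, e0, e1]
  · obtain ⟨f, rfl⟩ := (gi.bijective_of_nat_card_le
      (Ex0AP.card_aut.trans (Nat.le_of_dvd Nat.card_pos (Ex0AP.card_dvd h)))).2 m
    exact ⟨f, f.2, hg f⟩
  · obtain ⟨f, hf, e⟩ := Ex0AP.frob_mem h
    refine ⟨f, hf, by rw [e]; simp, fun a => ?_⟩
    rw [← κ.eq_symm_apply, hκ, ← Ex0AP.co_sq h.two hx, ← hκ, κ.symm_apply_apply, e]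
  · have hMa : TL2.Aff M := by
      refine ⟨h.two, fun f hf => h.aff f (hM hf), hs, fun f hf => h.semi f (hM hf), fun f hf => h.odd f (hM hf),
        fun f hf => h.ntr f (hM hf), ?_⟩
      obtain ⟨k, hk, k0⟩ := h.mov
      obtain ⟨s, hsM, e⟩ := hs x n0
      refine ⟨k * s * k⁻¹, (mem_normalizer_iff.1 (hn hk) s).1 hsM, fun e' => ?_⟩
      have h1 : k⁻¹ 0 ≠ 0 := fun e => k0 (Equiv.Perm.inv_eq_iff_eq.1 e).symm
      rw [Equiv.Perm.mul_apply, Equiv.Perm.mul_apply, e, ← Equiv.Perm.eq_inv_iff_eq] at e'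
      exact n1 ((mul_eq_right₀ h1).1 e')
    have := eq_of_le_of_card_ge hM (hA.trans (Nat.le_of_dvd Nat.card_pos (Ex0AP.card_dvd hMa)))
    rwa [this]

/-- the unitriangular maps form a group -/
theorem ut_ut (α β γ α' β' γ' : ZMod 2) (x : V3) :
    ut α β γ (ut α' β' γ' x) = ut (α + α') (β + β') (γ + γ' + α * β') x := by
  revert α β γ α' β' γ' x; decide

theorem ut_zero : ut 0 0 0 = id := by
  funext x; revert x; decide

/-- the unitriangular maps as additive equivalences -/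
def utE (α β γ : ZMod 2) : V3 ≃+ V3 where
  toFun := ut α β γ
  invFun := ut α β (γ + α * β)
  left_inv := by revert α β γ; unfold Function.LeftInverse; decide
  right_inv := by revert α β γ; unfold Function.RightInverse Function.LeftInverse; decide
  map_add' := by revert α β γ; decide

end CfsgLib.JG
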