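import Mathlib
import Cfsg.Agent.Lib.JG.Base
import Cfsg.Agent.Lib.SzS.Fin
import Cfsg.Agent.Lib.ZStar.Main

/-! Standard subgroup `J₁` (plans/J1S.md; copy of Lib/GMS without the TI property, package OUT). -/

set_option autoImplicit false
set_option linter.unusedSectionVars false
set_option linter.unusedVariables false

namespace CfsgLib.JG

open Subgroup Cfsg CfsgLib.Tech CfsgLib.SzS
open scoped MatrixGroups

variable {F : Type*} [Field F] [Finite F] {G : Type*} [Group G] [Finite G]

namespace Fr.Glob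

variable {D : Fr F G} {A L : Subgroup G} (H : D.Glob A L)
include H

theorem VL : D.V ≤ L := H.VA.trans H.AL

theorem no2 {N : Subgroup G} (hN : N ≤ L) : N.relIndex L ≠ 2 := fun h => by
  have := H.simple
  rcases (normal_of_index_eq_two h).eq_bot_or_eq_top with e | e <;> rw [relIndex, e] at h
  · have := isCyclic_of_prime_card (index_bot.symm.trans h)
    exact H.nab inferInstance
  · simp at h

theorem out_ne : D.ι 1 ≠ 1 := fun e => one_ne_zero (D.ι_eq_one.1 e)

theorem oddCore_eq : oddCore G = ⊥ := by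
  have := H.simple
  have := H.top.norm
  rcases (inferInstance : ((oddCore G).subgroupOf L).Normal).eq_bot_or_eq_top with e | e
  · rw [eq_bot_iff, ← H.cL]
    exact fun x hx y hy => (commute_of_normal_of_disjoint _ L inferInstance this (subgroupOf_eq_bot.1 e) x y hx hy).symm
  · exact (odd_card_iff_no_involution.1 (Core.odd_card_oddCore G) _ (subgroupOf_eq_top.1 e (H.VL (D.ι_mem 1)))
      (orderOf_two_of_mul_self (D.ιι 1) H.out_ne)).elim

theorem t_not_central : ∃ g : G, g * D.t ≠ D.t * g := by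
  by_contra! h
  exact D.t1 (mem_bot.1 (H.cL.le fun x _ => h x))

/-- Glauberman's `Z*`-theorem -/
theorem zstar : ∃ s ∈ D.T, s ≠ D.t ∧ IsConj D.t s := by
  by_contra! h
  have h1 : ∀ g, g * D.t * g⁻¹ ∈ D.T → g * D.t * g⁻¹ = D.t := fun g hg => by
    by_contra e
    exact h _ hg e (isConj_iff.2 ⟨g, rfl⟩)
  have ht := D.E_le D.t_mem_E
  have hS := syl_of_fus H.syl H.syl.pgroup le_rfl fun g hg =>
    ⟨1, one_mem _, by rw [h1 g (conj_mem_of_mem_normalizer hg ht)]; simp⟩
  obtain ⟨g, hg⟩ := H.t_not_central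
  exact hg (mem_center_iff.1 (ZStar.zstar_center H.oddCore_eq (ZStar.isIsolatedInvolution_of_sylow hS.toSylowTop
    (orderOf_two_of_mul_self D.tt D.t1) ht h1)) g)

theorem simple_top (ht : D.t ∈ L) : IsSimpleGroup G ∧ ¬ IsMulCommutative G ∧ Nonempty (L ≃* G) := by
  have e : L ≃* G := (MulEquiv.subgroupCongr (eq_top_iff.2 fun g _ =>
    (H.top.gen g).elim id (mul_mem_cancel_left ht).1)).trans topEquiv
  have := H.simple
  exact ⟨e.symm.isSimpleGroup, fun _ => H.nab inferInstance, ⟨e⟩⟩

theorem dvd11 : 11 ∣ Nat.card L := Dvd.dvd.trans (H.cardA ▸ by decide) (card_dvd_of_le H.AL)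

theorem dvd19 : 19 ∣ Nat.card L := Dvd.dvd.trans (H.cardA ▸ by decide) (card_dvd_of_le H.AL)

end Fr.Glob

end CfsgLib.JG
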