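import Mathlib
import Cfsg.Agent.Lib.JG.Cor
import Cfsg.Agent.Lib.JG.Out0
import Cfsg.Agent.Lib.TL2.El
import Cfsg.Agent.Lib.U3S.Gen2

/-! Standard subgroup `J₁` (plans/J1S.md; copy of Lib/GMS without the TI property, package EX0): the kernel of the affine action. -/

set_option autoImplicit false
set_option linter.unusedSectionVars false

namespace CfsgLib.JG

open Subgroup Cfsg CfsgLib.Tech CfsgLib.SzS CfsgLib.TL2
open scoped MatrixGroups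

variable {F : Type*} [Field F] [Finite F] {G : Type*} [Group G] [Finite G]

omit [Finite F] in
/-- the conjugates of `t` in a Sylow subgroup of `Nt t P` -/
theorem ex0_hT [Fintype F] {t : G} {V T P Y : Subgroup G} {ι : F → G} {e : ℕ} {π : Nt t P →* Equiv.Perm F}
    (w : Tp t V T P ι e π) (hA : Aff π.range)
    (hB : ∀ (m : G) (h : m ∈ Nt t P ⊓ centralizer (V : Set G)), π ⟨m, h.1⟩ 0 = 0)
    (hY : IsSylowIn 2 Y (Nt t P)) (hX : P ⊔ zpowers t ≤ Y) (hc : Nat.card Y = Nat.card P * Nat.card T) :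
    ∀ y ∈ Y, IsConj t y → y ∈ P ⊔ zpowers t := by
  have ker : ∀ y (hy : y ∈ Y), π ⟨y, hY.le hy⟩ = 1 → y ∈ P ⊔ zpowers t := fun y hy e =>
    w.stab hY.pgroup hX _ hy (by rw [e, Equiv.Perm.one_apply])
  obtain ⟨U, hU⟩ : ∃ U, U = (Y.subgroupOf (Nt t P)).map π := ⟨_, rfl⟩
  have pU : IsPGroup 2 U := hU ▸ (hY.pgroup.comap_subtype).map π
  have mU : ∀ y (hy : y ∈ Y), π ⟨y, hY.le hy⟩ ∈ U := fun y hy => hU ▸ mem_map_of_mem π hy
  have UA : U ≤ π.range := hU ▸ map_le_range _ _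
  intro y hy c
  by_contra yX
  have y1 : π ⟨y, hY.le hy⟩ ≠ 1 := fun e => yX (ker y hy e)
  obtain ⟨ζ, hζ, oζ, cζ⟩ := exists_mem_center_of_normalized pU le_rfl le_normalizer
    fun e => y1 (mem_bot.1 (e ▸ mU y hy))
  obtain ⟨_, ⟨g, rfl⟩, e⟩ := hA.conj (UA (mU y hy)) (UA hζ) y1 (ne_one_of_orderOf_two oζ) (by
    rw [← pi_mul, ← map_one π]; congr 1; exact Subtype.ext (w.cs.sq' c)) (mul_self_of_orderOf_two oζ)
  have c1 := c.trans (isConj_cj (g : G) y)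
  have hM : IsSylowIn 2 Y (((centralizer {ζ}).comap π).map (Nt t P).subtype) := hY.of_le
    (fun z hz => ⟨⟨z, hY.le hz⟩, mem_centralizer_singleton_iff.2 (cζ _ (mU z hz)), rfl⟩) (map_subtype_le _)
  obtain ⟨_, ⟨m, hm, rfl⟩, h2⟩ := hM.exists_conj_mem (x := g * y * (g : G)⁻¹)
    ⟨g * ⟨y, hY.le hy⟩ * g⁻¹, by rw [SetLike.mem_coe, mem_comap, map_mul, map_mul, map_inv, e,
      mem_centralizer_singleton_iff], rfl⟩ (isPGroup_two_zpowers (w.cs.sq' c1))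
  have c2 := c1.trans (isConj_cj ((Nt t P).subtype m) _)
  have e2 : π ⟨_, hY.le h2⟩ = ζ := by
    have := mem_centralizer_singleton_iff.1 (mem_comap.1 hm)
    show π (m * (g * ⟨y, hY.le hy⟩ * g⁻¹) * m⁻¹) = ζ
    rw [map_mul, map_mul, map_mul, map_mul, map_inv, map_inv, e, this, mul_inv_cancel_right]
  generalize (Nt t P).subtype m * (g * y * (g : G)⁻¹) * ((Nt t P).subtype m)⁻¹ = x at h2 c2 e2
  have h3 := fun v hv => w.all (x := v) hY.pgroup hc c2 (fun z hz => by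
    have hz' := mul_mem (mul_mem hz h2) (inv_mem hz)
    refine w.memP (ker _ (mul_mem h2 hz') ?_) (w.cs.mul_not c2 (c2.trans (isConj_cj z x)))
    rw [pi_mul (hY.le h2) (hY.le hz'), pi_mul (hY.le (mul_mem hz h2)) (inv_mem (hY.le hz)),
      pi_mul (hY.le hz) (hY.le h2), pi_inv (hY.le hz), e2, cζ _ (mU z hz), mul_inv_cancel_right,
      mul_self_of_orderOf_two oζ]) hv
  have h4 := hB x ⟨hY.le h2, fun v hv => by
    rw [inv_of_sq (w.cs.sq' c2) (w.cs.sq' (h3 v (w.le hv))), inv_eq_of_mul_eq_one_right (w.el.sqV hv)]⟩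
  exact ne_one_of_orderOf_two oζ (e2 ▸ w.triv (w.stab hY.pgroup hX _ h2 h4) _)

theorem ex0_eq_one {x : G} (h2 : IsPGroup 2 (zpowers x)) (ho : Odd (orderOf x)) : x = 1 := by
  obtain ⟨k, hk⟩ := isPGroup_zpowers_iff.1 h2
  exact orderOf_eq_one_iff.1
    (Nat.eq_one_of_dvd_coprimes ((Nat.coprime_two_right.2 ho).pow_right k) dvd_rfl hk.dvd)

/-- the coordinate of the image in `W / W²` -/
noncomputable def ex0P (D : Fr F G) (e : ℕ) (w : G) : F := Function.invFun D.ι (w ^ e)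

namespace Fr.Exc

variable {D : Fr F G} {A L W : Subgroup G} {e : ℕ} {π : Nt D.t W →* Equiv.Perm F} (H : D.Exc W e π)
include H

theorem ex0_tL (K : D.Glob A L) : D.t ∉ L := fun ht => by
  have := Fintype.ofFinite F
  obtain ⟨h1, h2, -⟩ := K.simple_top ht
  refine H.tp.last ((h1.eq_bot_or_eq_top_of_normal _ inferInstance).resolve_left fun e => h2 ⟨⟨fun a b => ?_⟩⟩) H.ntr
  exact commutatorElement_eq_one_iff_mul_comm.1 (mem_bot.1 (e ▸ commutator_mem_commutator (mem_top a) (mem_top b)))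

theorem ex0_ι {w : G} (hw : w ∈ W) : D.ι (ex0P D e w) = w ^ e := Function.invFun_eq (H.tp.mem w hw)

theorem ex0_surj (a : F) : ∃ w ∈ W, ex0P D e w = a := by
  obtain ⟨w, hw, h⟩ := H.tp.surj a
  exact ⟨w, hw, D.inj ((H.ex0_ι hw).trans h)⟩

theorem ex0_conj {g w : G} (hg : g ∈ Nt D.t W) (hw : w ∈ W) :
    ex0P D e (g * w * g⁻¹) = π ⟨g, hg⟩ (ex0P D e w) + π ⟨g, hg⟩ 0 := by
  have := Fintype.ofFinite F
  refine D.inj ?_
  rw [add_comm, H.tp.lin hg, H.ex0_ι hw, H.ex0_ι (conj_mem_of_mem_normalizer hg.1 hw), conj_pow]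

theorem ex0_acts (κ : F ≃+ V3) {g : G} (hg : g ∈ Nt D.t W) {m : V3 → V3} :
    Acts W (fun w => κ (ex0P D e w)) g m ↔ ∀ a, κ (π ⟨g, hg⟩ a + π ⟨g, hg⟩ 0) = m (κ a) := by
  refine ⟨fun h a => ?_, fun h w hw => ?_⟩
  · obtain ⟨w, hw, rfl⟩ := H.ex0_surj a
    rw [← H.ex0_conj hg hw]
    exact h w hw
  · show κ _ = m (κ _)
    rw [H.ex0_conj hg hw, h]

theorem ex0_id (κ : F ≃+ V3) {g : G} (hg : g ∈ Nt D.t W) :
    Acts W (fun w => κ (ex0P D e w)) g id ↔ π ⟨g, hg⟩ = 1 := by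
  rw [H.ex0_acts κ hg]
  refine ⟨fun h => H.aff.ntr _ ⟨_, rfl⟩ fun a => ?_, fun h a => by simp [h]⟩
  have := κ.injective (h a)
  linear_combination this - π ⟨g, hg⟩ 0 * D.two

theorem ex0_pow : ∃ n, ∀ w ∈ W, w ^ e = w ^ 2 ^ n := by
  have := Fintype.ofFinite F
  have e0 : e ≠ 0 := by
    rintro rfl
    obtain ⟨x, -, h⟩ := H.tp.surj 1
    exact one_ne_zero (D.ι_eq_one.1 (h.symm.trans (pow_zero x)))
  obtain ⟨n, m, ⟨k, rfl⟩, rfl⟩ := Nat.exists_eq_two_pow_mul_odd e0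
  refine ⟨n, fun w hw => ?_⟩
  have h1 := H.tp.el.sqV (H.tp.mem w hw)
  rw [pow_mul] at h1 ⊢
  have h2 : w ^ 2 ^ n * w ^ 2 ^ n = 1 := ex0_eq_one
    (isPGroup_zpowers_of_mem H.pg (mul_mem (pow_mem hw _) (pow_mem hw _)))
    ((odd_two_mul_add_one k).of_dvd_nat (orderOf_dvd_of_pow_eq_one (by rw [(Commute.refl _).mul_pow, h1])))
  rw [pow_succ, pow_mul, pow_two, h2, one_pow, one_mul]

theorem ex0_η {l : F} (hl : l ≠ 0) : D.η l ∈ Nt D.t W := Tp.mem_N (D.ηt l hl) (H.toInv.η_norm hl)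

/-- the kernel of the affine action is `W⟨t⟩ × O` -/
theorem ex0_O : ∃ O : Subgroup G, O ≤ Nt D.t W ∧ (∀ o ∈ O, ∀ x ∈ W ⊔ zpowers D.t, o * x = x * o) ∧
    (∀ o ∈ O, ∀ l, l ≠ 0 → o * D.η l = D.η l * o) ∧ (∀ o ∈ O, Odd (orderOf o)) ∧
    (∀ g (hg : g ∈ Nt D.t W), π ⟨g, hg⟩ = 1 → ∃ x ∈ W ⊔ zpowers D.t, ∃ o ∈ O, g = x * o) ∧
    (∀ g (hg : g ∈ Nt D.t W), π ⟨g, hg⟩ = 1 → Odd (orderOf g) → g ∈ O) ∧
    ∀ g ∈ Nt D.t W, g ∈ normalizer (O : Set G) := by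
  have := Fintype.ofFinite F
  obtain ⟨O, h1, h2⟩ := H.toR2.exists_O
  have w := H.tp
  have a1 : O ≤ Nt D.t W := fun o ho =>
    Tp.mem_N ((h1 o).1 ho).1 (H.nB o ((h1 o).1 ho).1 (centralizer_le_normalizer _ ((h1 o).1 ho).2.1))
  have a2 : ∀ o ∈ O, ∀ x ∈ W ⊔ zpowers D.t, o * x = x * o := fun o ho x hx => by
    obtain ⟨b1, b2, b3⟩ := (h1 o).1 ho
    refine (Sect.mem_cent.1 ((sup_le (fun y hy => Sect.mem_cent.2 ?_) (zpowers_le.2 (Sect.mem_cent.2 b1.symm)) :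
      _ ≤ centralizer {o}) hx)).symm
    exact (U3S.comm_of_odd H.pg (fun a ha b hb => w.comm ha hb) b3 (fun v => conj_mem_of_mem_normalizer (a1 ho).1)
      (fun v hv vv => (b2 v (w.memV hv vv)).symm) hy).symm
  have a3 : ∀ g (hg : g ∈ Nt D.t W), π ⟨g, hg⟩ = 1 → ∃ x ∈ W ⊔ zpowers D.t, ∃ o ∈ O, g = x * o := by
    intro g hg e
    obtain ⟨y, hy, c⟩ := w.fix hg (by rw [e, Equiv.Perm.one_apply])
    have b1 : g ∈ centralizer (D.V : Set G) := by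
      rintro _ ⟨a, rfl⟩
      have := w.lin hg a
      rw [e, Equiv.Perm.one_apply, Equiv.Perm.one_apply, zero_add] at this
      exact eq_mul_inv_iff_mul_eq.1 this
    obtain ⟨x, hx, o, ho, e'⟩ := h2 _ c (mul_mem (w.X_le (mem_sup_left hy)).2 b1)
    exact ⟨y⁻¹ * x, mul_mem (inv_mem (mem_sup_left hy)) (w.T_le hx), o, ho, by rw [mul_assoc, ← e', inv_mul_cancel_left]⟩
  have a4 : ∀ g (hg : g ∈ Nt D.t W), π ⟨g, hg⟩ = 1 → Odd (orderOf g) → g ∈ O := by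
    intro g hg e b
    obtain ⟨x, hx, o, ho, rfl⟩ := a3 g hg e
    have c : Commute (x * o) o⁻¹ := Commute.inv_right (by
      show _ * _ = _ * _
      rw [← mul_assoc, a2 o ho x hx])
    have b1 := c.orderOf_mul_dvd_mul_orderOf
    rw [mul_inv_cancel_right, orderOf_inv] at b1
    rwa [ex0_eq_one (isPGroup_zpowers_of_mem w.pgX hx) ((b.mul ((h1 o).1 ho).2.2).of_dvd_nat b1), one_mul]
  refine ⟨O, a1, a2, fun o ho l hl => H.toOk.odd_comm ((h1 o).1 ho).1 ((h1 o).1 ho).2.1 ((h1 o).1 ho).2.2 hl,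
    fun o ho => ((h1 o).1 ho).2.2, a3, a4, fun g hg => mem_normalizer_of_forall fun o ho => ?_⟩
  refine a4 _ (mul_mem (mul_mem hg (a1 ho)) (inv_mem hg)) ?_ (by rw [orderOf_conj_eq]; exact ((h1 o).1 ho).2.2)
  have b : π ⟨o, a1 ho⟩ = 1 := Equiv.ext fun a => D.inj (by
    rw [w.cent ((h1 o).1 ho).1, ← ((h1 o).1 ho).2.1 _ (D.ι_mem a), mul_inv_cancel_right, Equiv.Perm.one_apply])
  rw [pi_mul (mul_mem hg (a1 ho)) (inv_mem hg), pi_mul hg (a1 ho), pi_inv hg, b, mul_one, mul_inv_cancel]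

/-- elements of odd order in the kernel commute with all 2-elements -/
theorem ex0_comm (hM : ∀ M ≤ π.range, π.range ≤ normalizer (M : Set (Equiv.Perm F)) →
      (∀ l : F, l ≠ 0 → ∃ f ∈ M, ∀ a, f a = l * a) → ∀ f ∈ π.range, IsPGroup 2 (zpowers f) → f ∈ M) :
    ∃ O : Subgroup G, (∀ g (hg : g ∈ Nt D.t W), π ⟨g, hg⟩ = 1 → Odd (orderOf g) → g ∈ O) ∧
      ∀ s ∈ Nt D.t W, IsPGroup 2 (zpowers s) → ∀ o ∈ O, o * s = s * o := by
  have := Fintype.ofFinite F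
  obtain ⟨O, a1, a2, a3, a4, a5, a6, a7⟩ := H.ex0_O
  refine ⟨O, a6, fun s hs h2 => ?_⟩
  obtain ⟨k, hk⟩ := isPGroup_iff_mem.1 h2 s (mem_zpowers s)
  obtain ⟨⟨c, hc⟩, h3, e⟩ := hM (((centralizer (O : Set G)).subgroupOf (Nt D.t W)).map π) (map_le_range _ _) (by
      rintro _ ⟨g, rfl⟩
      refine mem_normalizer_of_forall ?_
      rintro _ ⟨c, hc, rfl⟩
      refine ⟨g * c * g⁻¹, ?_, by rw [map_mul, map_mul, map_inv]⟩
      show (g : G) * c * (g : G)⁻¹ ∈ centralizer (O : Set G)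
      rw [← mem_normalizer_iff_cj.1 (a7 g g.2), ← cj_centralizer, conj_mem_cj]
      exact hc)
    (fun l hl => ⟨_, ⟨⟨_, H.ex0_η hl⟩, fun o ho => a3 o ho l hl, rfl⟩, fun a => D.inj (by
      rw [H.tp.cent (D.ηt l hl), D.ηι l a hl])⟩) _ ⟨⟨s, hs⟩, rfl⟩ (isPGroup_zpowers_of_pow (k := k) (by
      rw [← map_pow, ← map_one π]; congr 1; exact Subtype.ext hk))
  replace h3 : c ∈ centralizer (O : Set G) := h3
  obtain ⟨x, hx, o, ho, e'⟩ := a5 _ (mul_mem (inv_mem hc) hs) (by rw [pi_mul (inv_mem hc) hs, pi_inv hc, e, inv_mul_cancel])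
  have h4 : c * x ∈ centralizer (O : Set G) := mul_mem h3 fun y hy => a2 y hy x hx
  have h5 : s = c * x * o := by rw [mul_assoc, ← e', mul_inv_cancel_left]
  have h6 : o ∈ centralizer (O : Set G) := by
    refine W2.mem_of_coprime_pow ((Nat.coprime_two_left.2 (a4 o ho)).pow_left k) ?_
      (by rw [pow_orderOf_eq_one]; exact one_mem _)
    rw [h5, (show Commute (c * x) o from (h4 o ho).symm).mul_pow] at hk
    rw [eq_inv_of_mul_eq_one_right hk]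
    exact inv_mem (pow_mem h4 _)
  exact h5 ▸ mul_mem h4 h6

end Fr.Exc

end CfsgLib.JG
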