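import Mathlib
import Cfsg.Agent.Lib.JG.Cor
import Cfsg.Agent.Lib.U3S.Gen2
import Cfsg.Agent.Lib.Rk3.Defs

/-! Standard subgroup `J₁` (plans/J1S.md; copy of Lib/GMS without the TI property): helpers for the packages FINA and FINC. -/

set_option autoImplicit false
set_option linter.unusedSectionVars false

namespace CfsgLib.JG

open Subgroup Cfsg CfsgLib.Tech CfsgLib.SzS
open scoped Pointwise

variable {F : Type*} [Field F] [Finite F] {G : Type*} [Group G] [Finite G]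

theorem fin_inv_pow {Y : Subgroup G} (hY : IsPGroup 2 Y) {x : G} (hx : x ∈ Y) (h1 : x ≠ 1) :
    ∃ k : ℕ, x ^ k ≠ 1 ∧ x ^ k * x ^ k = 1 := by
  obtain ⟨y, hy, h2⟩ := exists_involution_of_pgroup (isPGroup_zpowers_of_mem hY hx) (by simpa using h1)
  obtain ⟨k, rfl⟩ := (mem_powers_iff_mem_zpowers.2 hy : y ∈ Submonoid.powers x)
  exact ⟨k, ne_one_of_orderOf_two h2, mul_self_of_orderOf_two h2⟩

theorem fin_card_mul_le {A B Q : Subgroup G} (hA : A ≤ Q) (hB : B ≤ Q) (h : ∀ x ∈ A, x ∈ B → x = 1) :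
    Nat.card A * Nat.card B ≤ Nat.card Q := by
  rw [← Nat.card_prod]
  refine Nat.card_le_card_of_injective (fun p : A × B => (⟨p.1 * p.2, mul_mem (hA p.1.2) (hB p.2.2)⟩ : Q)) ?_
  rintro ⟨a, b⟩ ⟨a', b'⟩ e
  have e : (a : G) * b = a' * b' := congrArg Subtype.val e
  have e1 : (a' : G)⁻¹ * a = b' * (b : G)⁻¹ := by
    rw [inv_mul_eq_iff_eq_mul, ← mul_assoc, ← e, mul_inv_cancel_right]
  have e2 := h _ (mul_mem (inv_mem a'.2) a.2) (e1 ▸ mul_mem b'.2 (inv_mem b.2))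
  exact Prod.ext (Subtype.ext (inv_mul_eq_one.1 e2).symm) (Subtype.ext (mul_inv_eq_one.1 (e1 ▸ e2)).symm)

theorem fin_card_le_mul {A B Q : Subgroup G} (h : ∀ x ∈ Q, ∃ a ∈ A, ∃ b ∈ B, x = a * b) :
    Nat.card Q ≤ Nat.card A * Nat.card B := by
  rw [← Nat.card_prod]
  choose a ha b hb e using h
  refine Nat.card_le_card_of_injective (fun x : Q => ((⟨a x x.2, ha x x.2⟩, ⟨b x x.2, hb x x.2⟩) : A × B)) ?_
  intro x y exy
  have e1 : a x x.2 = a y y.2 := congrArg (fun p => (p.1 : G)) exy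
  have e2 : b x x.2 = b y y.2 := congrArg (fun p => (p.2 : G)) exy
  exact Subtype.ext (by rw [e x x.2, e y y.2, e1, e2])

theorem fin_isConj {a b s z : G} (h : IsConj a s) (e : z * s * z⁻¹ = b) : IsConj a b :=
  h.trans (isConj_iff.2 ⟨z, e⟩)

namespace Fr

variable {D : Fr F G} {Y L : Subgroup G} {f φ : G} {b : ℕ}

/-- the torus is transitive on the nonidentity elements of `V` -/
theorem fin_trans (D : Fr F G) {v w : G} (hv : v ∈ D.V) (hw : w ∈ D.V) (v1 : v ≠ 1) (w1 : w ≠ 1) :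
    ∃ l, l ≠ 0 ∧ D.η l * v * (D.η l)⁻¹ = w := by
  obtain ⟨a, rfl⟩ := hv
  obtain ⟨c, rfl⟩ := hw
  have ha : a ≠ 0 := fun e => v1 (by rw [e, D.ι0])
  have hc : c ≠ 0 := fun e => w1 (by rw [e, D.ι0])
  exact ⟨c / a, div_ne_zero hc ha, by rw [D.ηι _ _ (div_ne_zero hc ha), div_mul_cancel₀ _ ha]⟩

theorem fin_ι_ne (D : Fr F G) {a : F} (ha : a ≠ 0) : D.ι a ≠ 1 := fun e => ha (D.inj (e.trans D.ι0.symm))

theorem fin_V_comm (D : Fr F G) {v w : G} (hv : v ∈ D.V) (hw : w ∈ D.V) : v * w = w * v := by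
  obtain ⟨a, rfl⟩ := hv
  obtain ⟨c, rfl⟩ := hw
  exact D.ι_comm a c

theorem fin_V_sq (D : Fr F G) {v : G} (hv : v ∈ D.V) : v * v = 1 := by
  obtain ⟨a, rfl⟩ := hv
  exact D.ιι a

theorem Spl.fin_mem (S : D.Spl f φ b) {s : G} (hs : s = φ ∨ s = D.t * φ) : s ∈ D.T1 := by
  rcases hs with rfl | rfl
  · exact S.φT
  · exact mul_mem D.tT1 S.φT

theorem Spl.fin_sq (S : D.Spl f φ b) {s : G} (hs : s = φ ∨ s = D.t * φ) : s * s = 1 := by
  rcases hs with rfl | rfl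
  · exact S.φφ
  · calc D.t * φ * (D.t * φ) = D.t * (φ * D.t) * φ := by group
      _ = (D.t * D.t) * (φ * φ) := by rw [← S.tφ]; group
      _ = 1 := by rw [D.tt, S.φφ, mul_one]

theorem Spl.fin_σ (S : D.Spl f φ b) (R : D.R2) {s : G} (hs : s = φ ∨ s = D.t * φ) : D.σ s = D.σ φ := by
  rcases hs with rfl | rfl
  · rfl
  · exact (S.σφ R).2.2

theorem Spl.fin_two_le (S : D.Spl f φ b) (R : D.R2) : 2 ≤ Nat.card (fixA (D.σ φ)) := by
  have h1 := S.card_F R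
  have h2 := four_le_card D.two D.big
  by_contra h
  have : Nat.card (fixA (D.σ φ)) ≤ 1 := by omega
  have := Nat.pow_le_pow_left this 2
  omega

namespace Inv

variable (H : D.Inv Y)
include H

/-- the involutions of `S ∩ L` -/
theorem fin_inv (hL : Top D.t L) (S : D.Spl f φ b) (ht : D.t ∉ L) (hφ : φ ∈ L) {s : G} (hs : s ∈ Y ⊔ D.T1)
    (hsL : s ∈ L) (ss : s * s = 1) : s ∈ Y ∨ ∃ z ∈ Y, z * s * z⁻¹ = φ := by
  rcases H.inv_cases S hs ss with h | h | ⟨z, hz, h | h⟩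
  · exact Or.inl h
  · exact (ht ((L.mul_mem_cancel_right hsL).1 (H.le_L hL h))).elim
  · exact Or.inr ⟨z, hz, h⟩
  · exact (ht ((L.mul_mem_cancel_right hφ).1 (h ▸ hL.norm.conj_mem s hsL z))).elim

theorem fin_mul (hL : Top D.t L) (S : D.Spl f φ b) (ht : D.t ∉ L) (hφ : φ ∈ L) {s s' : G} (hs : s ∈ Y ⊔ D.T1)
    (hsL : s ∈ L) (ss : s * s = 1) (hn : s ∉ Y) (hs' : s' ∈ Y ⊔ D.T1) (hsL' : s' ∈ L) (ss' : s' * s' = 1)
    (hn' : s' ∉ Y) : s * s' ∈ Y := by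
  obtain ⟨z, hz, e⟩ := (H.fin_inv hL S ht hφ hs hsL ss).resolve_left hn
  obtain ⟨z', hz', e'⟩ := (H.fin_inv hL S ht hφ hs' hsL' ss').resolve_left hn'
  have h1 : s * s' = z⁻¹ * (φ * (z * z'⁻¹) * φ⁻¹) * (φ * φ) * z' := by
    rw [show s = z⁻¹ * φ * z by rw [← e]; group, show s' = z'⁻¹ * φ * z' by rw [← e']; group]
    group
  rw [h1, S.φφ, mul_one]
  exact mul_mem (mul_mem (inv_mem hz) (conj_mem_of_mem_normalizer (H.T1_norm S.φT) (mul_mem hz (inv_mem hz')))) hz'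

theorem fin_le (S : D.Spl f φ b) : Y ⊔ zpowers f ≤ Y ⊔ D.T1 := sup_le_sup_left ((zpowers_le).2 S.fT) _

theorem fin_dec (S : D.Spl f φ b) {s : G} (hs : s ∈ Y ⊔ zpowers f) : ∃ y ∈ Y, ∃ i : ℕ, s = y * f ^ i := by
  have hn : zpowers f ≤ normalizer (Y : Set G) := (zpowers_le).2 (H.T1_norm S.fT)
  have : s ∈ ((Y : Set G) * (zpowers f : Set G)) := by
    rw [← coe_mul_of_right_le_normalizer_left _ _ hn]; exact hs
  obtain ⟨y, hy, z, hz, rfl⟩ := this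
  obtain ⟨k, rfl⟩ := (mem_powers_iff_mem_zpowers.2 hz : z ∈ Submonoid.powers f)
  exact ⟨y, hy, k, rfl⟩

end Inv

end Fr

end CfsgLib.JG
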