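import Mathlib
import Cfsg.Agent.Lib.JG.Cor
import Cfsg.Agent.Lib.JG.Out0
import Cfsg.Agent.Lib.JG.FinH

/-! Standard subgroup `J₁` (plans/J1S.md; copy of Lib/GMS without the TI property, package FINA). -/

set_option autoImplicit false
set_option linter.unusedSectionVars false

namespace CfsgLib.JG

open Subgroup Cfsg CfsgLib.Tech CfsgLib.SzS
open scoped MatrixGroups

variable {F : Type*} [Field F] [Finite F] {G : Type*} [Group G] [Finite G]

namespace Fr.TA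

variable {D : Fr F G} {A L Y : Subgroup G} {f φ : G} {b : ℕ} (H : D.TA Y)
include H

theorem fina_comm {v : G} (hv : v ∈ D.V) : ∃ y ∈ Y, y * D.t * y⁻¹ * D.t⁻¹ = v := by
  by_cases v1 : v = 1
  · exact ⟨1, Y.one_mem, by simp [v1]⟩
  obtain ⟨y, hy, hyV⟩ := H.ne
  have mem : ∀ x ∈ Y, D.t * x * D.t⁻¹ ∈ Y := fun x hx => conj_mem_of_mem_normalizer H.nt hx
  have h1 : y * D.t * y⁻¹ * D.t⁻¹ ∈ Y := by
    simpa [mul_assoc] using mul_mem hy (mem _ (inv_mem hy))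
  obtain ⟨k, hk1, hk2⟩ := fin_inv_pow H.pg h1 fun e => hyV (H.ct y hy (by
    rwa [mul_inv_eq_one, mul_inv_eq_iff_eq_mul] at e))
  have e : (y * D.t * y⁻¹ * D.t⁻¹) ^ k = y ^ k * D.t * (y ^ k)⁻¹ * D.t⁻¹ := by
    have hc : Commute y (D.t * y⁻¹ * D.t⁻¹) := H.ab _ hy _ (mem _ (inv_mem hy))
    calc (y * D.t * y⁻¹ * D.t⁻¹) ^ k = (y * (D.t * y⁻¹ * D.t⁻¹)) ^ k := by group
      _ = _ := by rw [hc.mul_pow, conj_pow]; group
  obtain ⟨l, hl, e1⟩ := D.fin_trans (H.om _ (pow_mem h1 k) hk2) hv hk1 v1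
  refine ⟨D.η l * y ^ k * (D.η l)⁻¹, conj_mem_of_mem_normalizer (H.toInv.η_norm hl) (pow_mem hy k), ?_⟩
  have e2 : D.t = D.η l * D.t * (D.η l)⁻¹ := by rw [D.ηt l hl]; group
  rw [← e1, e]
  calc D.η l * y ^ k * (D.η l)⁻¹ * D.t * (D.η l * y ^ k * (D.η l)⁻¹)⁻¹ * D.t⁻¹
      = D.η l * y ^ k * (D.η l)⁻¹ * (D.η l * D.t * (D.η l)⁻¹) * (D.η l * y ^ k * (D.η l)⁻¹)⁻¹ *
        (D.η l * D.t * (D.η l)⁻¹)⁻¹ := by rw [← e2]
    _ = _ := by group

theorem sylS' : IsSylowIn 2 (Y ⊔ D.T1) ⊤ := by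
  have I := H.toInv
  refine syl_of_fus H.syl I.pgS I.T_le fun g hg => ?_
  have comm : ∀ s ∈ Y ⊔ D.T1, ∀ s' ∈ Y ⊔ D.T1, s * s' * s⁻¹ * s'⁻¹ ∈ Y := fun s hs s' hs' => by
    obtain ⟨y, hy, z, hz, rfl⟩ := I.mem_S.1 hs
    obtain ⟨y', hy', z', hz', rfl⟩ := I.mem_S.1 hs'
    have e : y * z * (y' * z') * (y * z)⁻¹ * (y' * z')⁻¹ =
        y * (z * y' * z⁻¹) * (z * z' * z⁻¹ * y⁻¹ * z'⁻¹) * y'⁻¹ := by group
    rw [e, H.toR2.T1_comm hz hz', mul_inv_cancel_right]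
    exact mul_mem (mul_mem (mul_mem hy (conj_mem_of_mem_normalizer (I.T1_norm hz) hy'))
      (conj_mem_of_mem_normalizer (I.T1_norm hz') (inv_mem hy))) (inv_mem hy')
  have tS : D.t ∈ Y ⊔ D.T1 := mem_sup_right D.tT1
  have nV : ∀ g ∈ normalizer ((Y ⊔ D.T1 : Subgroup G) : Set G), ∀ v ∈ D.V, g * v * g⁻¹ ∈ D.V := fun g hg v hv => by
    obtain ⟨y, hy, e⟩ := H.fina_comm hv
    refine H.om _ ?_ ?_
    · have := comm _ (conj_mem_of_mem_normalizer hg (mem_sup_left hy)) _ (conj_mem_of_mem_normalizer hg tS)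
      rw [← e]
      convert this using 1
      group
    · calc g * v * g⁻¹ * (g * v * g⁻¹) = g * (v * v) * g⁻¹ := by group
        _ = 1 := by rw [D.fin_V_sq hv]; group
  obtain ⟨y, hy, e⟩ := H.fz g (mem_normalizer_of_forall fun x hx => by
    have hxS : x ∈ Y ⊔ D.T1 := sup_le_sup_left ((zpowers_le).2 D.tT1) _ hx
    have hxc : x ∈ centralizer (D.V : Set G) :=
      (sup_le (fun y hy => mem_centralizer_iff.2 fun v hv => H.ab v (H.VY hv) y hy) ((zpowers_le).2 D.t_cent) :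
        Y ⊔ zpowers D.t ≤ centralizer (D.V : Set G)) hx
    refine I.mem_t.2 (I.cent_V (conj_mem_of_mem_normalizer hg hxS) (fun v hv y hy => H.ab y hy v (H.VY hv))
      (mem_centralizer_iff.2 fun v hv => ?_))
    have := mem_centralizer_iff.1 hxc _ (nV g⁻¹ (inv_mem hg) v hv)
    calc v * (g * x * g⁻¹) = g * (g⁻¹ * v * g⁻¹⁻¹ * x) * g⁻¹ := by group
      _ = _ := by rw [this]; group)
  exact ⟨y, mem_sup_left hy, e⟩

/-- every element of `V` is a square in `Y` -/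
theorem exists_sq {v : G} (hv : v ∈ D.V) : ∃ y ∈ Y, y * y = v := by
  by_cases v1 : v = 1
  · exact ⟨1, Y.one_mem, by simp [v1]⟩
  obtain ⟨y, hy, hyV⟩ := H.ne
  obtain ⟨k, hk1, hk2⟩ := fin_inv_pow H.pg (mul_mem hy hy) fun e => hyV (H.om y hy e)
  obtain ⟨l, hl, e1⟩ := D.fin_trans (H.om _ (pow_mem (mul_mem hy hy) k) hk2) hv hk1 v1
  refine ⟨D.η l * y ^ k * (D.η l)⁻¹, conj_mem_of_mem_normalizer (H.toInv.η_norm hl) (pow_mem hy k), ?_⟩
  rw [← e1, (Commute.refl y).mul_pow]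
  group

theorem sixteen : 16 ≤ Nat.card Y := by
  choose s hs e using fun v : D.V => H.exists_sq v.2
  have h1 : Nat.card (D.V × D.V) ≤ Nat.card Y := by
    refine Nat.card_le_card_of_injective (fun p : D.V × D.V => (⟨s p.1 * p.2, mul_mem (hs _) (H.VY p.2.2)⟩ : Y)) ?_
    have sq : ∀ a c : D.V, s a * c * (s a * c) = a := fun a c => by
      calc s a * c * (s a * c) = s a * (c * s a) * c := by group
        _ = s a * s a * (c * c) := by rw [H.ab _ (H.VY c.2) _ (hs a)]; group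
        _ = a := by rw [D.fin_V_sq c.2, e, mul_one]
    rintro ⟨a, c⟩ ⟨a', c'⟩ h
    have h : s a * c = s a' * c' := congrArg Subtype.val h
    obtain rfl : a = a' := Subtype.ext (by rw [← sq a c, h, sq])
    exact Prod.ext rfl (Subtype.ext (mul_left_cancel h))
  rw [Nat.card_prod, D.card_V] at h1
  have := four_le_card D.two D.big
  nlinarith

end Fr.TA

end CfsgLib.JG
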