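import Mathlib
import Cfsg.Agent.Lib.JG.Cor
import Cfsg.Agent.Lib.JG.Out0
import Cfsg.Agent.Lib.JG.FinH

/-! Standard subgroup `J₁` (plans/J1S.md; copy of Lib/GMS without the TI property, package FINC). -/

set_option autoImplicit false
set_option linter.unusedSectionVars false

namespace CfsgLib.JG

open Subgroup Cfsg CfsgLib.Tech CfsgLib.SzS
open scoped MatrixGroups

variable {F : Type*} [Field F] [Finite F] {G : Type*} [Group G] [Finite G]

namespace Fr.TC

variable {D : Fr F G} {A L Y : Subgroup G} {f φ : G} {b : ℕ} {a c : F} {π : G → F × F} {j : F → G}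
  (H : D.TC Y a c π j)
include H

theorem finc_card (S : D.Spl f φ b) {s : G} (hs : s = φ ∨ s = D.t * φ) :
    Nat.card ↥(Y ⊓ centralizer {s}) = Nat.card (fixA (D.σ φ)) ^ 3 :=
  H.toInv.card_cφ S hs H.cen (fun _ => H.sq_mem) H.card

theorem not_conj (S : D.Spl f φ b) {s : G} (hs : s = φ ∨ s = D.t * φ) : ¬ IsConj D.t s := by
  intro hc
  have I := H.toInv
  have h1 := H.toOk.card_le hc (I.pgS.to_inf_left (K := centralizer {s})) inf_le_right
  have h2 := fin_card_mul_le (A := Y ⊓ centralizer {s}) (B := D.T1) (Q := (Y ⊔ D.T1) ⊓ centralizer {s})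
    (inf_le_inf_right _ le_sup_left)
    (fun x hx => ⟨mem_sup_right hx, mem_centralizer_singleton_iff.2 (H.toR2.T1_comm hx (S.fin_mem hs))⟩)
    fun x h1 h2 => I.eq_one h1.1 h2
  rw [D.card_T, ← S.card_F H.toR2] at h1
  rw [H.finc_card S hs] at h2
  have h3 := S.fin_two_le H.toR2
  have h4 := Nat.le_of_mul_le_mul_right (h2.trans h1) Nat.card_pos
  have := (Nat.pow_le_pow_iff_right (by omega)).1 h4
  omega

theorem finc_no {s : G} (hs : s ∈ Y ⊔ D.T1) (hc : IsConj D.t s) : D.t * s ∈ Y := by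
  have I := H.toInv
  have ss := TL2.sq_of_isConj hc D.tt
  rcases H.toR2.cases with h | ⟨f, b, h⟩ | ⟨f, φ, b, h⟩
  · exact (I.mem_t.1 (h ▸ hs)).resolve_left fun h => H.noT h hc
  · exact (I.inv_cy h hs ss).resolve_left fun h => H.noT h hc
  · rcases I.inv_cases h hs ss with h1 | h1 | ⟨z, -, h1 | h1⟩
    · exact (H.noT h1 hc).elim
    · exact h1
    · exact (H.not_conj h (Or.inl rfl) (fin_isConj hc h1)).elim
    · exact (H.not_conj h (Or.inr rfl) (fin_isConj hc h1)).elim

theorem sylS' : IsSylowIn 2 (Y ⊔ D.T1) ⊤ := by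
  refine H.toInv.sylS fun s hs hc => ?_
  have e : D.t * (D.t * s) = s := by rw [← mul_assoc, D.tt, one_mul]
  obtain ⟨z, hz, h⟩ := H.cls (H.finc_no hs hc) (by rw [e]; exact TL2.sq_of_isConj hc D.tt)
  exact ⟨z, hz, e ▸ h⟩

end Fr.TC

end CfsgLib.JG
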