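import Mathlib
import Cfsg.Agent.Lib.JG.Out0

/-! Standard subgroup `J₁` (plans/J1S.md, package OUTA). -/

set_option autoImplicit false
set_option linter.unusedSectionVars false

namespace CfsgLib.JG

open Subgroup Cfsg CfsgLib.Tech CfsgLib.SzS
open scoped MatrixGroups

variable {F : Type*} [Field F] [Finite F] {G : Type*} [Group G] [Finite G]

namespace Fr.Glob

variable {D : Fr F G} {A L : Subgroup G} (H : D.Glob A L)
include H

/-- the Sylow 2-subgroups of `L` are not trivial intersection sets -/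
theorem not_ti : ¬ ∀ T T' : Sylow 2 L, T ≠ T' → (T : Subgroup L) ⊓ T' = ⊥ := by
  intro ti
  have : Fact (Nat.Prime 2) := ⟨Nat.prime_two⟩
  obtain ⟨a, ha, b, hb, a2, b2, az, bz, h3⟩ := H.three
  have ht : D.ι 1 ∈ L := H.VL (D.ι_mem 1)
  have t2 : IsPGroup 2 (zpowers (⟨D.ι 1, ht⟩ : L)) := isPGroup_two_zpowers (Subtype.ext (D.ιι 1))
  obtain ⟨T, hT⟩ := t2.exists_le_sylow
  have key : ∀ (c : G) (hc : c ∈ A), c * c = 1 → c * D.ι 1 = D.ι 1 * c →
      (⟨c, H.AL hc⟩ : L) ∈ (T : Subgroup L) := fun c hc c2 cz => by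
    have c3 : IsPGroup 2 (zpowers (⟨c, H.AL hc⟩ : L)) := isPGroup_two_zpowers (Subtype.ext c2)
    obtain ⟨T', hT'⟩ := (IsPGroup.to_sup_of_normal_right' t2 c3 (zpowers_le.2 (mem_normalizer_of_forall
      fun x hx => by
        have : Commute (⟨D.ι 1, ht⟩ : L) x := by
          obtain ⟨n, rfl⟩ := mem_zpowers_iff.1 hx
          exact Commute.zpow_right (Subtype.ext cz.symm) n
        rwa [this.eq, mul_inv_cancel_right]))).exists_le_sylow
    obtain rfl : T = T' := by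
      by_contra e
      have h4 : (⟨D.ι 1, ht⟩ : L) ∈ (T : Subgroup L) ⊓ T' :=
        ⟨hT (mem_zpowers _), hT' (mem_sup_left (mem_zpowers _))⟩
      rw [ti T T' e, mem_bot] at h4
      exact H.out_ne (congrArg Subtype.val h4)
    exact hT' (mem_sup_right (mem_zpowers _))
  obtain ⟨k, hk⟩ := T.isPGroup' ⟨_, mul_mem (key a ha a2 az) (key b hb b2 bz)⟩
  have h5 : (a * b) ^ 2 ^ k = 1 := congrArg (fun x => ((x.1 : L) : G)) hk
  have h6 := Nat.prime_three.dvd_of_dvd_pow (h3 ▸ orderOf_dvd_of_pow_eq_one h5)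
  omega

theorem of_hasAb (h : HasAb L) {R : Subgroup G} (hR : IsPGroup 2 R) (hRL : R ≤ L)
    (hn : ∃ a ∈ R, ∃ b ∈ R, a * b ≠ b * a) : Concl D.t L (Nat.card F) := by
  exfalso
  have : Fact (Nat.Prime 2) := ⟨Nat.prime_two⟩
  have := H.simple
  rcases Gold.Cor.gold Gold.all.inp inferInstance H.nab h.hasSC with h | ⟨M, hM⟩
  · obtain ⟨a, ha, b, hb, e⟩ := hn
    obtain ⟨T, hT⟩ := (hR.comap_subtype (K := L)).exists_le_sylow
    exact e (congrArg Subtype.val (congrArg Subtype.val ((h T).is_comm.comm ⟨⟨a, hRL ha⟩, hT ha⟩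
      ⟨⟨b, hRL hb⟩, hT hb⟩)))
  · exact H.not_ti (Gold.inputs.seb L inferInstance H.nab M hM).ti

end Fr.Glob

end CfsgLib.JG
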