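import Mathlib
import Cfsg.Agent.Lib.JG.Out0

/-! Standard subgroup `J₁` (plans/J1S.md, package OUTB). -/

set_option autoImplicit false
set_option linter.unusedSectionVars false

namespace CfsgLib.JG

open Subgroup Cfsg CfsgLib.Tech CfsgLib.SzS
open scoped MatrixGroups

variable {F : Type*} [Field F] [Finite F] {G : Type*} [Group G] [Finite G]

namespace Fr.Glob

variable {D : Fr F G} {A L : Subgroup G} (H : D.Glob A L)
include H

theorem of_cfg {S X X' : Subgroup G} (h : CfgIn L S X X') (hS : Nat.card S = 512) :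
    Concl D.t L (Nat.card F) := by
  exfalso
  have := H.simple
  obtain ⟨h1, h2⟩ := h.cfg
  obtain ⟨K, _, _, h3, h4⟩ := h1.simple_iso Gold.all h2
  rw [relIndex_subgroupOf h.syl.le] at h3
  obtain ⟨j, hj, hK⟩ := (Nat.dvd_prime_pow Nat.prime_two).1
    (show X.relIndex S ∣ 2 ^ 9 from (by norm_num : 512 = 2 ^ 9) ▸ hS ▸ relIndex_dvd_card _ _)
  rw [hK] at h3
  have h5 : 512 * S.relIndex L = Nat.card L := by
    rw [← hS, ← Nat.card_congr (subgroupOfEquivOfLe h.syl.le).toEquiv]
    exact card_mul_index _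
  have h6 := h.syl.not_dvd
  have h7 := H.dvd11
  generalize S.relIndex L = m at h5 h6
  rcases h4 with ⟨⟨e⟩⟩ | ⟨⟨e⟩⟩
  · have k := Classical.psl_card_mul (ι := Fin 3) (F := K)
    rw [Classical.sl3_card, h3, Fintype.card_fin, ← Nat.card_congr e.toEquiv] at k
    interval_cases j <;> norm_num at k <;> omega
  · have k := Symp.card_PSp (F := K) (m := 2) (by omega)
    rw [h3, ← Nat.card_congr e.toEquiv] at k
    interval_cases j <;> norm_num [Finset.prod_range_succ] at k <;> omega

end Fr.Glob

end CfsgLib.JG
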