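import Mathlib
import Cfsg.Agent.Lib.JG.Out0
import Cfsg.Agent.S0506
import Cfsg.Agent.Lib.CIT.AppModel

/-! Standard subgroup `J₁` (plans/J1S.md, package OUTC). -/

set_option autoImplicit false
set_option linter.unusedSectionVars false

namespace CfsgLib.JG

open Subgroup Cfsg CfsgLib.Tech CfsgLib.SzS
open scoped MatrixGroups

variable {F : Type*} [Field F] [Finite F] {G : Type*} [Group G] [Finite G]

namespace Fr.Glob

variable {D : Fr F G} {A L : Subgroup G} (H : D.Glob A L)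
include H

theorem of_abelian {S : Subgroup G} (hS : IsSylowIn 2 S L) (ab : ∀ a ∈ S, ∀ b ∈ S, a * b = b * a)
    (h16 : 16 ≤ Nat.card S) : Concl D.t L (Nat.card F) := by
  exfalso
  have := H.simple
  have d : 16 ∣ Nat.card L := by
    obtain ⟨k, hk⟩ := IsPGroup.iff_card.1 hS.pgroup
    refine Dvd.dvd.trans ?_ (card_dvd_of_le hS.le)
    rw [hk] at h16 ⊢
    exact pow_dvd_pow 2 ((Nat.pow_le_pow_iff_right one_lt_two).1 (show 2 ^ 4 ≤ 2 ^ k from h16))
  rcases Agent.S0506.result H.nab hS.toSylow ⟨⟨fun a b => Subtype.ext (Subtype.ext (ab _ a.2 _ b.2))⟩⟩ with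
    ⟨n, hn, K, _, _, hK, ⟨e⟩⟩ | ⟨K, _, _, hK, ⟨e⟩⟩ | ⟨-, m, -, hm⟩ | ⟨-, hJ⟩
  · have h2 : (2 : K) = 0 := SL2.two_eq_zero_of_even (hK ▸ (Nat.even_pow.2 ⟨even_two, by omega⟩))
    let f := e.trans (SL2.pmEquiv h2).symm
    obtain ⟨a, ha, b, hb, aa, bb, az, bz, h3⟩ := H.three
    have hz := H.VL (D.ι_mem 1)
    have k : f ⟨a, H.AL ha⟩ * f ⟨b, H.AL hb⟩ = f ⟨b, H.AL hb⟩ * f ⟨a, H.AL ha⟩ := by
      refine SL2.commute_of_commute (g := f ⟨_, hz⟩) (fun h => H.out_ne ?_) ?_ ?_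
      · rw [← SL2.mem_center_iff_isScal, SL2.center_eq_bot_of_two h2, mem_bot,
          map_eq_one_iff _ f.injective] at h
        exact congrArg Subtype.val h
      · rw [← map_mul, ← map_mul]; exact congrArg f (Subtype.ext az)
      · rw [← map_mul, ← map_mul]; exact congrArg f (Subtype.ext bz)
    rw [← map_mul, ← map_mul] at k
    have k1 : a * b = b * a := congrArg Subtype.val (f.injective k)
    have k2 : (a * b) ^ 2 = 1 := by
      rw [sq, (show Commute b a from k1.symm).mul_mul_mul_comm, aa, bb, one_mul]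
    have := orderOf_dvd_of_pow_eq_one k2
    rw [h3] at this
    omega
  · have hc := CIT.App.psl2_odd_card (F := K) (Nat.odd_iff.2 (by omega))
    rw [← Nat.card_congr e.toEquiv] at hc
    have := hc ▸ d.mul_left 2
    obtain ⟨p, hp⟩ : ∃ p, Fintype.card K = p + 1 := ⟨Fintype.card K - 1, by omega⟩
    rw [hp, Nat.add_sub_cancel, Nat.dvd_iff_mod_eq_zero] at this
    rcases (by omega : p % 16 = 2 ∨ p % 16 = 4 ∨ p % 16 = 10 ∨ p % 16 = 12) with k | k | k | k <;>
      simp [Nat.mul_mod, Nat.add_mod, k] at this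
  · have hq : 3 ^ (2 * m + 1) % 8 = 3 := by simp [pow_succ 3, pow_mul, Nat.mul_mod, Nat.pow_mod]
    obtain ⟨p, hp⟩ : ∃ p, 3 ^ (2 * m + 1) = p + 1 := Nat.exists_eq_succ_of_ne_zero (by positivity)
    rw [hm, hp, Nat.add_sub_cancel, Nat.dvd_iff_mod_eq_zero] at d
    rcases (by omega : p % 16 = 2 ∨ p % 16 = 10) with k | k <;>
      simp [Nat.mul_mod, Nat.add_mod, Nat.pow_mod, k] at d
  · rw [hJ] at d
    omega

end Fr.Glob

end CfsgLib.JG
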