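import Mathlib
import Cfsg.Agent.Lib.JG.Out0

/-! Standard subgroup `J₁` (plans/J1S.md; copy of Lib/GMS without the TI property, package REDA). -/

set_option autoImplicit false
set_option linter.unusedSectionVars false

namespace CfsgLib.JG

open Subgroup Cfsg CfsgLib.Tech CfsgLib.SzS
open scoped MatrixGroups

variable {F : Type*} [Field F] [Finite F] {G : Type*} [Group G] [Finite G]

namespace Fr

variable {D : Fr F G} {A L : Subgroup G}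

theorem Ok.exists_E (H : D.Ok) (h : Nat.card F ≠ 4 ∨ ∀ s ∈ D.T1, s * s = 1 → D.σ s = 1) {s : G} (hs : s ∈ D.T)
    (h1 : s ≠ D.t) (hc : IsConj D.t s) : ∃ e ∈ D.E, e ≠ D.t ∧ IsConj D.t e := by
  by_cases hE : s ∈ D.E
  · exact ⟨s, hE, h1, hc⟩
  have ss := TL2.sq_of_isConj hc D.tt
  have hn : s ∉ centralizer (D.V : Set G) := fun e => hE (H.mem_E_of_sq hs e ss)
  obtain ⟨a, hu⟩ := D.conj_T1 hs ss hn
  have c1 : IsConj D.t (D.ι a * s * D.ι a) := hc.trans (isConj_iff.2 ⟨D.ι a, by rw [D.ι_inv]⟩)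
  have n1 : D.σ (D.ι a * s * D.ι a) ≠ 1 := fun e => hn ((mul_mem_cancel_left (D.ι_cent a)).1
    ((mul_mem_cancel_right (D.ι_cent a)).1 ((D.σ_eq_one hu).1 e)))
  generalize D.ι a * s * D.ι a = u at hu c1 n1
  have uu := TL2.sq_of_isConj c1 D.tt
  obtain ⟨l, l0, l1, hl⟩ := exists_fix D.two n1 (D.σ_sq hu uu) (h.resolve_right fun e => n1 (e u hu uu))
  obtain ⟨g, e, hg⟩ := H.conj_le c1 (Q := D.T ⊓ centralizer {u}) (H.pgT.to_le inf_le_left) inf_le_right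
  rw [cj_le_iff] at hg
  have cm : ∀ x, x * u = u * x → g * x * g⁻¹ * D.t = D.t * (g * x * g⁻¹) := fun x hx => by
    rw [← e, conj_mul, conj_mul, hx]
  have hv : D.ι (1 + l) * u = u * D.ι (1 + l) := (D.ac_T1 hu).comm.2 (by rw [map_add, map_one, hl])
  have e1 : g * D.ι (1 + l) * g⁻¹ = g * D.ι 1 * g⁻¹ * (g * D.η l * g⁻¹) * (g * D.ι 1 * g⁻¹)⁻¹ * (g * D.η l * g⁻¹)⁻¹ := by
    rw [D.add, ← mul_one l, ← D.ηι l 1 l0, mul_one]
    nth_rewrite 2 [← D.ι_inv]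
    group
  obtain ⟨a', e2⟩ : g * D.ι (1 + l) * g⁻¹ ∈ D.V := by
    have := hg _ ⟨mem_sup_left (D.ι_mem _), Sect.mem_cent.2 hv⟩
    rw [e1] at this ⊢
    exact H.nc _ _ (cm _ (mul_inv_eq_iff_eq_mul.1 (by rw [D.actη u hu l l0, hl])).symm)
      (cm _ ((D.ac_T1 hu).comm.2 (map_one _))) (by rw [orderOf_conj_eq]; exact D.η_odd l0) this
  have ht := hg _ ⟨mem_sup_right D.tT1, Sect.mem_cent.2 (D.T1t u hu).symm⟩
  have c2 : IsConj D.t (g * D.t * g⁻¹) := isConj_iff.2 ⟨g, rfl⟩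
  by_cases hE' : g * D.t * g⁻¹ ∈ D.E
  · refine ⟨_, hE', fun e' => n1 ?_, c2⟩
    rw [mul_left_cancel (mul_right_cancel (e.trans e'.symm)), D.σ_t]
  refine ⟨D.t * D.ι (1 + l), D.mem_E.2 ⟨_, Or.inr rfl⟩, fun e' => D.one_add_ne l1 (D.ι_eq_one.1 (mul_eq_left.1 e')), ?_⟩
  obtain ⟨b, y, hy, e3⟩ := D.mem_T.1 ht
  have ac := e3 ▸ D.ac_mul b hy
  have tt := TL2.sq_of_isConj c2 D.tt
  obtain ⟨d, hd⟩ := exists_trace D.two (fun e => hE' (H.mem_E_of_sq ht (ac.cent.1 e) tt))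
    (D.σ_sq hy (D.sq_mul hy (e3 ▸ tt)).1) (ac.comm.1 (by rw [e2, conj_mul, conj_mul, D.tι]))
  refine (c2.trans (isConj_iff.2 ⟨D.ι d, ?_⟩)).trans
    (isConj_iff.2 ⟨g⁻¹, by rw [D.tι]; group⟩ : IsConj (g * (D.ι (1 + l) * D.t) * g⁻¹) _)
  rw [← conj_mul (a := D.ι (1 + l)), ← e2, hd, D.add, ← ac, D.ι_inv]
  group

theorem Ok.mover (H : D.Ok) (h : Nat.card F ≠ 4 ∨ ∀ s ∈ D.T1, s * s = 1 → D.σ s = 1) {e : G} (he : e ∈ D.E)
    (h1 : e ≠ D.t) (hc : IsConj D.t e) : ∃ n ∈ normalizer (D.E : Set G), n * D.t ≠ D.t * n := by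
  obtain ⟨g, e1, hg⟩ := H.conj_le hc (H.pgT.to_le D.E_le) fun x hx =>
    Sect.mem_cent.2 (Sect.comm_of_sq (fun _ => D.E_sq) hx he)
  refine ⟨g, mem_normalizer_iff_cj.2 (H.elem_eq h hg (fun x hx => ?_) (by rw [card_cj, D.card_E])), fun e2 => h1 ?_⟩
  · have := D.E_sq (mem_cj.1 hx)
    rwa [show g⁻¹ * x * g * (g⁻¹ * x * g) = g⁻¹ * (x * x) * g⁻¹⁻¹ by group, conj_eq_one_iff] at this
  · exact mul_left_cancel ((mul_inv_eq_iff_eq_mul.1 e1).trans e2.symm)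

theorem Ok.r2_of_mover (H : D.Ok) {n : G} (hn : n ∈ normalizer (D.E : Set G)) (h : n * D.t ≠ D.t * n) : D.R2 := by
  refine ⟨H, fun r hr hc => by_contra fun hne => h ?_⟩
  have cE : ∀ x, x * D.t = D.t * x → x ∈ centralizer (D.V : Set G) → x ∈ centralizer (D.E : Set G) :=
    fun x h1 h2 e he => (D.E_comm h1 h2 he).symm
  have nC : normalizer (D.E : Set G) ≤ normalizer (centralizer (D.E : Set G) : Set G) := fun g hg => by
    rw [mem_normalizer_iff_cj, cj_centralizer, mem_normalizer_iff_cj.1 hg]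
  have hS := (H.syl.of_le (K := centralizer {D.t} ⊓ normalizer (D.E : Set G))
    (le_inf H.syl.le fun x hx => D.norm_E (D.T_comm hx) (D.T_norm hx)) inf_le_left).inf_of_le_normalizer
      (inf_le_right.trans nC)
  rw [inf_eq_right.2 (le_inf (fun x hx => Sect.mem_cent.2 (hx _ D.t_mem_E).symm) (centralizer_le_normalizer _))] at hS
  obtain ⟨c, hc', hm⟩ := hS.frattini (nC hn)
  obtain ⟨k, hk⟩ := isPGroup_zpowers_iff.1 (isPGroup_zpowers_of_mem D.pg1 hr)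
  have cyc : ∀ x ∈ D.T1, x ∈ centralizer (D.V : Set G) → x * x = 1 → x ≠ 1 → x = D.t := fun x h1 h2 h3 h4 =>
    (base_cyc H.cyc ⟨h1, h2⟩ ⟨D.tT1, D.t_cent⟩ h3 D.tt D.t1).resolve_left h4
  obtain ⟨j, hj⟩ : ∃ j : ℕ, r ^ j * r ^ j = D.t := by
    rcases k with _ | k
    · exact absurd (Or.inl (orderOf_eq_one_iff.1 hk)) hne
    have h1 := cyc _ (D.T1.pow_mem hr _) (pow_mem hc _) (base_inv hk).1 (base_inv hk).2
    rcases k with _ | k
    · exact absurd (Or.inr (by simpa using h1)) hne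
    · exact ⟨2 ^ k, by rw [← h1, ← pow_add, ← two_mul, ← pow_succ']⟩
  have h2 := conj_mem_of_mem_normalizer hm (show r ^ j ∈ D.T ⊓ centralizer (D.E : Set G) from
    ⟨mem_sup_right (D.T1.pow_mem hr j), cE _ (D.T1t _ (D.T1.pow_mem hr j)) (pow_mem hc j)⟩)
  obtain ⟨a, y, hy, e⟩ := D.mem_T.1 h2.1
  have h3 : y ∈ centralizer (D.V : Set G) :=
    (mul_mem_cancel_left (D.ι_cent a)).1 (e ▸ centralizer_le (SetLike.coe_subset_coe.2 D.V_le_E) h2.2)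
  have h4 : y * y = n * D.t * n⁻¹ := by
    rw [← one_mul (y * y), ← D.ιι a, mul_assoc, ← mul_assoc _ y, h3 _ (D.ι_mem a), mul_assoc, h3 _ (D.ι_mem a),
      ← mul_assoc, ← h3 _ (D.ι_mem a), ← e, conj_mul, hj,
      show c * n * D.t * (c * n)⁻¹ = c * (n * D.t * n⁻¹) * c⁻¹ by group,
      ← hc' _ (conj_mem_of_mem_normalizer hn D.t_mem_E), mul_inv_cancel_right]
  exact mul_inv_eq_iff_eq_mul.1 (h4 ▸ cyc _ (mul_mem hy hy) (mul_mem h3 h3)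
    (by rw [h4, conj_mul, D.tt, mul_one, mul_inv_cancel]) (by rw [h4]; exact fun e => D.t1 (conj_eq_one_iff.1 e)))

variable (D) in
/-- the conjugates of `t` under `N(E)` -/
def RaO (x : G) : Prop := ∃ m ∈ normalizer (D.E : Set G), m * D.t * m⁻¹ = x

variable (D) in
/-- `y` lies in the conjugate of `V` that belongs to `x` -/
def RaP (x y : G) : Prop := ∃ m ∈ normalizer (D.E : Set G), m * D.t * m⁻¹ = x ∧ m⁻¹ * y * m ∈ D.V

theorem ra_η {l : F} (hl : l ≠ 0) : D.η l ∈ normalizer (D.E : Set G) := D.norm_E (D.ηt l hl) (D.η_norm hl)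

theorem ra_ηt {l : F} (hl : l ≠ 0) (a : F) : D.η l * (D.t * D.ι a) * (D.η l)⁻¹ = D.t * D.ι (l * a) := by
  rw [← D.ηι l a hl, ← mul_assoc, D.ηt l hl]
  group

theorem ra_mul {y y' : G} (h : y ∈ D.E) (h' : y' ∈ D.E) : y * y' ∈ D.V ↔ (y ∈ D.V ↔ y' ∈ D.V) := by
  by_cases e : y ∈ D.V
  · rw [mul_mem_cancel_left e, iff_true_intro e, true_iff]
  by_cases e' : y' ∈ D.V
  · rw [mul_mem_cancel_right e', iff_true_intro e', iff_true]
  have := mul_mem ((D.mem_E'.1 h).resolve_left e) ((D.mem_E'.1 h').resolve_left e')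
  rw [mul_assoc, ← mul_assoc y, D.T_comm (D.E_le h), ← mul_assoc, ← mul_assoc, D.tt, one_mul] at this
  exact iff_of_true this (iff_of_false e e')

theorem RaO.t : D.RaO D.t := ⟨1, one_mem _, by simp⟩

theorem RaO.mem {x : G} (h : D.RaO x) : x ∈ D.E := by
  obtain ⟨m, hm, rfl⟩ := h
  exact conj_mem_of_mem_normalizer hm D.t_mem_E

theorem RaO.isConj {x : G} (h : D.RaO x) : IsConj D.t x := by
  obtain ⟨m, -, rfl⟩ := h
  exact isConj_iff.2 ⟨m, rfl⟩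

theorem RaO.conj {x k : G} (h : D.RaO x) (hk : k ∈ normalizer (D.E : Set G)) : D.RaO (k * x * k⁻¹) := by
  obtain ⟨m, hm, rfl⟩ := h
  exact ⟨k * m, mul_mem hk hm, by group⟩

theorem RaO.V {a b : F} (h : D.RaO (D.ι a)) (hb : b ≠ 0) : D.RaO (D.ι b) := by
  have ha : a ≠ 0 := fun e => D.t1 (isConj_one_left.1 (by rw [← D.ι0, ← e]; exact h.isConj))
  have := h.conj (ra_η (div_ne_zero hb ha))
  rwa [D.ηι _ _ (div_ne_zero hb ha), div_mul_cancel₀ _ ha] at this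

theorem RaO.tV {a : F} (h : D.RaO (D.t * D.ι a)) (ha : a ≠ 0) (b : F) : D.RaO (D.t * D.ι b) := by
  by_cases hb : b = 0
  · rw [hb, D.ι0, mul_one]
    exact RaO.t
  have := h.conj (ra_η (div_ne_zero hb ha))
  rwa [ra_ηt (div_ne_zero hb ha), div_mul_cancel₀ _ ha] at this

theorem Ok.ra_norm (H : D.Ok) {c : G} (h : c * D.t = D.t * c) (hc : c ∈ normalizer (D.E : Set G)) :
    c ∈ normalizer (D.V : Set G) := mem_normalizer_of_forall fun _ hv =>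
  H.conj_mem_V h hv (D.E_le (conj_mem_of_mem_normalizer hc (D.V_le_E hv)))

theorem Ok.raP (H : D.Ok) {m y : G} (hm : m ∈ normalizer (D.E : Set G)) :
    D.RaP (m * D.t * m⁻¹) y ↔ m⁻¹ * y * m ∈ D.V := by
  refine ⟨?_, fun h => ⟨m, hm, rfl, h⟩⟩
  rintro ⟨k, hk, e, h⟩
  have := conj_mem_of_mem_normalizer (H.ra_norm (c := m⁻¹ * k) (by
    rw [mul_assoc, mul_inv_eq_iff_eq_mul.1 e]; group) (mul_mem (inv_mem hm) hk)) h
  rwa [show m⁻¹ * k * (k⁻¹ * y * k) * (m⁻¹ * k)⁻¹ = m⁻¹ * y * m by group] at this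

theorem Ok.raP_t (H : D.Ok) {y : G} : D.RaP D.t y ↔ y ∈ D.V := by simpa using H.raP (y := y) (one_mem _)

theorem Ok.raP_conj (H : D.Ok) {k x y : G} (hk : k ∈ normalizer (D.E : Set G)) (hx : D.RaO x) :
    D.RaP (k * x * k⁻¹) (k * y * k⁻¹) ↔ D.RaP x y := by
  obtain ⟨m, hm, rfl⟩ := hx
  rw [H.raP hm, show k * (m * D.t * m⁻¹) * k⁻¹ = k * m * D.t * (k * m)⁻¹ by group, H.raP (mul_mem hk hm),
    show (k * m)⁻¹ * (k * y * k⁻¹) * (k * m) = m⁻¹ * y * m by group]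

theorem Ok.raP_mul (H : D.Ok) {x y y' : G} (hx : D.RaO x) (h : y ∈ D.E) (h' : y' ∈ D.E) :
    D.RaP x (y * y') ↔ (D.RaP x y ↔ D.RaP x y') := by
  obtain ⟨m, hm, rfl⟩ := hx
  rw [H.raP hm, H.raP hm, H.raP hm, ← ra_mul (conj_mem_of_mem_normalizer' hm h) (conj_mem_of_mem_normalizer' hm h'),
    show m⁻¹ * (y * y') * m = m⁻¹ * y * m * (m⁻¹ * y' * m) by group]

theorem Ok.raP_self (H : D.Ok) {x : G} (hx : D.RaO x) : ¬ D.RaP x x := by
  obtain ⟨m, hm, rfl⟩ := hx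
  rw [H.raP hm, show m⁻¹ * (m * D.t * m⁻¹) * m = D.t by group]
  exact D.t_not_mem

theorem Ok.raP_key (H : D.Ok) {x y : G} (hx : D.RaO x) (hy : D.RaO y) (h : x ≠ y) :
    (D.RaP y x → (D.RaP x y ↔ D.RaP (D.ι 1) D.t)) ∧ (¬ D.RaP y x → (D.RaP x y ↔ D.RaP (D.t * D.ι 1) D.t)) := by
  obtain ⟨m, hm, rfl⟩ := hy
  have h1 := hx.conj (inv_mem hm)
  rw [H.raP hm, ← H.raP_conj (inv_mem hm) hx, show m⁻¹ * (m * D.t * m⁻¹) * m⁻¹⁻¹ = D.t by group]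
  have h2 : m⁻¹ * x * m⁻¹⁻¹ ≠ D.t := fun e => h (by rw [← e]; group)
  rw [inv_inv] at h1 h2 ⊢
  generalize m⁻¹ * x * m = w at h1 h2
  have ct : ∀ a, a ≠ 0 → D.η a * D.t * (D.η a)⁻¹ = D.t := fun a ha => by rw [D.ηt a ha, mul_inv_cancel_right]
  constructor
  · rintro ⟨a, rfl⟩
    have ha : a ≠ 0 := fun e => D.t1 (isConj_one_left.1 (by rw [← D.ι0, ← e]; exact h1.isConj))
    rw [← H.raP_conj (ra_η ha) (h1.V one_ne_zero), D.ηι _ _ ha, mul_one, ct a ha]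
  · intro hw
    obtain ⟨a, rfl | rfl⟩ := D.mem_E.1 h1.mem
    · exact absurd (D.ι_mem a) hw
    have ha : a ≠ 0 := fun e => h2 (by rw [e, D.ι0, mul_one])
    rw [← H.raP_conj (ra_η ha) (h1.tV ha 1), ra_ηt ha, mul_one, ct a ha]

theorem ra_prop1 {A B p q X Y u w : Prop} (p1 : p) (p2 : ¬ q) (k1 : (A → (p ↔ A)) ∧ (¬ A → (p ↔ B)))
    (k2 : (B → (q ↔ A)) ∧ (¬ B → (q ↔ B))) (k3 : (X → (Y ↔ A)) ∧ (¬ X → (Y ↔ B))) (k5 : w ↔ (B ↔ X))
    (k6 : Y ↔ (A ↔ u)) (k7 : ¬ u) (k8 : ¬ w) : ¬ A ∧ B := by grind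

theorem ra_prop2 {A B p x X y Y z : Prop} (hA : ¬ A) (hB : B) (l1 : (p → (z ↔ A)) ∧ (¬ p → (z ↔ B)))
    (l2 : (X → (x ↔ A)) ∧ (¬ X → (x ↔ B))) (l3 : (Y → (y ↔ A)) ∧ (¬ Y → (y ↔ B))) (l4 : y ↔ (z ↔ x)) (l5 : p) :
    Y ↔ ¬ X := by grind

theorem ra_prop3 {x y X Y : Prop} (l1 : X ↔ ¬ x) (l2 : Y ↔ ¬ y) (l3 : (X ↔ Y) ↔ ¬ (x ↔ y)) : False := by grind

/-- if `N(E)` is transitive on the involutions of `E`, then `q = 4` -/
theorem Ok.ra_four (H : D.Ok) (all : ∀ x ∈ D.E, x ≠ 1 → D.RaO x) : Nat.card F = 4 := by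
  by_contra h4
  have oV : ∀ a, a ≠ 0 → D.RaO (D.ι a) := fun a ha => all _ (D.V_le_E (D.ι_mem a)) fun e => ha (D.ι_eq_one.1 e)
  have nt : ∀ a b, D.ι a ≠ D.t * D.ι b := fun a b e =>
    D.t_not_mem ((mul_mem_cancel_right (D.ι_mem b)).1 (e ▸ D.ι_mem a))
  have o1 := oV 1 one_ne_zero
  have o2 : D.RaO (D.t * D.ι 1) := all _ (D.mem_E.2 ⟨_, Or.inr rfl⟩) fun e => nt 0 1 (D.ι0.trans e.symm)
  have n2 : D.t ≠ D.t * D.ι 1 := fun e => one_ne_zero (D.ι_eq_one.1 (left_eq_mul.1 e))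
  have p1 : D.RaP D.t (D.ι 1) := H.raP_t.2 (D.ι_mem 1)
  have p2 : ¬ D.RaP D.t (D.t * D.ι 1) := fun e => by
    obtain ⟨a, e⟩ := H.raP_t.1 e
    exact nt a 1 e
  have k1 := H.raP_key RaO.t o1 (D.tV 1).symm
  have k2 := H.raP_key RaO.t o2 n2
  have k3 := H.raP_key o1 o2 (nt 1 1)
  have k5 := H.raP_mul o2 D.t_mem_E o1.mem
  have k6 := H.raP_mul o1 D.t_mem_E o1.mem
  have k7 := H.raP_self o1
  have k8 := H.raP_self o2
  obtain ⟨hA, hB⟩ := ra_prop1 p1 p2 k1 k2 k3 k5 k6 k7 k8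
  have key : ∀ a, a ≠ 0 → a ≠ 1 → (D.RaP (D.t * D.ι 1) (D.ι a) ↔ ¬ D.RaP (D.ι 1) (D.ι a)) := fun a a0 a1 => by
    have o := oV a a0
    have l1 := H.raP_key o RaO.t (D.tV a)
    have l2 := H.raP_key o o1 fun e => a1 (D.inj e)
    have l3 := H.raP_key o o2 (nt a 1)
    have l4 := H.raP_mul o D.t_mem_E o1.mem
    exact ra_prop2 hA hB l1 l2 l3 l4 (H.raP_t.2 (D.ι_mem a))
  obtain ⟨a, a0, a1⟩ := D.big
  obtain ⟨b, hb⟩ : ∃ b : F, b ∉ ({0, 1, a, a + 1} : Set F) := by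
    by_contra hn
    push Not at hn
    have h1 := Set.ncard_le_ncard (show Set.univ ⊆ ({0, 1, a, a + 1} : Set F) from fun b _ => hn b)
    have h2 := Set.ncard_insert_le (0 : F) {1, a, a + 1}
    have h3 := Set.ncard_insert_le (1 : F) {a, a + 1}
    have h5 := Set.ncard_insert_le a {a + 1}
    have h6 := D.four_le
    rw [Set.ncard_univ] at h1
    rw [Set.ncard_singleton] at h5
    omega
  simp only [Set.mem_insert_iff, Set.mem_singleton_iff, not_or] at hb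
  have l1 := key a a0 a1
  have l2 := key b hb.1 hb.2.1
  have l3 := key (a + b) (fun e => hb.2.2.1 (D.eq_of_add e).symm) fun e => hb.2.2.2 (by
    linear_combination e - a * D.two)
  rw [D.add, H.raP_mul o2 (oV a a0).mem (oV b hb.1).mem, H.raP_mul o1 (oV a a0).mem (oV b hb.1).mem] at l3
  exact ra_prop3 l1 l2 l3

/-- a Sylow subgroup of `N(E)` that centralises a conjugate of `t` -/
theorem Ok.ra_syl (H : D.Ok) {X : Subgroup G} (hX : X ≤ D.E) (hn : normalizer (D.E : Set G) ≤ normalizer (X : Set G))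
    (h0 : X ≠ ⊥) (h : ∀ x ∈ X, x ≠ 1 → IsConj D.t x) : IsSylowIn 2 D.T (normalizer (D.E : Set G)) := by
  have le : D.T ≤ normalizer (D.E : Set G) := fun x hx => D.norm_E (D.T_comm hx) (D.T_norm hx)
  obtain ⟨P, hP, hT⟩ := exists_isSylowIn_ge H.pgT le
  obtain ⟨x, hx, x1, hc⟩ := Sect.exists_cent_of_norm hP.pgroup (hX.trans (D.E_le.trans hT))
    (fun g hg x => conj_mem_of_mem_normalizer (hn (hP.le hg))) h0
  exact hP.of_card_le H.pgT le (H.card_le (h x hx x1) hP.pgroup fun y hy => Sect.mem_cent.2 (hc y hy))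

theorem Glob.gen_or (H : D.Glob A L) (R : D.R2) {n : G} (hn : n ∈ normalizer (D.E : Set G))
    (h : n * D.t ≠ D.t * n) : Concl D.t L (Nat.card F) ∨ D.Gen := by
  have O := H.toOk
  have hV0 : D.V ≠ ⊥ := fun e => one_ne_zero (D.ι_eq_one.1 (mem_bot.1 (e ▸ D.ι_mem 1)))
  have prod : ∀ m ∈ normalizer (D.E : Set G), ∀ a b, m * (D.t * D.ι a) * m⁻¹ ∉ D.V → m * (D.t * D.ι b) * m⁻¹ ∉ D.V →
      m * D.ι (a + b) * m⁻¹ ∈ D.V := fun m hm a b h1 h2 => by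
    have := (ra_mul (conj_mem_of_mem_normalizer hm (D.mem_E.2 ⟨a, Or.inr rfl⟩))
      (conj_mem_of_mem_normalizer hm (D.mem_E.2 ⟨b, Or.inr rfl⟩))).2 (iff_of_false h1 h2)
    rwa [conj_mul, mul_assoc D.t, ← mul_assoc (D.ι a), ← D.tι, ← mul_assoc D.t, ← mul_assoc D.t, D.tt, one_mul,
      ← D.add] at this
  by_cases hA : ∃ a, D.RaO (D.ι a)
  · obtain ⟨a, hA⟩ := hA
    by_cases hB : ∃ b, b ≠ 0 ∧ D.RaO (D.t * D.ι b)
    · obtain ⟨b, b0, hB⟩ := hB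
      have all : ∀ x ∈ D.E, x ≠ 1 → D.RaO x := fun x hx x1 => by
        obtain ⟨c, rfl | rfl⟩ := D.mem_E.1 hx
        · exact hA.V fun e => x1 (D.ι_eq_one.2 e)
        · exact hB.tV b0 c
      have h4 := O.ra_four all
      exact absurd (h4.symm.trans H.card8) (by decide)
    push Not at hB
    obtain ⟨m, hm, e⟩ := hA
    have key : ∀ b, b ≠ 0 → m⁻¹ * (D.t * D.ι b) * m⁻¹⁻¹ ∉ D.V := by
      rintro b b0 ⟨c, e'⟩
      have h1 := (RaO.V ⟨m, hm, e⟩ (b := c) fun e1 => ?_).conj hm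
      · exact hB b b0 (by rwa [e', show m * (m⁻¹ * (D.t * D.ι b) * m⁻¹⁻¹) * m⁻¹ = D.t * D.ι b by group] at h1)
      · rw [e1, D.ι0, eq_comm, conj_eq_one_iff, mul_eq_one_iff_eq_inv, D.ι_inv] at e'
        exact D.tV b e'.symm
    obtain ⟨b, b0, b1⟩ : ∃ b : F, b ≠ 0 ∧ b ≠ a := by
      obtain ⟨c, c0, c1⟩ := D.big
      by_cases h1 : a = 1
      exacts [⟨c, c0, h1 ▸ c1⟩, ⟨1, one_ne_zero, Ne.symm h1⟩]
    have h1 := prod _ (inv_mem hm) b (b + a) (key b b0) (key _ fun e => b1 (D.eq_of_add e))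
    rw [← add_assoc, D.add_self, zero_add, ← e, show m⁻¹ * (m * D.t * m⁻¹) * m⁻¹⁻¹ = D.t by group] at h1
    exact absurd h1 D.t_not_mem
  push Not at hA
  have nV : ∀ x, D.RaO x → x ∉ D.V := by
    rintro _ h ⟨a, rfl⟩
    exact hA a h
  have on : D.RaO (n * D.t * n⁻¹) := RaO.t.conj hn
  obtain ⟨a, e⟩ := (D.mem_E'.1 on.mem).resolve_left (nV _ on)
  have e' : n * D.t * n⁻¹ = D.t * D.ι a := by rw [e, ← mul_assoc D.t, D.tt, one_mul]
  have all := (e' ▸ on).tV fun a0 => h (mul_inv_eq_iff_eq_mul.1 (by rw [e', a0, D.ι0, mul_one]))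
  have le : normalizer (D.E : Set G) ≤ normalizer (D.V : Set G) := fun m hm => mem_normalizer_of_forall (by
    rintro _ ⟨b, rfl⟩
    exact zero_add b ▸ prod m hm 0 b (nV _ ((all 0).conj hm)) (nV _ ((all b).conj hm)))
  refine Or.inr ⟨R, ?_, n, le hn, ⟨a, e⟩, h⟩
  rintro _ ⟨c, rfl⟩ hc
  have c0 : c ≠ 0 := fun e => D.t1 (isConj_one_left.1 (by rw [← D.ι0, ← e]; exact hc))
  obtain ⟨k, hk⟩ := card_two_pow D.two
  obtain ⟨y, hy, e1⟩ := TL2.reach (t := D.t) (k := k) (O.ra_syl D.V_le_E le hV0 (by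
    rintro _ ⟨b, rfl⟩ b0
    have b0' := div_ne_zero (fun e => b0 (D.ι_eq_one.2 e)) c0
    exact hc.trans (isConj_iff.2 ⟨D.η (b / c), by rw [D.ηι _ _ b0', div_mul_cancel₀ _ c0]⟩))) (by
      rw [← hk, ← Set.ncard_univ, ← Set.ncard_image_of_injective _ (f := fun b => D.t * D.ι b)
        fun b b' e => D.inj (mul_left_cancel e)]
      congr 1
      ext w
      refine ⟨fun hw => ?_, by rintro ⟨b, -, rfl⟩; exact all b⟩
      obtain ⟨b, rfl | rfl⟩ := D.mem_E.1 (RaO.mem hw)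
      exacts [absurd hw (hA b), ⟨b, trivial, rfl⟩]) hn
  rw [D.T_comm hy, mul_inv_cancel_right] at e1
  exact h (mul_inv_eq_iff_eq_mul.1 e1.symm)

end Fr

end CfsgLib.JG
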