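import Mathlib
import Cfsg.Agent.Lib.JG.Cor
import Cfsg.Agent.Lib.TwoGrp2.Fink
import Cfsg.Agent.Lib.TwoGrp2.FinkAb

/-! Standard subgroup `J₁` (plans/J1S.md; copy of Lib/GMS without the TI property, package TOWA). -/

set_option autoImplicit false
set_option linter.unusedSectionVars false

namespace CfsgLib.JG

open Subgroup Cfsg CfsgLib.Tech CfsgLib.SzS
open scoped MatrixGroups

variable {F : Type*} [Field F] [Finite F] {G : Type*} [Group G] [Finite G]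

namespace Fr

variable {D : Fr F G} {Y : Subgroup G}

/-- a floor of the tower: `W` is homocyclic and inverted by `t`, and `t` is fused to all of `tW` -/
structure Fl (D : Fr F G) (W : Subgroup G) (e : ℕ) : Prop extends D.Inv W where
  ab : ∀ a ∈ W, ∀ b ∈ W, a * b = b * a
  om : ∀ y ∈ W, y * y = 1 → y ∈ D.V
  inv : ∀ w ∈ W, D.t * w * D.t = w⁻¹
  cj : ∀ x ∈ W, IsConj D.t (D.t * x)
  mem : ∀ x ∈ W, x ^ e ∈ D.V
  surj : ∀ a, ∃ x ∈ W, x ^ e = D.ι a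
  ker : ∀ x ∈ W, x ^ e = 1 → ∃ y ∈ W, y * y = x
  mv : ∃ n ∈ TL2.Nt D.t W, (D.t⁻¹ * (n * D.t * n⁻¹)) ^ e ≠ 1

theorem Gen.inv_V (H : D.Gen) : D.Inv D.V where
  toGen := H
  pg := isPGroup_iff_mem.2 fun _ ⟨a, e⟩ => ⟨1, by rw [← e, pow_one, pow_two, D.ιι]⟩
  VY := le_rfl
  nt := D.T1_norm D.tT1
  ct _ hy _ := hy
  nB _ _ h := h

/-- Finkelstein's lemma -/
theorem Inv.cases (H : D.Inv Y) : (∃ a b π j, D.TC Y a b π j) ∨ D.TB Y ∨
    ((∀ a ∈ Y, ∀ b ∈ Y, a * b = b * a) ∧ ∀ y ∈ Y, y * y = 1 → y ∈ D.V) := by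
  classical
  obtain ⟨l, hl⟩ := exists_gen (F := F)
  have : CharP F 2 := (CharP.charP_iff_prime_eq_zero Nat.prime_two).2 D.two
  let α : MulAut Y := Y.normalizerMonoidHom ⟨D.t, H.nt⟩
  let ρ : MulAut Y := Y.normalizerMonoidHom ⟨D.η l, H.η_norm hl.1⟩
  have hα' : ∀ x : Y, ((α x : Y) : G) = D.t * x * D.t⁻¹ := fun _ => rfl
  have hρ' : ∀ (k : ℕ) (x : Y), (((ρ ^ k) x : Y) : G) = D.η (l ^ k) * x * (D.η (l ^ k))⁻¹ := fun k x => by
    rw [← map_pow, D.η_pow hl.1]; rfl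
  have hρ : ∀ x : Y, ((ρ x : Y) : G) = D.η l * x * (D.η l)⁻¹ := fun _ => rfl
  have hα : ∀ x, α (α x) = x := fun x => Subtype.ext (by
    rw [hα', hα', D.t_inv, ← mul_assoc, ← mul_assoc, D.tt, one_mul, mul_assoc, D.tt, mul_one])
  have hc : ∀ x, α (ρ x) = ρ (α x) := fun x => Subtype.ext (by
    rw [hα', hρ, hρ, hα']
    calc _ = D.t * D.η l * x * (D.t * D.η l)⁻¹ := by group
      _ = _ := by rw [← D.ηt l hl.1]; group)
  have hC : ∀ x : Y, x ∈ D.V.subgroupOf Y ↔ α x = x := fun x => by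
    rw [mem_subgroupOf, Subtype.ext_iff, hα', mul_inv_eq_iff_eq_mul]
    exact ⟨fun ⟨a, e⟩ => e ▸ D.tι a, fun e => H.ct _ x.2 e.symm⟩
  have li := Function.leftInverse_invFun D.inj
  by_cases hab : ∀ x y : Y, x * y = y * x
  · rcases TwoGrp2.fink_ab H.pg hab hα hc hC (fun c ⟨a, e⟩ => Subtype.ext (by
      have := D.ιι a
      rwa [e] at this)) (fun x y ⟨a, ha⟩ ⟨b, hb⟩ x1 y1 => by
      have a0 : a ≠ 0 := fun e => x1 (Subtype.ext (ha.symm.trans (e ▸ D.ι0)))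
      have b0 : b ≠ 0 := fun e => y1 (Subtype.ext (hb.symm.trans (e ▸ D.ι0)))
      obtain ⟨k, hk⟩ := hl.2 _ (div_ne_zero b0 a0)
      refine ⟨k, Subtype.ext ?_⟩
      rw [hρ', hk]
      refine (congrArg (_ * · * _) ha.symm).trans ?_
      rw [D.ηι _ _ (div_ne_zero b0 a0), div_mul_cancel₀ _ a0]
      exact hb) with h | ⟨h1, h2⟩
    · exact .inr (.inr ⟨fun a ha b hb => congrArg Subtype.val (hab ⟨a, ha⟩ ⟨b, hb⟩),
        fun y hy e => h ⟨y, hy⟩ (Subtype.ext e)⟩)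
    · refine .inr (.inl ⟨H, fun y hy => congrArg Subtype.val (h1 ⟨y, hy⟩), ?_⟩)
      rw [h2, Nat.card_congr (subgroupOfEquivOfLe H.VY).toEquiv, D.card_V, pow_two]
  push Not at hab
  let ω : Suz2.Coord ρ F (D.V.subgroupOf Y) ⊥ :=
    { c := fun x => Function.invFun D.ι (x : G)
      lam := l
      le := bot_le
      inv := fun x hx => conj_mem_of_mem_normalizer (D.η_norm hl.1) hx
      gen := hl
      add := fun x ⟨a, ha⟩ y ⟨b, hb⟩ => by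
        have ha' : D.ι a = x := ha
        have hb' : D.ι b = y := hb
        rw [Subgroup.coe_mul, ← ha', ← hb', ← D.add, li, li, li]
      ker := fun x ⟨a, ha⟩ => by
        have ha' : D.ι a = x := ha
        rw [mem_bot, Subtype.ext_iff, ← ha', li, OneMemClass.coe_one, ← D.ι0, D.inj.eq_iff]
      surj := fun a => ⟨⟨D.ι a, H.VY (D.ι_mem a)⟩, D.ι_mem a, li a⟩
      act := fun x ⟨a, ha⟩ => by
        have ha' : D.ι a = x := ha
        rw [hρ, ← ha', D.ηι _ _ hl.1, li, li] }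
  obtain ⟨a, b, π, j, b0, jC, E⟩ := TwoGrp2.fink H.pg hab hα hc
    ((D.η_odd hl.1).of_dvd_nat ((orderOf_map_dvd _ _).trans (Subgroup.orderOf_mk _ _).dvd)) D.big hC ω
  have hj : ∀ w, D.ι (Function.invFun D.ι (j w : G)) = j w := fun w => Function.invFun_eq (jC w)
  have jV : ∀ g, g ∈ D.V ↔ ∃ w, (j w : G) = g := fun g => by
    refine ⟨fun ⟨c, hc⟩ => ?_, fun ⟨w, hw⟩ => hw ▸ jC w⟩
    obtain ⟨w, hw⟩ := Finite.surjective_of_injective (f := fun w => Function.invFun D.ι (j w : G))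
      (fun w w' e => E.inj (Subtype.ext (by rw [← hj, ← hj w']; exact congrArg _ e))) c
    exact ⟨w, by rw [← hj, ← hc]; exact congrArg _ hw⟩
  refine .inl ⟨a, b, fun g => if h : g ∈ Y then π ⟨g, h⟩ else 0, fun w => j w, H, b0, fun x hx y hy => ?_,
    fun v => ?_, fun y hy => ?_, fun v hv y hy => ?_, fun w w' => by rw [E.hom]; rfl,
    fun w w' e => E.inj (Subtype.ext e), jV, fun y hy => ?_⟩
  · rw [dif_pos hx, dif_pos hy, dif_pos (mul_mem hx hy)]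
    exact E.add ⟨x, hx⟩ ⟨y, hy⟩
  · obtain ⟨y, e⟩ := E.surj v
    exact ⟨y, y.2, by rw [dif_pos y.2]; exact e⟩
  · rw [dif_pos hy, E.ker, jV]
    exact exists_congr fun w => Subtype.ext_iff
  · obtain ⟨w, rfl⟩ := (jV v).1 hv
    exact congrArg Subtype.val (E.cen w ⟨y, hy⟩)
  · simp only [dif_pos hy]
    exact congrArg Subtype.val (E.sq ⟨y, hy⟩)

/-- an equivariant homomorphism into `V` which kills `[Y, t]` -/
theorem Inv.towa_cls (H : D.Inv Y) (c : G → G) (hom : ∀ x ∈ Y, ∀ y ∈ Y, c (x * y) = c x * c y)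
    (mem : ∀ x ∈ Y, c x ∈ D.V)
    (eqv : ∀ l, l ≠ 0 → ∀ x ∈ Y, c (D.η l * x * (D.η l)⁻¹) = D.η l * c x * (D.η l)⁻¹)
    (ne : ∃ x ∈ Y, c x ≠ 1) (cls : ∀ z ∈ Y, c (D.t * (z * D.t * z⁻¹)) = 1) :
    (∀ a, ∃ x ∈ Y, c x = D.ι a) ∧ ∀ x ∈ Y, c x = 1 → ∃ z ∈ Y, z * D.t * z⁻¹ = D.t * x := by
  have c1 : c 1 = 1 := by simpa using hom 1 (one_mem _) 1 (one_mem _)
  have ci : ∀ x ∈ Y, c x⁻¹ = (c x)⁻¹ := fun x hx =>
    eq_inv_of_mul_eq_one_right (by rw [← hom _ hx _ (inv_mem hx), mul_inv_cancel, c1])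
  let R : AddSubgroup F :=
    { carrier := {a | ∃ x ∈ Y, c x = D.ι a}
      zero_mem' := ⟨1, one_mem _, c1.trans D.ι0.symm⟩
      add_mem' := fun ⟨x, hx, e⟩ ⟨y, hy, e'⟩ => ⟨_, mul_mem hx hy, by rw [hom _ hx _ hy, e, e', D.add]⟩
      neg_mem' := fun {a} ⟨x, hx, e⟩ => ⟨x, hx, by rw [e, neg_eq_of_add_eq_zero_right (D.add_self a)]⟩ }
  obtain ⟨x0, h0, n0⟩ := ne
  obtain ⟨a0, e0⟩ := mem x0 h0
  have hR : R = ⊤ := eq_top_of_scal (a := a0) (fun l a ⟨x, hx, e⟩ => by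
    by_cases hl : l = 0
    · rw [hl, zero_mul]; exact zero_mem _
    · exact ⟨_, conj_mem_of_mem_normalizer (H.η_norm hl) hx, by rw [eqv l hl x hx, e, D.ηι _ _ hl]⟩)
    ⟨x0, h0, e0.symm⟩ fun e => n0 (by rw [← e0, e, D.ι0])
  have surj : ∀ a, ∃ x ∈ Y, c x = D.ι a := fun a => hR.ge (AddSubgroup.mem_top a)
  refine ⟨surj, fun x hx e => ?_⟩
  let K : Subgroup G :=
    { carrier := {x | x ∈ Y ∧ c x = 1}
      one_mem' := ⟨one_mem _, c1⟩
      mul_mem' := fun hx hy => ⟨mul_mem hx.1 hy.1, by rw [hom _ hx.1 _ hy.1, hx.2, hy.2, one_mul]⟩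
      inv_mem' := fun hx => ⟨inv_mem hx.1, by rw [ci _ hx.1, hx.2, inv_one]⟩ }
  have li := Function.leftInverse_invFun D.inj
  have h1 := card_eq_of_hom (S := Y) (K := K) (fun x => Function.invFun D.ι (c x)) (fun _ h => h.1)
    (fun x hx y hy => by
      obtain ⟨a, ha⟩ := mem x hx
      obtain ⟨b, hb⟩ := mem y hy
      simp only [hom _ hx _ hy, ← ha, ← hb, ← D.add, li _])
    (fun x hx => by
      obtain ⟨a, ha⟩ := mem x hx
      change _ ↔ x ∈ Y ∧ c x = 1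
      simp only [← ha, li a, hx, true_and, ← D.ι0, D.inj.eq_iff])
    fun a => by
      obtain ⟨x, hx, e⟩ := surj a
      exact ⟨x, hx, by simp only [e, li a]⟩
  have h2 := TL2.card_conj Y D.t
  rw [H.inf_t, D.card_V, h1] at h2
  have h3 : {w | ∃ z ∈ Y, z * D.t * z⁻¹ = w} = (D.t * ·) '' (K : Set G) := by
    refine Set.eq_of_subset_of_ncard_le (fun w ⟨z, hz, e⟩ => ⟨D.t * (z * D.t * z⁻¹), ⟨?_, cls z hz⟩, ?_⟩) ?_
      (Set.toFinite _)
    · have := mul_mem (conj_mem_of_mem_normalizer H.nt hz) (inv_mem hz)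
      rwa [D.t_inv, mul_assoc, mul_assoc, ← mul_assoc z] at this
    · simp only [← e, ← mul_assoc, D.tt, one_mul]
    · rw [Set.ncard_image_of_injective _ (mul_right_injective _), Nat.eq_of_mul_eq_mul_right Nat.card_pos h2]
      rfl
  exact h3.ge ⟨x, ⟨hx, e⟩, rfl⟩

theorem Inv.towa_noT (H : D.Inv Y) (om : ∀ y ∈ Y, y * y = 1 → y ∈ D.V) {y : G} (hy : y ∈ Y) : ¬ IsConj D.t y :=
  fun c => H.nV y (om y hy (TL2.sq_of_isConj c D.tt)) c

theorem Inv.ta_or (H : D.Inv Y) (ab : ∀ a ∈ Y, ∀ b ∈ Y, a * b = b * a) (om : ∀ y ∈ Y, y * y = 1 → y ∈ D.V) :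
    D.TA Y ∨ ∃ e, D.Fl Y e := by
  have tt : ∀ x, D.t * (D.t * x) = x := fun x => by rw [← mul_assoc, D.tt, one_mul]
  have nt : ∀ y ∈ Y, D.t * y * D.t ∈ Y := fun y hy => by
    simpa only [D.t_inv] using conj_mem_of_mem_normalizer H.nt hy
  have hn : ∀ n ∈ normalizer ((Y ⊔ zpowers D.t : Subgroup G) : Set G), D.t * (n * D.t * n⁻¹) ∈ Y := fun n h =>
    (H.mem_t.1 (conj_mem_of_mem_normalizer h (mem_sup_right (mem_zpowers _)))).resolve_left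
      fun a => H.towa_noT om a (TL2.isConj_cj _ _)
  by_cases hi : ∀ y ∈ Y, D.t * y * D.t = y⁻¹
  swap
  · push Not at hi
    obtain ⟨y0, h0, n0⟩ := hi
    have sq : ∀ n : G, D.t * (n * D.t * n⁻¹) * (D.t * (D.t * (n * D.t * n⁻¹)) * D.t) = 1 := fun n => by
      rw [tt, ← mul_assoc, mul_assoc D.t, TL2.sq_of_isConj (TL2.isConj_cj n _) D.tt, mul_one, D.tt]
    obtain ⟨-, h⟩ := H.towa_cls (fun y => y * (D.t * y * D.t)) (fun x hx y hy => by
        calc _ = x * (y * (D.t * x * D.t)) * (D.t * y * D.t) := by simp only [mul_assoc, tt]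
          _ = _ := by rw [ab _ hy _ (nt x hx)]; simp only [mul_assoc])
      (fun x hx => H.ct _ (mul_mem hx (nt x hx)) (by
        calc _ = D.t * (D.t * x * D.t * x) := by simp only [mul_assoc, tt, D.tt, mul_one]
          _ = _ := by rw [ab _ hx _ (nt x hx)]))
      (fun l hl x _ => by
        calc _ = D.η l * x * ((D.η l)⁻¹ * (D.t * D.η l)) * x * ((D.η l)⁻¹ * (D.t * D.η l)) * (D.η l)⁻¹ := by group
          _ = _ := by rw [← D.ηt l hl]; group)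
      ⟨y0, h0, fun e => n0 (eq_inv_of_mul_eq_one_right e)⟩ fun z _ => sq z
    refine .inl ⟨H, ab, om, ⟨y0, h0, fun ⟨a, e⟩ => n0 ?_⟩, fun n h' => ?_⟩
    · rw [← e, D.tι, mul_assoc, D.tt, mul_one, D.ι_inv]
    · obtain ⟨z, hz, e⟩ := h _ (hn n h') (sq n)
      exact ⟨z, hz, by rw [e, tt]⟩
  have hi' : ∀ y ∈ Y, y * D.t = D.t * y⁻¹ := fun y hy => by rw [← hi y hy, ← mul_assoc, tt]
  obtain ⟨d, h1, x0, -, n0⟩ := TwoGrp2.exists_pow_max H.pg Set.univ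
    ⟨⟨D.ι 1, H.VY (D.ι_mem 1)⟩, trivial, fun e => one_ne_zero (D.inj ((congrArg Subtype.val e).trans D.ι0.symm))⟩
  have h2 : ∀ x ∈ Y, x ^ 2 ^ d * x ^ 2 ^ d = 1 := fun x hx => congrArg Subtype.val (h1 ⟨x, hx⟩ trivial)
  generalize 2 ^ d = e at h2 n0
  have mem : ∀ x ∈ Y, x ^ e ∈ D.V := fun x hx => om _ (pow_mem hx e) (h2 x hx)
  have hom : ∀ x ∈ Y, ∀ y ∈ Y, (x * y) ^ e = x ^ e * y ^ e := fun x hx y hy => Commute.mul_pow (ab x hx y hy) e
  obtain ⟨surj, h⟩ := H.towa_cls (· ^ e) hom mem (fun l _ x _ => conj_pow)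
    ⟨x0, x0.2, fun a => n0 (Subtype.ext a)⟩ fun z hz => by
      rw [hi' z hz, mul_assoc, tt, hom _ (inv_mem hz) _ (inv_mem hz), h2 _ (inv_mem hz)]
  have ker : ∀ x ∈ Y, x ^ e = 1 → ∃ y ∈ Y, y * y = x := fun x hx a => by
    obtain ⟨z, hz, b⟩ := h x hx a
    rw [hi' z hz, mul_assoc, mul_right_inj] at b
    exact ⟨_, inv_mem hz, b⟩
  by_cases hf : ∀ n ∈ normalizer ((Y ⊔ zpowers D.t : Subgroup G) : Set G),
      ∃ y ∈ Y, n * D.t * n⁻¹ = y * D.t * y⁻¹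
  · refine .inl ⟨H, ab, om, ?_, hf⟩
    by_contra hV
    push Not at hV
    obtain ⟨n, g1, g2, g3⟩ := H.mov
    obtain ⟨y, hy, b⟩ := hf n (mem_normalizer_of_forall fun x hx => H.mem_t.2 <| (H.mem_t.1 hx).imp
      (fun a => H.VY (conj_mem_of_mem_normalizer g1 (hV x a))) fun a => by
        have := H.VY (mul_mem g2 (conj_mem_of_mem_normalizer g1 (hV _ a)))
        rwa [mul_assoc, conj_mul, tt] at this)
    obtain ⟨a, rfl⟩ := hV y hy
    rw [← D.tι, mul_inv_cancel_right] at b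
    exact g3 (mul_inv_eq_iff_eq_mul.1 b)
  push Not at hf
  obtain ⟨n, g1, g2⟩ := hf
  have g3 := hn n g1
  have g4 : (D.t * (n * D.t * n⁻¹)) ^ e ≠ 1 := fun a => by
    obtain ⟨z, hz, b⟩ := h _ g3 a
    exact g2 z hz (by rw [b, tt])
  have cj : ∀ x ∈ Y, IsConj D.t (D.t * x) := fun x hx => by
    by_cases a : x ^ e = 1
    · obtain ⟨z, -, b⟩ := h x hx a
      exact isConj_iff.2 ⟨z, b⟩
    obtain ⟨a, ha⟩ := mem x hx
    obtain ⟨b, hb⟩ := mem _ g3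
    have a0 : a ≠ 0 := fun e' => ‹¬ _› (by rw [← ha, e', D.ι0])
    have b0 : b ≠ 0 := fun e' => g4 (by rw [← hb, e', D.ι0])
    have hl := div_ne_zero a0 b0
    have g5 := conj_mem_of_mem_normalizer (H.η_norm hl) g3
    obtain ⟨y, hy, e'⟩ := ker _ (mul_mem (inv_mem g5) hx) (by
      rw [hom _ (inv_mem g5) _ hx, inv_pow, conj_pow, ← hb, D.ηι _ _ hl, div_mul_cancel₀ _ b0, ha, inv_mul_cancel])
    have g6 : IsConj D.t (D.t * (D.η (a / b) * (D.t * (n * D.t * n⁻¹)) * (D.η (a / b))⁻¹)) := by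
      rw [← mul_assoc, ← mul_assoc, ← D.ηt _ hl, mul_assoc (D.η _), tt]
      exact (TL2.isConj_cj _ _).trans (TL2.isConj_cj _ _)
    generalize D.η (a / b) * (D.t * (n * D.t * n⁻¹)) * (D.η (a / b))⁻¹ = w at g5 g6 e'
    refine g6.trans (isConj_iff.2 ⟨y⁻¹, ?_⟩)
    rw [← mul_assoc, hi' _ (inv_mem hy), inv_inv, mul_assoc D.t, ab _ hy _ g5, mul_assoc, mul_assoc, e',
      mul_inv_cancel_left]
  refine .inr ⟨e, H, ab, om, hi, cj, mem, surj, ker, n, ⟨mem_normalizer_of_forall fun y hy => ?_, ?_⟩, ?_⟩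
  · refine (H.mem_t.1 (conj_mem_of_mem_normalizer g1 (mem_sup_left hy))).resolve_right fun a => ?_
    have := cj _ a
    rw [tt] at this
    exact H.towa_noT om hy (this.trans (TL2.isConj_cj _ _).symm)
  · rwa [D.t_inv]
  · rwa [D.t_inv]

end Fr

end CfsgLib.JG
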