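import Mathlib
import Cfsg.Agent.Lib.JG.TowA
import Cfsg.Agent.Lib.JG.Aff
import Cfsg.Agent.Lib.U3S.Gen2

/-! Standard subgroup `J₁` (plans/J1S.md; copy of Lib/GMS without the TI property, package TOWB). -/

set_option autoImplicit false
set_option linter.unusedSectionVars false

namespace CfsgLib.JG

open Subgroup Cfsg CfsgLib.Tech CfsgLib.SzS
open scoped MatrixGroups

variable {F : Type*} [Field F] [Finite F] {G : Type*} [Group G] [Finite G]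

namespace Fr

variable {D : Fr F G}

section floor

open TL2 (Nt)

variable {W : Subgroup G} {e : ℕ} {π : Nt D.t W →* Equiv.Perm F}

namespace Fl

variable (w : D.Fl W e)
include w

theorem towb_inv {x : G} (hx : x ∈ W) : x * D.t = D.t * x⁻¹ := by
  rw [← w.inv x hx, ← mul_assoc, ← mul_assoc, D.tt, one_mul]

theorem towb_conjV {n : G} (hn : n ∈ normalizer (W : Set G)) {v : G} (hv : v ∈ D.V) : n * v * n⁻¹ ∈ D.V :=
  w.om _ (conj_mem_of_mem_normalizer hn (w.VY hv))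
    (TL2.sq_of_isConj (TL2.isConj_cj n v) (D.E_sq (mem_sup_left hv)))

theorem towb_X_le : W ⊔ zpowers D.t ≤ Nt D.t W ⊓ centralizer (D.V : Set G) := by
  refine sup_le (fun x hx => ⟨⟨le_normalizer hx, ?_⟩, fun v hv => w.ab _ (w.VY hv) _ hx⟩)
    (zpowers_le.2 ⟨⟨w.nt, by simp⟩, D.t_cent⟩)
  rw [w.towb_inv hx, ← mul_assoc, inv_mul_cancel_left]
  exact mul_mem (inv_mem hx) (inv_mem hx)

theorem towb_conj_M {g : G} (hg : g ∈ Nt D.t W) {m : G} (hm : m ∈ Nt D.t W ⊓ centralizer (D.V : Set G)) :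
    g * m * g⁻¹ ∈ Nt D.t W ⊓ centralizer (D.V : Set G) := by
  refine ⟨(Nt D.t W).mul_mem ((Nt D.t W).mul_mem hg hm.1) (inv_mem hg), fun v hv => ?_⟩
  have := hm.2 _ (w.towb_conjV (inv_mem hg.1) hv)
  calc _ = g * (g⁻¹ * v * g⁻¹⁻¹ * m) * g⁻¹ := by group
    _ = _ := by rw [this]; group

theorem towb_η {l : F} (hl : l ≠ 0) : D.η l ∈ Nt D.t W := ⟨w.η_norm hl, by simp [D.ηt l hl]⟩

/-- the affine action of `Nt t W` on `t W / W² = F` -/
theorem towb_pi : ∃ π : Nt D.t W →* Equiv.Perm F, ∀ (n : G) (hn : n ∈ Nt D.t W) (a : F),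
    D.ι (π ⟨n, hn⟩ a) = (D.t⁻¹ * (n * D.t * n⁻¹)) ^ e * (n * D.ι a * n⁻¹) := by
  have h1 : ∀ (n : Nt D.t W) (a : F), ∃ b,
      D.ι b = (D.t⁻¹ * (n * D.t * (n : G)⁻¹)) ^ e * (n * D.ι a * (n : G)⁻¹) :=
    fun n a => D.mem_V.1 (mul_mem (w.mem _ n.2.2) (w.towb_conjV n.2.1 (D.ι_mem a)))
  choose f hf using h1
  let _ : MulAction (Nt D.t W) F :=
    { smul := f
      one_smul := fun a => D.inj (by
        show D.ι (f 1 a) = _
        simp [hf])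
      mul_smul := fun n m a => D.inj (by
        show D.ι (f (n * m) a) = D.ι (f n (f m a))
        have h2 := Commute.mul_pow (w.ab _ n.2.2 _ (conj_mem_of_mem_normalizer n.2.1 m.2.2)) e
        rw [conj_pow] at h2
        rw [hf, hf, hf]
        push_cast
        rw [show D.t⁻¹ * ((n : G) * m * D.t * ((n : G) * m)⁻¹) = D.t⁻¹ * (n * D.t * (n : G)⁻¹) *
          (n * (D.t⁻¹ * (m * D.t * (m : G)⁻¹)) * (n : G)⁻¹) by group, h2]
        group) }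
  exact ⟨MulAction.toPermHom _ F, fun n hn => hf ⟨n, hn⟩⟩

end Fl

/-- a floor of the tower with its affine action -/
structure TowP (D : Fr F G) (W : Subgroup G) (e : ℕ) (π : Nt D.t W →* Equiv.Perm F) : Prop extends D.Fl W e where
  spec : ∀ (n : G) (hn : n ∈ Nt D.t W) (a : F),
    D.ι (π ⟨n, hn⟩ a) = (D.t⁻¹ * (n * D.t * n⁻¹)) ^ e * (n * D.ι a * n⁻¹)

theorem towb_mul {n m : G} (hn : n ∈ Nt D.t W) (hm : m ∈ Nt D.t W) :
    π ⟨n * m, mul_mem hn hm⟩ = π ⟨n, hn⟩ * π ⟨m, hm⟩ := map_mul π ⟨n, hn⟩ ⟨m, hm⟩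

namespace TowP

variable (w : TowP D W e π)
include w

theorem spec0 {n : G} (hn : n ∈ Nt D.t W) : D.ι (π ⟨n, hn⟩ 0) = (D.t⁻¹ * (n * D.t * n⁻¹)) ^ e := by
  simp [w.spec, D.ι0]

theorem lin {n : G} (hn : n ∈ Nt D.t W) (a : F) : D.ι (π ⟨n, hn⟩ 0 + π ⟨n, hn⟩ a) = n * D.ι a * n⁻¹ := by
  rw [D.add, w.spec n hn a, ← w.spec0 hn, ← mul_assoc, D.ιι, one_mul]

theorem cent {g : G} (hg : g * D.t = D.t * g) (hn : g ∈ Nt D.t W) (a : F) :
    D.ι (π ⟨g, hn⟩ a) = g * D.ι a * g⁻¹ := by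
  simp [w.spec, hg]

theorem transl {n : G} (hn : n ∈ Nt D.t W) (hc : n ∈ centralizer (D.V : Set G)) (a : F) :
    π ⟨n, hn⟩ a = π ⟨n, hn⟩ 0 + a := by
  have := w.lin hn a
  rw [← hc _ (D.ι_mem a), mul_inv_cancel_right] at this
  rw [← D.inj this, ← add_assoc, D.add_self, zero_add, D.inj this]

theorem fix {n : G} (hn : n ∈ Nt D.t W) (h0 : π ⟨n, hn⟩ 0 = 0) : ∃ y ∈ W, y * n * D.t = D.t * (y * n) := by
  obtain ⟨y, hy, e⟩ := w.ker _ hn.2 (by rw [← w.spec0 hn, h0, D.ι0])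
  refine ⟨y, hy, ?_⟩
  calc y * n * D.t = y * D.t * (D.t⁻¹ * (n * D.t * n⁻¹)) * n := by group
    _ = _ := by rw [← e, w.towb_inv hy]; group

theorem triv {x : G} (hx : x ∈ W ⊔ zpowers D.t) (hn : x ∈ Nt D.t W) : π ⟨x, hn⟩ = 1 := by
  have hP : ∀ y (hy : y ∈ W), π ⟨y, (w.towb_X_le (mem_sup_left hy)).1⟩ 0 = 0 := fun y hy => D.inj (by
    rw [w.spec0, w.towb_inv hy, ← mul_assoc, inv_mul_cancel_left, ← mul_inv_rev, inv_pow,
      (Commute.refl y).mul_pow, D.E_sq (mem_sup_left (w.mem y hy)), inv_one, D.ι0])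
  have ht := w.towb_X_le (mem_sup_right (mem_zpowers D.t))
  have h0 : π ⟨x, hn⟩ 0 = 0 := by
    rcases w.mem_t.1 hx with h | h
    · exact hP x h
    · have := hP _ h
      rw [towb_mul ht.1 hn, Equiv.Perm.mul_apply] at this
      have h2 := w.cent rfl ht.1 (π ⟨x, hn⟩ 0)
      rw [this, D.tι, mul_inv_cancel_right] at h2
      exact (D.inj h2).symm
  ext a
  rw [w.transl hn (w.towb_X_le hx).2, h0, zero_add, Equiv.Perm.one_apply]

theorem aff0 (hB : ∀ (m : G) (h : m ∈ Nt D.t W ⊓ centralizer (D.V : Set G)), π ⟨m, h.1⟩ 0 = 0) : Aff0 π.range where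
  two := D.two
  aff := by
    rintro _ ⟨⟨n, hn⟩, rfl⟩ a b
    have := D.inj ((w.lin hn (a + b)).trans
      (show _ = D.ι (π ⟨n, hn⟩ 0 + π ⟨n, hn⟩ a + (π ⟨n, hn⟩ 0 + π ⟨n, hn⟩ b)) by
        rw [D.add a b, ← conj_mul, ← w.lin hn a, ← w.lin hn b, ← D.add]))
    linear_combination this + π ⟨n, hn⟩ 0 * D.two
  scal l hl := ⟨_, ⟨⟨_, w.towb_η hl⟩, rfl⟩, fun a => D.inj (by rw [w.cent (D.ηt l hl), D.ηι _ _ hl])⟩
  semi := by
    rintro _ ⟨⟨n, hn⟩, rfl⟩ h0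
    obtain ⟨y, hy, c⟩ := w.fix hn h0
    have h1 : y ∈ Nt D.t W := (w.towb_X_le (mem_sup_left hy)).1
    obtain ⟨a, σ, h2, -⟩ := w.semi _ c (mem_normalizer_of_forall fun v hv => w.towb_conjV (mul_mem h1 hn).1 hv)
    refine ⟨a, σ, fun b => D.inj ?_⟩
    rw [← h2, ← w.cent c (mul_mem h1 hn), towb_mul h1 hn, w.triv (mem_sup_left hy), one_mul]
  ntr := by
    rintro _ ⟨⟨n, hn⟩, rfl⟩ h
    have h0 := hB n ⟨hn, fun v ⟨a, ha⟩ => by
      have := w.lin hn a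
      rw [h a, add_comm a, ← add_assoc, D.add_self, zero_add, ha] at this
      exact eq_mul_inv_iff_mul_eq.1 this⟩
    ext a
    rw [h a, h0, add_zero, Equiv.Perm.one_apply]
  mov := by
    obtain ⟨n, hn, h⟩ := w.mv
    exact ⟨_, ⟨⟨n, hn⟩, rfl⟩, fun e => h (by rw [← w.spec0 hn, e, D.ι0])⟩

/-- no translations: the exceptional case -/
theorem exc (hB : ∀ (m : G) (h : m ∈ Nt D.t W ⊓ centralizer (D.V : Set G)), π ⟨m, h.1⟩ 0 = 0) : D.Exc W e π := by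
  have hA := (w.aff0 hB).toAff
  have := Fintype.ofFinite F
  have h8 : Nat.card F = 8 := Nat.card_eq_fintype_card.trans hA.card
  have h1 : D.T1 = zpowers D.t := by
    refine le_antisymm (fun x hx => ?_) (zpowers_le.2 D.tT1)
    obtain ⟨k, hk⟩ := isPGroup_iff_mem.1 D.pg1 x hx
    have h2 : orderOf (D.σ x) ∣ 2 ^ k := orderOf_dvd_of_pow_eq_one (by
      rw [← D.σ_pow hx, hk, D.σ_eq_one (one_mem _)]; exact one_mem _)
    have h3 := Nat.eq_one_of_dvd_coprimes (Nat.Coprime.pow_left k (by norm_num)) h2 (orderOf_dvd D.two (n := 3) h8 (D.σ x))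
    rcases w.r2 x hx ((D.σ_eq_one hx).1 (orderOf_eq_one_iff.1 h3)) with rfl | h
    · exact one_mem _
    · exact h ▸ mem_zpowers _
  have ct : TL2.Ct D.t D.V D.E :=
    { ne := D.t1
      sq := D.tt
      nt := D.t_not_mem
      mem := fun x => w.toGen.inv_V.mem_t
      syl := w.toR2.T_eq h1 ▸ w.syl
      fus := by
        rintro _ ⟨a, rfl⟩ _ ⟨b, rfl⟩ a1 b1 - -
        have a0 : a ≠ 0 := fun e => a1 (e ▸ D.ι0)
        have hl := div_ne_zero (fun e => b1 (e ▸ D.ι0) : b ≠ 0) a0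
        exact ⟨_, D.ηt _ hl, by rw [D.ηι _ _ hl, div_mul_cancel₀ _ a0]⟩ }
  exact ⟨w.toInv, h8, ⟨⟨⟨ct, D.add, D.inj, fun _ => D.mem_V, D.two, D.big,
    fun l hl => ⟨_, D.ηt l hl, fun a => D.ηι l a hl⟩, fun g h1 h2 => (w.semi g h1 h2).imp fun _ h => h.imp fun _ h => h.1⟩,
    ⟨ct, w.nV, fun v hv _ => w.cj v (w.VY hv)⟩, w.VY, w.pg, w.cj, w.mem, w.surj, w.ker,
    fun l hl => ⟨_, D.ηt l hl, w.η_norm hl, fun a => D.ηι l a hl⟩⟩, w.spec⟩, hB, hA⟩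

end TowP

/-- translations lead to a larger invariant 2-group -/
theorem Fl.towb_up (w : D.Fl W e) (tr : G → F)
    (spec : ∀ n ∈ Nt D.t W, D.ι (tr n) = (D.t⁻¹ * (n * D.t * n⁻¹)) ^ e)
    (fix : ∀ n ∈ Nt D.t W, tr n = 0 → ∃ y ∈ W, y * n * D.t = D.t * (y * n))
    (triv : ∀ x ∈ W ⊔ zpowers D.t, tr x = 0) {m0 : G} (h0 : m0 ∈ Nt D.t W ⊓ centralizer (D.V : Set G))
    (hm0 : tr m0 ≠ 0) : ∃ Y, D.Inv Y ∧ W < Y := by
  obtain ⟨M, hM⟩ : ∃ M, M = Nt D.t W ⊓ centralizer (D.V : Set G) := ⟨_, rfl⟩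
  obtain ⟨P, hP⟩ : ∃ P, P = W ⊔ zpowers D.t := ⟨_, rfl⟩
  have M1 : ∀ {m}, m ∈ M → m ∈ Nt D.t W := fun h => (hM ▸ h).1
  have M2 : ∀ {m}, m ∈ M → m ∈ centralizer (D.V : Set G) := fun h => (hM ▸ h).2
  have cM : ∀ g ∈ Nt D.t W, ∀ m ∈ M, g * m * g⁻¹ ∈ M := fun g hg m hm => hM ▸ w.towb_conj_M hg (hM ▸ hm)
  have PM : P ≤ M := hM ▸ hP ▸ w.towb_X_le
  have mP : ∀ {x}, x ∈ P ↔ x ∈ W ∨ D.t * x ∈ W := hP ▸ w.mem_t
  have tt : ∀ x, D.t * (D.t * x) = x := fun x => by rw [← mul_assoc, D.tt, one_mul]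
  have WP : W ≤ P := fun x hx => mP.2 (.inl hx)
  have tP : D.t ∈ P := mP.2 (.inr (D.tt ▸ one_mem _))
  have EP : D.E ≤ P := sup_le (w.VY.trans WP) (zpowers_le.2 tP)
  rw [← hM] at h0
  rw [← hP] at triv
  have mul : ∀ m ∈ M, ∀ n ∈ M, tr (m * n) = tr m + tr n := fun m hm n hn => D.inj (by
    have h2 := Commute.mul_pow (w.ab _ (M1 hm).2 _ (conj_mem_of_mem_normalizer (M1 hm).1 (M1 hn).2)) e
    rw [conj_pow, ← spec n (M1 hn), ← M2 hm _ (D.ι_mem _), mul_inv_cancel_right, ← spec m (M1 hm)] at h2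
    rw [D.add, ← h2, spec _ (M1 (mul_mem hm hn))]
    congr 1; group)
  have tri : ∀ m ∈ M, tr m⁻¹ = tr m := fun m hm => by
    have := mul _ (inv_mem hm) _ hm
    rw [inv_mul_cancel, triv _ (one_mem _)] at this
    linear_combination -this - tr m * D.two
  have cnj : ∀ l, l ≠ 0 → ∀ m ∈ M, tr (D.η l * m * (D.η l)⁻¹) = l * tr m := fun l hl m hm => D.inj (by
    rw [spec _ (M1 (cM _ (w.towb_η hl) m hm)), ← D.ηι _ _ hl, spec m (M1 hm), ← conj_pow]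
    congr 1
    calc _ = D.η l * ((D.t * D.η l)⁻¹ * D.η l * m * ((D.η l)⁻¹ * (D.t * D.η l)) * m⁻¹) * (D.η l)⁻¹ := by group
      _ = _ := by rw [← D.ηt l hl]; group)
  have oW : ∀ o ∈ M, Odd (orderOf o) → ∀ x ∈ W, o * x = x * o := fun o ho h x hx =>
    U3S.comm_of_odd w.pg w.ab h (fun y hy => conj_mem_of_mem_normalizer (M1 ho).1 hy)
      (fun y hy yy => (M2 ho _ (w.om y hy yy)).symm) hx
  have ot : ∀ o ∈ M, Odd (orderOf o) → o * D.t = D.t * o := fun o ho h =>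
    U3S.comm_of_odd' w.pg h (oW o ho h) (M1 ho).2
  obtain ⟨S, pS, PS, SM, nS, -, hS⟩ := U3S.exists_core (M := M) (P := P)
    (hP ▸ w.pg.to_sup_of_normal_left' (isPGroup_two_zpowers D.tt) (zpowers_le.2 w.nt)) PM fun o ho h p hp => by
      rcases mP.1 hp with a | a
      · exact oW o ho h p a
      · rw [← tt p, ← mul_assoc, ot o ho h, mul_assoc, oW o ho h _ a, mul_assoc D.t (D.t * p)]
  obtain ⟨l, hl⟩ := exists_gen (F := F)
  have l1 : l + 1 ≠ 0 := fun e => by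
    obtain ⟨c, c0, c1⟩ := D.big
    obtain ⟨k, hk⟩ := hl.2 c c0
    rw [show l = 1 by linear_combination e - D.two, one_pow] at hk
    exact c1 hk.symm
  have ηS : ∀ c, c ≠ 0 → ∀ s ∈ S, D.η c * s * (D.η c)⁻¹ ∈ S := fun c hc => nS _ (cM _ (w.towb_η hc))
  have com : ∀ m ∈ M, tr (D.η l * m * (D.η l)⁻¹ * m⁻¹) = (l + 1) * tr m := fun m hm => by
    rw [mul _ (cM _ (w.towb_η hl.1) m hm) _ (inv_mem hm), cnj l hl.1 m hm, tri m hm, add_one_mul]
  have all : ∀ a, ∃ s ∈ S, tr s = a := fun a => by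
    by_cases a0 : a = 0
    · exact ⟨1, one_mem _, a0 ▸ triv _ (one_mem _)⟩
    have c1 := mul_mem (cM _ (w.towb_η hl.1) m0 h0) (inv_mem h0)
    obtain ⟨s, hs, e⟩ := hS _ c1 fun o ho h =>
      U3S.comm_odd h0 (fun o ho h => (w.toOk.odd_comm (ot o ho h) (M2 ho) h hl.1).symm) ho h
    have h1 : tr s ≠ 0 := by
      rw [D.inj ((spec s (M1 (SM hs))).trans (by rw [e _ tP, ← spec _ (M1 c1)])), com m0 h0]
      exact mul_ne_zero l1 hm0
    exact ⟨_, ηS _ (div_ne_zero a0 h1) s hs, by rw [cnj _ (div_ne_zero a0 h1) s (SM hs), div_mul_cancel₀ _ h1]⟩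
  have cE : ∀ s ∈ S, s * D.t = D.t * s → s ∈ D.E := fun s hs c =>
    w.toR2.cent_two c (M2 (SM hs)) (isPGroup_zpowers_of_mem pS hs)
  have stab : ∀ s ∈ S, tr s = 0 → s ∈ P := fun s hs h => by
    obtain ⟨y, hy, c⟩ := fix s (M1 (SM hs)) h
    exact (mul_mem_cancel_left (WP hy)).1 (EP (cE _ (mul_mem (PS (WP hy)) hs) c))
  have sq : ∀ s ∈ S, s * s ∈ W := fun s hs => by
    refine (mP.1 (stab _ (mul_mem hs hs) (by rw [mul _ (SM hs) _ (SM hs), D.add_self]))).resolve_right fun hx => ?_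
    obtain ⟨a, ha⟩ := w.mem _ hx
    obtain ⟨m, hm, e'⟩ := all a
    have hp := (M1 (SM hm)).2
    obtain ⟨y, hy, e''⟩ := w.ker _ (mul_mem (inv_mem hp) hx) (by
      rw [Commute.mul_pow (w.ab _ (inv_mem hp) _ hx), inv_pow, ← spec m (M1 (SM hm)), e', ha, inv_mul_cancel])
    have h1 : y⁻¹ * m * D.t * (y⁻¹ * m)⁻¹ = s * s := by
      calc _ = y⁻¹ * D.t * (D.t⁻¹ * (m * D.t * m⁻¹)) * y := by group
        _ = D.t * (D.t⁻¹ * (m * D.t * m⁻¹)) * (y * y) := by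
          rw [w.towb_inv (inv_mem hy), inv_inv, mul_assoc D.t, w.ab _ hy _ hp]; group
        _ = _ := by rw [e'', mul_assoc, mul_inv_cancel_left, tt]
    have h2 := mul_mem (inv_mem (PS (WP hy))) hm
    generalize y⁻¹ * m = g at h1 h2
    have h3 : g⁻¹ * s * g * (g⁻¹ * s * g) = D.t := by
      calc _ = g⁻¹ * (s * s) * g := by group
        _ = _ := by rw [← h1]; group
    exact D.t1 (h3.symm.trans (D.E_sq (cE _ (mul_mem (mul_mem (inv_mem h2) hs) h2) (by rw [← h3]; group))))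
  have nW : ∀ s ∈ S, ∀ x ∈ W, s * x * s⁻¹ ∈ W := fun s hs x hx => conj_mem_of_mem_normalizer (M1 (SM hs)).1 hx
  have cP : ∀ g ∈ normalizer (W : Set G), g * D.t = D.t * g → ∀ p ∈ P, g * p * g⁻¹ * p⁻¹ ∈ W := fun g hg c p hp => by
    rcases mP.1 hp with a | a
    · exact mul_mem (conj_mem_of_mem_normalizer hg a) (inv_mem a)
    · have := conj_mem_of_mem_normalizer' w.nt (mul_mem (conj_mem_of_mem_normalizer hg a) (inv_mem a))
      rw [← mul_assoc g, c] at this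
      convert this using 1; group
  obtain ⟨Y, WY, YS, hY, YP, dec⟩ := exists_compl WP PS nW sq (D.η_odd hl.1) (ηS l hl.1)
    (fun p hp => by simpa using mul_mem (WP (cP _ (w.η_norm hl.1) (D.ηt l hl.1) p hp)) hp)
    fun x hx => conj_mem_of_mem_normalizer (w.η_norm hl.1) hx
  have key : ∀ g ∈ normalizer (Y : Set G), g ∈ normalizer (W : Set G) → g * D.t = D.t * g → ∀ z ∈ S,
      g * z * g⁻¹ * z⁻¹ ∈ Y := fun g h1 h2 c z hz => by
    obtain ⟨u, hu, p, hp, rfl⟩ := dec z hz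
    convert mul_mem (mul_mem (conj_mem_of_mem_normalizer h1 hu) (WY (cP g h2 c p hp))) (inv_mem hu) using 1; group
  have hY' := mem_normalizer_of_forall hY
  refine ⟨Y, ⟨w.toGen, pS.to_le YS, w.VY.trans WY, mem_normalizer_of_forall fun y hy => ?_,
    fun y hy c => w.ct y (YP y hy (EP (cE y (YS hy) c))) c, fun b c hb => mem_normalizer_of_forall fun y hy => ?_⟩,
    lt_of_le_of_ne WY fun e' => ?_⟩
  · simpa using mul_mem (WY (comm_mem_of_sq nW sq (PS tP) (YS hy))) hy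
  · obtain ⟨z, hz, ez⟩ := all (tr y / (l + 1))
    have k1 := key _ hY' (w.η_norm hl.1) (D.ηt l hl.1) z hz
    have k2 := mul_mem (inv_mem k1) hy
    have k3 := YP _ k2 (stab _ (YS k2) (by
      rw [mul _ (SM (YS (inv_mem k1))) _ (SM (YS hy)), tri _ (SM (YS k1)), com z (SM hz), ez,
        mul_div_cancel₀ _ l1, D.add_self]))
    have bW := w.nB b c hb
    obtain ⟨-, τ, -, h⟩ := w.semi b c hb
    obtain ⟨a, ha⟩ := h l hl.1
    obtain ⟨k, hk⟩ := hl.2 (τ l) (by simpa using hl.1)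
    have k4 := key (b * D.η l * b⁻¹) (by
      rw [ha, ← hk, D.η_pow hl.1]
      exact mul_mem (le_normalizer (WY (w.VY (D.ι_mem a)))) (pow_mem hY' k))
      (mul_mem (mul_mem bW (w.η_norm hl.1)) (inv_mem bW))
      (((Commute.mul_left c (D.ηt l hl.1)).mul_left (Commute.inv_left c)).eq) _
      (nS b (cM b ⟨bW, by simp [c]⟩) z hz)
    convert mul_mem k4 (WY (conj_mem_of_mem_normalizer bW k3)) using 1; group
  · obtain ⟨s, hs, h⟩ := all 1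
    obtain ⟨u, hu, p, hp, rfl⟩ := dec s hs
    exact zero_ne_one ((triv _ (mul_mem (WP (e'.ge hu)) hp)).symm.trans h)

end floor

theorem Fl.step {W : Subgroup G} {e : ℕ} (H : D.Fl W e) :
    (∃ Y, D.Inv Y ∧ W < Y) ∨ ∃ π, D.Exc W e π := by
  classical
  obtain ⟨π, hπ⟩ := H.towb_pi
  have w : TowP D W e π := ⟨H, hπ⟩
  by_cases hB : ∀ (m : G) (h : m ∈ TL2.Nt D.t W ⊓ centralizer (D.V : Set G)), π ⟨m, h.1⟩ 0 = 0
  · exact .inr ⟨π, w.exc hB⟩
  push Not at hB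
  obtain ⟨m, hm, h0⟩ := hB
  refine .inl (H.towb_up (fun g => if h : g ∈ TL2.Nt D.t W then π ⟨g, h⟩ 0 else 0) (fun n hn => ?_)
    (fun n hn h => w.fix hn ?_) (fun x hx => ?_) hm ?_)
  · rw [dif_pos hn, w.spec0]
  · rwa [dif_pos hn] at h
  · rw [dif_pos (mem_inf.1 (H.towb_X_le hx)).1, w.triv hx, Equiv.Perm.one_apply]
  · rwa [dif_pos (mem_inf.1 hm).1]

theorem Gen.tower (H : D.Gen) : (∃ Y, D.TA Y) ∨ (∃ Y, D.TB Y) ∨ (∃ Y a b π j, D.TC Y a b π j) ∨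
    ∃ W e π, D.Exc W e π := by
  obtain ⟨Y, hY, hmax⟩ := Set.exists_max_image {Y | D.Inv Y} (fun Y => Nat.card Y) (Set.toFinite _) ⟨_, H.inv_V⟩
  rcases hY.cases with h | h | ⟨h1, h2⟩
  · exact .inr (.inr (.inl ⟨Y, h⟩))
  · exact .inr (.inl ⟨Y, h⟩)
  rcases hY.ta_or h1 h2 with h | ⟨e, h⟩
  · exact .inl ⟨Y, h⟩
  rcases h.step with ⟨Y', h3, lt⟩ | h3
  · exact (lt.ne (eq_of_le_of_card_ge lt.le (hmax Y' h3))).elim
  · exact .inr (.inr (.inr ⟨Y, e, h3⟩))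

end Fr

end CfsgLib.JG
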