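import Mathlib
import Cfsg.Agent.Lib.JG.XM

/-! Standard subgroup `J₁` (plans/J1S.md; copy of Lib/GMS without the TI property): helpers for the packages XF and XL. -/

set_option autoImplicit false
set_option linter.unusedSectionVars false

namespace CfsgLib.JG

open Subgroup Cfsg CfsgLib.Tech CfsgLib.SzS

variable {G : Type*} [Group G] [Finite G]

theorem xf_syl {L S X : Subgroup G} (hS : IsSylowIn 2 S L) (hn : S ≤ normalizer (X : Set G)) :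
    IsSylowIn 2 (S ⊓ centralizer (X : Set G)) (L ⊓ centralizer (X : Set G)) := by
  have := Fact.mk Nat.prime_two
  have h := (hS.of_le (le_inf hS.le hn) inf_le_left).inf_of_le_normalizer (N := centralizer (X : Set G))
    fun g hg => mem_normalizer_iff_cj.2 (by rw [cj_centralizer, mem_normalizer_iff_cj.1 hg.2])
  rwa [inf_assoc, inf_eq_right.2 (centralizer_le_normalizer _)] at h

theorem xf_cent (y : G) : centralizer (zpowers y : Set G) = centralizer {y} := by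
  rw [zpowers_eq_closure, centralizer_closure]

theorem xf_syl1 {L S : Subgroup G} {y : G} (hS : IsSylowIn 2 S L) (h : ∀ s ∈ S, s * y * s⁻¹ = y ∨ s * y * s⁻¹ = y⁻¹) :
    IsSylowIn 2 (S ⊓ centralizer {y}) (L ⊓ centralizer {y}) := by
  rw [← xf_cent]
  refine xf_syl hS fun s hs => mem_normalizer_of_cj_le ?_
  rw [cj_zpowers, zpowers_le]
  rcases h s hs with e | e <;> rw [e]
  exacts [mem_zpowers y, inv_mem (mem_zpowers y)]

theorem xf_ut0 : ut 0 0 0 = id := by funext x; revert x; decide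

namespace Xc

variable {t : G} {L W N S : Subgroup G} {n : ℕ} {p : G → V3} {j : V3 → G} {θ : G} (H : Xc t L W N S n p j θ)
include H

theorem xf_SL : S ≤ L := H.syl.le

theorem xf_ne {x : V3} (hx : x ≠ 0) : j x ≠ 1 := fun e => hx (H.jinj (e.trans H.j_zero.symm))

theorem xf_zero {s : G} (hs : s ∈ S) {α β γ : ZMod 2} (h : Acts W p s (ut α β γ)) :
    s ∈ W ↔ α = 0 ∧ β = 0 ∧ γ = 0 :=
  ⟨fun hW => (by decide : ∀ α β γ : ZMod 2, (∀ x, ut α β γ x = x) → α = 0 ∧ β = 0 ∧ γ = 0) α β γ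
    (congrFun (H.act_eq h (H.act_W hW))), fun ⟨h1, h2, h3⟩ => H.ut0 s hs (by rwa [h1, h2, h3, xf_ut0] at h)⟩

theorem xf_j {s : G} (hs : s ∈ S) {m : V3 → V3} (h : Acts W p s m) (x : V3) : s * j x * s⁻¹ = j (m x) :=
  H.j_act (H.nW (H.SN hs)) h x

theorem xf_jW {w : G} (hw : w ∈ W) (x : V3) : w * j x * w⁻¹ = j x := by
  rw [H.ab w hw _ (H.j_mem x), mul_inv_cancel_right]

theorem xf_z {s : G} (hs : s ∈ S) : s * j e0 * s⁻¹ = j e0 := by
  obtain ⟨α, β, γ, h⟩ := H.utS s hs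
  rw [H.xf_j hs h, (by decide : ∀ α β γ, ut α β γ e0 = e0)]

theorem xf_inv (x : V3) : (j x)⁻¹ = j x := inv_eq_of_mul_eq_one_right (H.j_sq x)

theorem xf_mul {s s' : G} (hs' : s' ∈ S) {α β γ α' β' γ' : ZMod 2} (h : Acts W p s (ut α β γ))
    (h' : Acts W p s' (ut α' β' γ')) : Acts W p (s * s') (ut (α + α') (β + β') (γ + γ' + α * β')) :=
  H.act_ut (H.SN hs') h h'

theorem xf_Wmul {w s : G} (hw : w ∈ W) (hs : s ∈ S) {m : V3 → V3} (h : Acts W p s m) : Acts W p (w * s) m :=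
  Acts.mul (m := id) (H.nW (H.SN hs)) (H.act_W hw) h

theorem xf_conjW {s w : G} (hs : s ∈ N) (hw : w ∈ W) : s * w * s⁻¹ ∈ W := conj_mem_of_mem_normalizer (H.nW hs) hw

/-- the subgroup `Ω₁(W)` -/
def xfV : Subgroup G where
  carrier := {g | ∃ x, j x = g}
  one_mem' := ⟨0, H.j_zero⟩
  mul_mem' := by rintro _ _ ⟨x, rfl⟩ ⟨y, rfl⟩; exact ⟨x + y, H.j_add x y⟩
  inv_mem' := by rintro _ ⟨x, rfl⟩; exact ⟨x, (H.xf_inv x).symm⟩

/-- the four-group `U` -/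
def xfU : Subgroup G where
  carrier := {g | ∃ x, x 2 = 0 ∧ j x = g}
  one_mem' := ⟨0, rfl, H.j_zero⟩
  mul_mem' := by
    rintro _ _ ⟨x, hx, rfl⟩ ⟨y, hy, rfl⟩
    exact ⟨x + y, by rw [Pi.add_apply, hx, hy, add_zero], H.j_add x y⟩
  inv_mem' := by rintro _ ⟨x, hx, rfl⟩; exact ⟨x, hx, (H.xf_inv x).symm⟩

theorem xf_nV : S ≤ normalizer (H.xfV : Set G) := fun s hs => mem_normalizer_of_forall (by
  rintro _ ⟨x, rfl⟩
  obtain ⟨α, β, γ, h⟩ := H.utS s hs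
  exact ⟨_, (H.xf_j hs h x).symm⟩)

theorem xf_nU : S ≤ normalizer (H.xfU : Set G) := fun s hs => mem_normalizer_of_forall (by
  rintro _ ⟨x, hx, rfl⟩
  obtain ⟨α, β, γ, h⟩ := H.utS s hs
  exact ⟨ut α β γ x, hx, (H.xf_j hs h x).symm⟩)

theorem xf_cU {g : G} : g ∈ centralizer (H.xfU : Set G) ↔ g * j e0 * g⁻¹ = j e0 ∧ g * j e1 * g⁻¹ = j e1 := by
  refine ⟨fun h => ⟨mul_inv_eq_of_eq_mul (h _ ⟨e0, rfl, rfl⟩).symm, mul_inv_eq_of_eq_mul (h _ ⟨e1, rfl, rfl⟩).symm⟩,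
    fun ⟨h0, h1⟩ => ?_⟩
  rintro _ ⟨x, hx, rfl⟩
  refine (eq_mul_of_mul_inv_eq ?_).symm
  rcases (by decide : ∀ x : V3, x 2 = 0 → x = 0 ∨ x = e0 ∨ x = e1 ∨ x = e0 + e1) x hx with rfl | rfl | rfl | rfl
  · rw [H.j_zero, mul_one, mul_inv_cancel]
  · exact h0
  · exact h1
  · rw [H.j_add, ← conj_mul, h0, h1]

theorem xf_fixU {g : G} (hg : g ∈ centralizer (H.xfU : Set G)) {x : V3} (hx : x 2 = 0) : g * j x * g⁻¹ = j x :=
  mul_inv_eq_of_eq_mul (hg _ ⟨x, hx, rfl⟩).symm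

/-- the elements of `C_S(U)` -/
theorem xf_typeU {s : G} (hs : s ∈ S) (h : s * j e1 * s⁻¹ = j e1) : ∃ β γ, Acts W p s (ut 0 β γ) := by
  obtain ⟨α, β, γ, h1⟩ := H.utS s hs
  rw [H.xf_j hs h1] at h
  obtain rfl := (by decide : ∀ α β γ, ut α β γ e1 = e1 → α = 0) α β γ (H.jinj h)
  exact ⟨β, γ, h1⟩

end Xc

end CfsgLib.JG
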