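import Mathlib
import Cfsg.Agent.Lib.JG.XM

/-! Standard subgroup `J₁` (plans/J1S.md; copy of Lib/GMS without the TI property, package XN). -/

set_option autoImplicit false
set_option linter.unusedSectionVars false
set_option Elab.async false

namespace CfsgLib.JG

open Subgroup Cfsg CfsgLib.Tech CfsgLib.SzS
open scoped MatrixGroups

variable {F : Type*} [Field F] [Finite F] {G : Type*} [Group G] [Finite G]

section pure

set_option synthInstance.maxSize 100000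
set_option synthInstance.maxHeartbeats 400000

theorem xn_d1 : ∀ (β γ : ZMod 2) (x : V3), ¬ (β = 0 ∧ γ = 0) → 0 = x + ut 0 β γ x → x 2 = 0 := by decide +kernel

theorem xn_d2 : ∀ (β γ : ZMod 2) (x : V3), ut (0 + 0) (β + β) (γ + γ + 0 * β) x = x := by decide +kernel

theorem xn_d3 : ∀ β γ : ZMod 2, ¬ (β = 0 ∧ γ = 0) → ut 0 β γ ![0, 0, 1] ≠ ![0, 0, 1] := by decide +kernel

theorem xn_d4 : ∀ β γ : ZMod 2, ut 0 β γ ![0, 0, 1] + ![0, 0, 1] = ![γ, β, 0] := by decide +kernel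

theorem xn_d5 : ∀ β γ β' γ' : ZMod 2, ¬ ((β = 0 ∧ γ = 0) ∨ (β' = 0 ∧ γ' = 0) ∨ (β = β' ∧ γ = γ')) →
    (β = 0 ∧ γ = 1 ∧ β' = 1 ∧ γ' = 0) ∨ (β = 0 ∧ γ = 1 ∧ β' = 1 ∧ γ' = 1) ∨
      (β = 1 ∧ γ = 0 ∧ β' = 0 ∧ γ' = 1) ∨ (β = 1 ∧ γ = 0 ∧ β' = 1 ∧ γ' = 1) ∨
      (β = 1 ∧ γ = 1 ∧ β' = 0 ∧ γ' = 1) ∨ (β = 1 ∧ γ = 1 ∧ β' = 1 ∧ γ' = 0) := by decide +kernel

theorem xn_d6 : ∀ (β γ : ZMod 2) (x : V3), x 2 = 0 → ut 0 β γ x = x := by decide +kernel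

theorem xn_d7 : ∀ x : V3, x 1 = 0 → x 2 = 0 → x = 0 ∨ x = ![1, 0, 0] := by decide +kernel

theorem xn_d8 : ∀ x : V3, x ≠ 0 ∧ x ≠ ![1, 0, 0] → x 2 = 0 → x 1 = 1 := by decide +kernel

theorem xn_d9 : ∀ (α β γ : ZMod 2) (x : V3), ut α β (γ + α * β) (ut α β γ x) = x := by decide +kernel

theorem xn_d10 : ∀ (α β γ : ZMod 2) (x : V3),
    ut (α + 0 + α) (β + 0 + β) (γ + 1 + α * 0 + (γ + α * β) + (α + 0) * β) x = ut 0 0 1 x := by decide +kernel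

theorem xn_d11 : ∀ β γ β' γ' : ZMod 2, ¬ ((β = 0 ∧ γ = 0) ∨ (β' = 0 ∧ γ' = 0) ∨ (β = β' ∧ γ = γ')) →
    ¬ (β + β' = 0 ∧ γ + γ' = 0) ∧
      ¬ ((β + β' = 0 ∧ γ + γ' = 0) ∨ (β = 0 ∧ γ = 0) ∨ (β + β' = β ∧ γ + γ' = γ)) := by decide +kernel

theorem xn_d12 : ∀ β γ β' γ' l2 l3 m1 m3 : ZMod 2,
    ¬ ((β = 0 ∧ γ = 0) ∨ (β' = 0 ∧ γ' = 0) ∨ (β = β' ∧ γ = γ')) →
    l3 • (![γ + γ', β + β', 0] : V3) = ut 0 β γ (m3 • ![γ + γ', β + β', 0]) →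
    l2 • (![γ', β', 0] : V3) + l3 • ![γ + γ', β + β', 0] ≠ ![γ, β, 0] →
    m1 • (![γ, β, 0] : V3) + m3 • ![γ + γ', β + β', 0] ≠ ![γ', β', 0] →
    l2 • (![γ', β', 0] : V3) + l3 • ![γ + γ', β + β', 0] ≠ 0 →
    m1 • (![γ, β, 0] : V3) + m3 • ![γ + γ', β + β', 0] ≠ 0 →
    l2 • (![γ', β', 0] : V3) + l3 • ![γ + γ', β + β', 0] +
      ut 0 β γ (m1 • ![γ, β, 0] + m3 • ![γ + γ', β + β', 0]) ≠ 0 →
    l2 • (![γ', β', 0] : V3) + l3 • ![γ + γ', β + β', 0] +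
      ut 0 β γ (m1 • ![γ, β, 0] + m3 • ![γ + γ', β + β', 0]) = ![γ + γ', β + β', 0] := by decide +kernel

theorem xn_d13 : ∀ (γ : ZMod 2) (x x' : V3), x' 1 = 1 → x' 2 = 0 → x' + ut 0 0 1 x = x + ut 1 1 γ x' → x 2 = 1 := by
  decide +kernel

theorem xn_d14 : ∀ (γ : ZMod 2) (x : V3), ut (1 + 1) (1 + 1) (γ + γ + 1 * 1) x = ut 0 0 1 x := by decide +kernel

theorem xn_d15 : ∀ l : ZMod 2, ((1 : ZMod 2) + ((2 : ℕ) : ZMod 2) * l) • (![1, 0, 0] : V3) ≠ 0 := by decide +kernel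

theorem xn_d16 : ∀ x x' : V3, x 1 ≠ 0 → (ut 1 0 0 x + x') 1 ≠ 0 → x' 1 = 0 := by decide +kernel

theorem xn_d17 : ∀ x : V3, x ≠ 0 → ∃ y : V3, y ≠ 0 ∧ x ≠ y := by decide +kernel

theorem xn_d18 : ∀ x x' : V3, x 1 ≠ 0 → x' 1 = 1 → (x + x') 1 = 0 := by decide +kernel

end pure

namespace Xc

variable {t : G} {L W N S : Subgroup G} {n : ℕ} {p : G → V3} {j : V3 → G} {θ : G} (H : Xc t L W N S n p j θ)
include H

theorem xn_cj {g w : G} (hg : g ∈ N) (hw : w ∈ W) : g * w * g⁻¹ ∈ W :=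
  (mem_normalizer_iff.mp (H.nW hg) w).mp hw

theorem xn_nm_mul {a w w' : G} (ha : a ∈ N) (hw : w ∈ W) (hw' : w' ∈ W) :
    w * w' * (a * (w * w') * a⁻¹) = w * (a * w * a⁻¹) * (w' * (a * w' * a⁻¹)) := by
  have e := H.ab _ hw' _ (H.xn_cj ha hw)
  calc w * w' * (a * (w * w') * a⁻¹) = w * (w' * (a * w * a⁻¹)) * (a * w' * a⁻¹) := by group
    _ = _ := by rw [e]; group

theorem xn_p2 {a w : G} {β γ : ZMod 2} (ha : a ∈ N) (h : Acts W p a (ut 0 β γ)) (h0 : ¬ (β = 0 ∧ γ = 0))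
    (hw : w ∈ W) (e : w * (a * w * a⁻¹) = 1) : p w 2 = 0 := by
  have h1 := H.add _ hw _ (H.xn_cj ha hw)
  rw [e, H.p_one, h w hw] at h1
  exact xn_d1 β γ _ h0 h1

theorem xn_sq {g : G} {β γ : ZMod 2} (hg : g ∈ N) (h : Acts W p g (ut 0 β γ)) : Acts W p (g * g) id := by
  have h1 := H.act_ut hg h h
  have e : ut (0 + 0) (β + β) (γ + γ + 0 * β) = id := funext (xn_d2 β γ)
  rwa [e] at h1

theorem xn_fpf {g : G} {β γ : ZMod 2} (hg : g ∈ N) (h : Acts W p g (ut 0 β γ)) (h0 : ¬ (β = 0 ∧ γ = 0)) :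
    p (t * g * t * g⁻¹) ≠ 0 ∧ p (t * g * t * g⁻¹) ≠ ![γ, β, 0] := by
  have hn : ¬ Acts W p g id := fun h' => xn_d3 β γ h0 (congrFun (H.act_eq h h') ![0, 0, 1])
  have f := H.fpf g hg hn (H.xn_sq hg h)
  constructor
  · have h1 := f 1 W.one_mem
    rwa [mul_one, mul_inv_cancel, H.p_one, add_zero] at h1
  · obtain ⟨w, hw, e⟩ := H.surj ![0, 0, 1]
    have h1 := f w hw
    rwa [h w hw, e, xn_d4] at h1

theorem xn_half {m : ℕ} (hn : n = m + 1) {β γ : ZMod 2} {y : G} (M : My W N p j β γ y) {a : G} (ha : a ∈ N)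
    (h : Acts W p a (ut 0 β γ)) {w : G} (hw : w ∈ W) (h2 : p w 2 = 0) :
    ∃ l : ZMod 2, (w * (a * w * a⁻¹)) ^ 2 ^ m = j (l • ![γ, β, 0]) := by
  obtain ⟨k, hk, hk2⟩ := M.nrm a ha h w hw
  rw [h2, ZMod.natCast_eq_zero_iff] at hk2
  obtain ⟨l, rfl⟩ := hk2
  refine ⟨l, ?_⟩
  rw [hk, ← M.py, ← H.p_pow M.yW, H.jp _ (W.pow_mem M.yW l), hn, ← pow_mul, ← pow_mul]
  congr 1
  ring

theorem xn_sum {s s' : G} (hs : s ∈ N) (hs' : s' ∈ N) {β γ β' γ' : ZMod 2} (h : Acts W p s (ut 0 β γ))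
    (h' : Acts W p s' (ut 0 β' γ')) (h0 : ¬ ((β = 0 ∧ γ = 0) ∨ (β' = 0 ∧ γ' = 0) ∨ (β = β' ∧ γ = γ')))
    {w : G} (hw : w ∈ W) : w * (s * w * s⁻¹) * (s' * w * s'⁻¹) * (s * s' * w * (s * s')⁻¹) = 1 := by
  obtain ⟨a, haS, ha⟩ := H.utX 0 0 1
  obtain ⟨b, hbS, hb⟩ := H.utX 0 1 0
  have haN := H.SN haS
  have hbN := H.SN hbS
  have hc : Acts W p (b * a) (ut 0 1 1) := H.act_ut haN hb ha
  have hcN := N.mul_mem hbN haN
  have h3 := H.act_ut hs' h h'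
  have h3N := N.mul_mem hs hs'
  have e : w * (a * w * a⁻¹) * (b * w * b⁻¹) * (b * a * w * (b * a)⁻¹) = 1 := by
    rw [← H.sumB haN hbN ha hb hw]; group
  have cAB : Commute (a * w * a⁻¹) (b * w * b⁻¹) := H.ab _ (H.xn_cj haN hw) _ (H.xn_cj hbN hw)
  have cAC : Commute (a * w * a⁻¹) (b * a * w * (b * a)⁻¹) := H.ab _ (H.xn_cj haN hw) _ (H.xn_cj hcN hw)
  have cBC : Commute (b * w * b⁻¹) (b * a * w * (b * a)⁻¹) := H.ab _ (H.xn_cj hbN hw) _ (H.xn_cj hcN hw)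
  have hA : ∀ g ∈ N, Acts W p g (ut 0 0 1) → g * w * g⁻¹ = a * w * a⁻¹ := fun g hg k => H.conj_eq hg haN k ha hw
  have hB : ∀ g ∈ N, Acts W p g (ut 0 1 0) → g * w * g⁻¹ = b * w * b⁻¹ := fun g hg k => H.conj_eq hg hbN k hb hw
  have hC : ∀ g ∈ N, Acts W p g (ut 0 1 1) → g * w * g⁻¹ = b * a * w * (b * a)⁻¹ :=
    fun g hg k => H.conj_eq hg hcN k hc hw
  rcases xn_d5 β γ β' γ' h0 with ⟨rfl, rfl, rfl, rfl⟩ | ⟨rfl, rfl, rfl, rfl⟩ | ⟨rfl, rfl, rfl, rfl⟩ | ⟨rfl, rfl, rfl, rfl⟩ |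
    ⟨rfl, rfl, rfl, rfl⟩ | ⟨rfl, rfl, rfl, rfl⟩
  · rw [hA s hs h, hB s' hs' h', hC _ h3N h3, e]
  · rw [hA s hs h, hC s' hs' h', hB _ h3N h3, ← cBC.right_comm, e]
  · rw [hB s hs h, hA s' hs' h', hC _ h3N h3, ← cAB.right_comm, e]
  · rw [hB s hs h, hC s' hs' h', hA _ h3N h3, ← cAC.right_comm, ← cAB.right_comm, e]
  · rw [hC s hs h, hA s' hs' h', hB _ h3N h3, ← cAC.right_comm, ← cBC.right_comm, e]
  · rw [hC s hs h, hB s' hs' h', hA _ h3N h3, ← cBC.right_comm, ← cAC.right_comm, ← cAB.right_comm, e]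

/-- the norm of the cocycle vanishes -/
theorem xn_nc {s s' : G} (hs : s ∈ S) (hs' : s' ∈ N) {β γ β' γ' : ZMod 2} (h : Acts W p s (ut 0 β γ))
    (h' : Acts W p s' (ut 0 β' γ')) (h0 : ¬ ((β = 0 ∧ γ = 0) ∨ (β' = 0 ∧ γ' = 0) ∨ (β = β' ∧ γ = γ')))
    (hc : s * s' = s' * s) : t * s * t * s⁻¹ * (s * (t * s * t * s⁻¹) * s⁻¹) = 1 := by
  have hsN := H.SN hs
  obtain ⟨y, M⟩ := H.exists_my (β := β) (γ := γ) fun k => h0 (Or.inl k)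
  have hw : s * s ∈ W := H.ut0 _ (S.mul_mem hs hs) (H.xn_sq hsN h)
  obtain ⟨k, x, hx, e⟩ := M.cen s hsN h _ hw (by group)
  have e1 := M.actB s' hs' β' γ' h'
  rw [if_neg fun k => k.elim (fun k => h0 (Or.inr (Or.inl k))) fun k =>
    h0 (Or.inr (Or.inr ⟨k.1.symm, k.2.symm⟩))] at e1
  have e2 := H.j_act (H.nW hs') h' x
  rw [xn_d6 _ _ x hx] at e2
  have e4 : s' * (s * s) * s'⁻¹ = s * s := by
    rw [← mul_assoc, ← hc, mul_assoc s, ← hc]; group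
  have e5 : (y ^ k)⁻¹ = y ^ k := by
    have e6 : s' * (y ^ k * j x) * s'⁻¹ = (s' * y * s'⁻¹) ^ k * (s' * j x * s'⁻¹) := by
      rw [conj_pow]; group
    rw [← e, e4, e, e1, e2, inv_pow] at e6
    exact (mul_right_cancel e6).symm
  have e7 : (s * s)⁻¹ = s * s := by
    rw [e, mul_inv_rev, e5, inv_eq_of_mul_eq_one_right (H.j_sq x)]
    exact H.ab _ (H.j_mem x) _ (W.pow_mem M.yW k)
  rw [← H.coc_mul, H.inv _ hw]
  nth_rewrite 1 [e7]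
  exact mul_inv_cancel _

/-- elements of `w a` of square one with `p w 1 = 0` are conjugate to `a` -/
theorem xn_com {a : G} (ha : a ∈ N) (h : Acts W p a (ut 0 0 1)) {w : G} (hw : w ∈ W)
    (e : w * (a * w * a⁻¹) = 1) (h1 : p w 1 = 0) : ∃ v ∈ W, w = v⁻¹ * a * v * a⁻¹ := by
  obtain ⟨y, M⟩ := H.exists_my (β := 0) (γ := 1) (by decide)
  have h2 := H.xn_p2 ha h (by decide) hw e
  obtain ⟨v, hv, e1⟩ := M.com a ha h w hw e (xn_d7 _ h1 h2)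
  refine ⟨v, hv, ?_⟩
  rw [e1, H.ab _ (H.xn_cj ha hv) _ (W.inv_mem hv)]
  group

/-- the cocycle at an involution of type `(0,0,1)` -/
theorem xn_ca {a : G} (ha : a ∈ N) (aa : a * a = 1) (h : Acts W p a (ut 0 0 1)) :
    t * a * t * a⁻¹ * (a * (t * a * t * a⁻¹) * a⁻¹) = 1 ∧ p (t * a * t * a⁻¹) 1 = 1 ∧
      p (t * a * t * a⁻¹) 2 = 0 := by
  have e : t * a * t * a⁻¹ * (a * (t * a * t * a⁻¹) * a⁻¹) = 1 := by
    rw [← H.coc_mul, aa, mul_one, H.tt]; simp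
  have h2 := H.xn_p2 ha h (by decide) (H.coc a ha) e
  exact ⟨e, xn_d8 _ (H.xn_fpf ha h (by decide)) h2, h2⟩

/-- two involutions of type `(0,0,1)` -/
theorem xn_two {a b : G} (ha : a ∈ S) (aa : a * a = 1) (h : Acts W p a (ut 0 0 1)) (hb : b ∈ S) (bb : b * b = 1)
    (h' : Acts W p b (ut 0 0 1)) : b * a⁻¹ ∈ W ∧ b * a⁻¹ * (a * (b * a⁻¹) * a⁻¹) = 1 := by
  refine ⟨H.mem_of_same hb ha h' h, ?_⟩
  calc b * a⁻¹ * (a * (b * a⁻¹) * a⁻¹) = b * b * (a * a)⁻¹ := by group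
    _ = 1 := by rw [aa, bb]; simp

theorem xn_cen {s a : G} (hs : s ∈ S) (ha : a ∈ S) (h : Acts W p a (ut 0 0 1)) :
    Acts W p (s * a * s⁻¹) (ut 0 0 1) := by
  obtain ⟨α, β, γ, k⟩ := H.utS s hs
  have k1 : Acts W p s⁻¹ (ut α β (γ + α * β)) := H.act_inv (H.SN hs) k (xn_d9 α β γ)
  have k2 := H.act_ut (N.inv_mem (H.SN hs)) (H.act_ut (H.SN ha) k h) k1
  have e : ut (α + 0 + α) (β + 0 + β) (γ + 1 + α * 0 + (γ + α * β) + (α + 0) * β) = ut 0 0 1 :=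
    funext (xn_d10 α β γ)
  rwa [e] at k2

theorem xn_adj {s a : G} (hs : s ∈ S) (ha : a ∈ S) (aa : a * a = 1) (h : Acts W p a (ut 0 0 1)) {α β γ : ZMod 2}
    (k : Acts W p s (ut α β γ)) (h1 : p (s * a * s⁻¹ * a⁻¹) 1 = 0) :
    ∃ d ∈ S, d * a = a * d ∧ Acts W p d (ut α β γ) := by
  obtain ⟨hw, e⟩ := H.xn_two ha aa h (S.mul_mem (S.mul_mem hs ha) (S.inv_mem hs))
    (by rw [show s * a * s⁻¹ * (s * a * s⁻¹) = s * (a * a) * s⁻¹ by group, aa]; simp) (H.xn_cen hs ha h)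
  obtain ⟨v, hv, e1⟩ := H.xn_com (H.SN ha) h hw e h1
  refine ⟨v * s, S.mul_mem (H.WS hv) hs, ?_, Acts.mul (H.nW (H.SN hs)) (H.act_W hv) k⟩
  have e2 := mul_right_cancel e1
  calc v * s * a = v * (s * a * s⁻¹) * s := by group
    _ = _ := by rw [e2]; group

/-- NS: commuting elements with axis `x 2 = 0` -/
theorem ns (hn : n ≠ 0) {s s' : G} (hs : s ∈ S) (hs' : s' ∈ S) {β γ β' γ' : ZMod 2} (h : Acts W p s (ut 0 β γ))
    (h' : Acts W p s' (ut 0 β' γ')) (hc : s * s' = s' * s) :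
    (β = 0 ∧ γ = 0) ∨ (β' = 0 ∧ γ' = 0) ∨ (β = β' ∧ γ = γ') := by
  by_contra h0
  obtain ⟨m, hm⟩ := Nat.exists_eq_succ_of_ne_zero hn
  have hsN := H.SN hs
  have hsN' := H.SN hs'
  have h3N := N.mul_mem hsN hsN'
  have h3 : Acts W p (s * s') (ut 0 (β + β') (γ + γ')) := by
    have k := H.act_ut hsN' h h'
    rwa [add_zero, zero_mul, add_zero] at k
  have z1 : ¬ (β = 0 ∧ γ = 0) := fun k => h0 (Or.inl k)
  have z2 : ¬ (β' = 0 ∧ γ' = 0) := fun k => h0 (Or.inr (Or.inl k))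
  have h0' : ¬ ((β' = 0 ∧ γ' = 0) ∨ (β = 0 ∧ γ = 0) ∨ (β' = β ∧ γ' = γ)) := fun k =>
    k.elim z2 fun k => k.elim z1 fun k => h0 (Or.inr (Or.inr ⟨k.1.symm, k.2.symm⟩))
  obtain ⟨z3, z4⟩ := xn_d11 β γ β' γ' h0
  have n1 := H.xn_nc hs hsN' h h' h0 hc
  have n2 := H.xn_nc hs' hsN h' h h0' hc.symm
  have n3 := H.xn_nc (S.mul_mem hs hs') hsN h3 h z4 (by rw [mul_assoc, ← hc])
  have f1 := H.xn_fpf hsN h z1
  have f2 := H.xn_fpf hsN' h' z2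
  have f3 := H.xn_fpf h3N h3 z3
  have w1 := H.coc s hsN
  have w2 := H.coc s' hsN'
  have q1 := H.xn_p2 hsN h z1 w1 n1
  have q2 := H.xn_p2 hsN' h' z2 w2 n2
  rw [H.coc_mul] at n3 f3
  generalize t * s * t * s⁻¹ = c at *
  generalize t * s' * t * s'⁻¹ = c' at *
  obtain ⟨y1, M1⟩ := H.exists_my z1
  obtain ⟨y2, M2⟩ := H.exists_my z2
  obtain ⟨y3, M3⟩ := H.exists_my z3
  obtain ⟨l2, a2⟩ := H.xn_half hm M2 hsN' h' w1 q1
  obtain ⟨l3, a3⟩ := H.xn_half hm M3 h3N h3 w1 q1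
  obtain ⟨m1, b1⟩ := H.xn_half hm M1 hsN h w2 q2
  obtain ⟨m3, b3⟩ := H.xn_half hm M3 h3N h3 w2 q2
  have key : ∀ w ∈ W, ∀ A ∈ W, ∀ B ∈ W, ∀ x x', A * B = 1 → (w * A) ^ 2 ^ m = j x → (w * B) ^ 2 ^ m = j x' →
      p w = x + x' := by
    intro w hw A hA B hB x x' e e1 e2
    apply H.jinj
    have c1 : Commute (w * A) (w * B) := H.ab _ (W.mul_mem hw hA) _ (W.mul_mem hw hB)
    rw [H.j_add, ← e1, ← e2, ← c1.mul_pow, H.jp w hw, hm, pow_succ', pow_mul]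
    congr 1
    calc w ^ 2 = w * (w * (A * B)) := by rw [e, mul_one, sq]
      _ = w * (w * A) * B := by group
      _ = w * (A * w) * B := by rw [H.ab w hw A hA]
      _ = _ := by group
  have p1 := key c w1 _ (H.xn_cj hsN' w1) _ (H.xn_cj h3N w1) _ _ (by
    have k := H.xn_sum hsN hsN' h h' h0 w1
    rwa [n1, one_mul] at k) a2 a3
  have p2 := key c' w2 _ (H.xn_cj hsN w2) _ (H.xn_cj h3N w2) _ _ (by
    have k := H.xn_sum hsN' hsN h' h h0' w2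
    rwa [n2, one_mul, ← hc] at k) b1 b3
  have e3 : l3 • (![γ + γ', β + β', 0] : V3) = ut 0 β γ (m3 • ![γ + γ', β + β', 0]) := by
    apply H.jinj
    rw [H.xn_nm_mul h3N w1 (H.xn_cj hsN w2)] at n3
    have k : s * c' * s⁻¹ * (s * s' * (s * c' * s⁻¹) * (s * s')⁻¹) =
        s * (c' * (s * s' * c' * (s * s')⁻¹)) * s⁻¹ := by
      calc s * c' * s⁻¹ * (s * s' * (s * c' * s⁻¹) * (s * s')⁻¹)
          = s * (c' * (s' * s * c' * (s' * s)⁻¹)) * s⁻¹ := by group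
        _ = _ := by rw [← hc]
    rw [k] at n3
    rw [← a3, eq_inv_of_mul_eq_one_left n3, inv_pow, conj_pow, b3, H.j_act (H.nW hsN) h,
      inv_eq_of_mul_eq_one_right (H.j_sq _)]
  rw [H.add _ w1 _ (H.xn_cj hsN w2), h _ w2] at f3
  rw [p1] at f1
  rw [p2] at f2
  rw [p1, p2] at f3
  exact f3.2 (xn_d12 β γ β' γ' l2 l3 m1 m3 h0 e3 f1.2 f2.2 f1.1 f2.1 f3.1)

/-- M3 -/
theorem m3 (hn : n ≠ 0) {a r : G} (ha : a ∈ S) (aa : a * a = 1) (h : Acts W p a (ut 0 0 1)) (hr : r ∈ S) {γ : ZMod 2}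
    (h' : Acts W p r (ut 1 1 γ)) : r * a ≠ a * r := by
  intro hc
  obtain ⟨m, hm⟩ := Nat.exists_eq_succ_of_ne_zero hn
  have haN := H.SN ha
  have hrN := H.SN hr
  obtain ⟨y, M⟩ := H.exists_my (β := 0) (γ := 1) (by decide)
  obtain ⟨-, c1, c2⟩ := H.xn_ca haN aa h
  have wa := H.coc a haN
  have wr := H.coc r hrN
  have q : p (t * r * t * r⁻¹) 2 = 1 := by
    have e := H.coc_mul r a
    rw [hc, H.coc_mul] at e
    have e1 := congrArg p e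
    rw [H.add _ wa _ (H.xn_cj haN wr), H.add _ wr _ (H.xn_cj hrN wa), h _ wr, h' _ wa] at e1
    exact xn_d13 γ _ _ c1 c2 e1
  obtain ⟨k, hk, hk2⟩ := M.nrm a haN h _ wr
  have h2 : Acts W p (r * r) (ut 0 0 1) := by
    have k := H.act_ut hrN h' h'
    have e : ut (1 + 1) (1 + 1) (γ + γ + 1 * 1) = ut 0 0 1 := funext (xn_d14 γ)
    rwa [e] at k
  have hw := H.mem_of_same (S.mul_mem hr hr) ha h2 h
  have cra : Commute r a := hc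
  obtain ⟨l, x, -, e⟩ := M.cen a haN h _ hw
    ((cra.symm.mul_right cra.symm).mul_right (Commute.refl a).inv_right)
  have e4 : r * r * (r * r) = y ^ (2 * l) := by
    have cy : Commute (y ^ l) (j x) := H.ab _ (W.pow_mem M.yW l) _ (H.j_mem x)
    calc r * r * (r * r) = r * r * (a * a)⁻¹ * (r * r) := by rw [aa]; simp
      _ = r * r * a⁻¹ * (a⁻¹ * (r * r)) := by group
      _ = r * r * a⁻¹ * (r * r * a⁻¹) := by rw [(cra.mul_left cra).inv_right.eq]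
      _ = y ^ l * y ^ l * (j x * j x) := by rw [e, cy.symm.mul_mul_mul_comm]
      _ = _ := by rw [H.j_sq, mul_one, ← pow_add, two_mul]
  have ry := H.act_y M hrN h'
  rw [if_pos rfl] at ry
  have e5 := H.coc_mul (r * r) (r * r)
  have w2 := H.coc _ (N.mul_mem hrN hrN)
  rw [H.conj_eq (N.mul_mem hrN hrN) haN h2 h w2, H.coc_mul r r, H.xn_nm_mul haN wr (H.xn_cj hrN wr), e4,
    H.inv _ (W.pow_mem M.yW _)] at e5
  have e6 : r * (t * r * t * r⁻¹) * r⁻¹ * (a * (r * (t * r * t * r⁻¹) * r⁻¹) * a⁻¹) = y ^ k := by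
    calc r * (t * r * t * r⁻¹) * r⁻¹ * (a * (r * (t * r * t * r⁻¹) * r⁻¹) * a⁻¹)
        = r * (t * r * t * r⁻¹) * r⁻¹ * (a * r * (t * r * t * r⁻¹) * (a * r)⁻¹) := by group
      _ = r * (t * r * t * r⁻¹ * (a * (t * r * t * r⁻¹) * a⁻¹)) * r⁻¹ := by rw [← hc]; group
      _ = _ := by rw [hk, ← conj_pow, ry]
  rw [e6, hk] at e5
  have e7 : (y ^ (k + 2 * l)) ^ 2 = 1 := by
    calc (y ^ (k + 2 * l)) ^ 2 = y ^ k * y ^ k * y ^ (2 * l) * y ^ (2 * l) := by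
          rw [← pow_add, ← pow_add, ← pow_add, ← pow_mul]; congr 1; ring
      _ = 1 := by rw [← e5]; group
  have e8 := H.jp _ (W.pow_mem M.yW (k + 2 * l))
  rw [hm, pow_succ', pow_mul, e7, one_pow, ← H.j_zero, H.p_pow M.yW, M.py] at e8
  have e9 := H.jinj e8
  rw [Nat.cast_add, Nat.cast_mul, hk2, q] at e9
  exact xn_d15 _ e9

theorem exists_d (hn : n ≠ 0) {a : G} (ha : a ∈ S) (aa : a * a = 1) (h : Acts W p a (ut 0 0 1)) :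
    ∃ d ∈ S, d * a = a * d ∧ Acts W p d (ut 1 0 0) := by
  obtain ⟨d, hd, kd⟩ := H.utX 1 0 0
  obtain ⟨b, hb, kb⟩ := H.utX 0 1 0
  have kdb : Acts W p (d * b) (ut 1 1 1) := H.act_ut (H.SN hb) kd kb
  have x1 : p (b * a * b⁻¹ * a⁻¹) 1 ≠ 0 := fun e => by
    obtain ⟨s, hs, e1, k⟩ := H.xn_adj hb ha aa h kb e
    exact absurd (H.ns hn hs ha k h e1) (by decide)
  have x2 : p (d * b * a * (d * b)⁻¹ * a⁻¹) 1 ≠ 0 := fun e => by
    obtain ⟨s, hs, e1, k⟩ := H.xn_adj (S.mul_mem hd hb) ha aa h kdb e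
    exact H.m3 hn ha aa h hs k e1
  refine H.xn_adj hd ha aa h kd ?_
  have sq : ∀ s : G, s * a * s⁻¹ * (s * a * s⁻¹) = 1 := fun s => by
    rw [show s * a * s⁻¹ * (s * a * s⁻¹) = s * (a * a) * s⁻¹ by group, aa]; simp
  have wb := (H.xn_two ha aa h (S.mul_mem (S.mul_mem hb ha) (S.inv_mem hb)) (sq b) (H.xn_cen hb ha h)).1
  have wd := (H.xn_two ha aa h (S.mul_mem (S.mul_mem hd ha) (S.inv_mem hd)) (sq d) (H.xn_cen hd ha h)).1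
  have e : d * b * a * (d * b)⁻¹ * a⁻¹ = d * (b * a * b⁻¹ * a⁻¹) * d⁻¹ * (d * a * d⁻¹ * a⁻¹) := by group
  rw [e, H.add _ (H.xn_cj (H.SN hd) wb) _ wd, kd _ wb] at x2
  exact xn_d16 _ _ x1 x2

/-- `V` is strongly closed, or `L` has one class of involutions -/
theorem one_or : HasAb L ∨ (One L ∧ ∃ a ∈ S, a * a = 1 ∧ Acts W p a (ut 0 0 1)) := by
  let V : Subgroup G :=
    { carrier := {g | ∃ x, j x = g}
      one_mem' := ⟨0, H.j_zero⟩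
      mul_mem' := by
        rintro _ _ ⟨x, rfl⟩ ⟨y, rfl⟩
        exact ⟨x + y, H.j_add x y⟩
      inv_mem' := by
        rintro _ ⟨x, rfl⟩
        exact ⟨x, (inv_eq_of_mul_eq_one_right (H.j_sq x)).symm⟩ }
  have VW : V ≤ W := by
    rintro _ ⟨x, rfl⟩
    exact H.j_mem x
  by_cases hsc : ∀ a ∈ V, ∀ g ∈ L, g * a * g⁻¹ ∈ S → g * a * g⁻¹ ∈ V
  · refine Or.inl ⟨V, fun e => ?_, fun a ha b hb => H.ab a (VW ha) b (VW hb),
      Gold.sc_of_isSylowIn H.syl (VW.trans H.WS) hsc⟩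
    have h1 : j e0 ∈ V := ⟨e0, rfl⟩
    rw [e, mem_bot, ← H.j_zero] at h1
    exact absurd (H.jinj h1) (by decide)
  right
  have cz : ∀ x : V3, j x ≠ 1 → ∃ m ∈ L, m * j x * m⁻¹ = j e0 := by
    intro x hx
    have x0 : x ≠ 0 := fun e => hx (by rw [e, H.j_zero])
    obtain ⟨y, y0, hy⟩ := xn_d17 x x0
    obtain ⟨m, hm, e, -⟩ := H.exists_pair (x' := e0) (y' := e1) x0 y0 hy (by decide) (by decide) (by decide)
    exact ⟨m, H.NL hm, e⟩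
  have sq : ∀ s a : G, a * a = 1 → s * a * s⁻¹ * (s * a * s⁻¹) = 1 := fun s a aa => by
    rw [show s * a * s⁻¹ * (s * a * s⁻¹) = s * (a * a) * s⁻¹ by group, aa]; simp
  push Not at hsc
  obtain ⟨_, ⟨x, rfl⟩, g, hg, hS, hV⟩ := hsc
  have ss := sq g _ (H.j_sq x)
  have hW : g * j x * g⁻¹ ∉ W := fun hw => hV ((H.jom _ hw).mp ss)
  obtain ⟨m, hm, haS, ha⟩ := H.exists_conj hS ss hW
  have aa := sq m _ ss
  obtain ⟨m', hm', e'⟩ := cz x fun e => hW (by rw [e]; simp)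
  have az : ∃ k ∈ L, k * (m * (g * j x * g⁻¹) * m⁻¹) * k⁻¹ = j e0 :=
    ⟨m' * g⁻¹ * m⁻¹, L.mul_mem (L.mul_mem hm' (L.inv_mem hg)) (L.inv_mem (H.NL hm)), by rw [← e']; group⟩
  generalize m * (g * j x * g⁻¹) * m⁻¹ = a at haS ha aa az
  refine ⟨?_, a, haS, aa, ha⟩
  obtain ⟨k, hk, ek⟩ := az
  have haN := H.SN haS
  have WL : W ≤ L := H.WS.trans H.syl.le
  have ti : t⁻¹ = t := inv_eq_of_mul_eq_one_right H.tt
  have c1 : ∀ b ∈ S, b * b = 1 → Acts W p b (ut 0 0 1) → ∃ u ∈ L, u * b * u⁻¹ = j e0 := by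
    intro b hb bb kb
    obtain ⟨hw, e⟩ := H.xn_two haS aa ha hb bb kb
    by_cases h1 : p (b * a⁻¹) 1 = 0
    · obtain ⟨v, hv, e1⟩ := H.xn_com haN ha hw e h1
      refine ⟨k * v, L.mul_mem hk (WL hv), ?_⟩
      rw [mul_right_cancel e1, ← ek]
      group
    · obtain ⟨n1, q1, -⟩ := H.xn_ca haN aa ha
      have wa := H.coc a haN
      have wi := W.inv_mem wa
      have hw' := W.mul_mem hw wi
      have n2 : (t * a * t * a⁻¹)⁻¹ * (a * (t * a * t * a⁻¹)⁻¹ * a⁻¹) = 1 := by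
        have k1 := H.xn_nm_mul haN wa wi
        rw [n1, one_mul] at k1
        rw [← k1]
        simp
      obtain ⟨v, hv, e1⟩ := H.xn_com haN ha hw' (by rw [H.xn_nm_mul haN hw wi, n2, e, one_mul]) (by
        rw [H.add _ hw _ wi, H.p_inv wa]
        exact xn_d18 _ _ h1 q1)
      have e2 : b = v⁻¹ * (t * a * t) * v := by
        have c3 := H.ab _ wa _ (W.mul_mem (W.inv_mem hv) (H.xn_cj haN hv))
        have c4 := H.ab _ wa _ (W.inv_mem hv)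
        calc b = b * a⁻¹ * (t * a * t * a⁻¹)⁻¹ * (t * a * t * a⁻¹) * a := by group
          _ = v⁻¹ * (a * v * a⁻¹) * (t * a * t * a⁻¹) * a := by rw [e1]; group
          _ = t * a * t * a⁻¹ * v⁻¹ * a * v := by rw [← c3]; group
          _ = _ := by rw [c4]; group
      refine ⟨t * k * t⁻¹ * v, L.mul_mem (H.top.norm.conj_mem k hk t) (WL hv), ?_⟩
      calc t * k * t⁻¹ * v * b * (t * k * t⁻¹ * v)⁻¹
          = t * k * (t⁻¹ * t) * a * (t * t) * k⁻¹ * t⁻¹ := by rw [e2]; group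
        _ = t * (k * a * k⁻¹) * t := by rw [H.tt, ti, H.tt]; group
        _ = _ := by rw [ek, H.inv _ (H.j_mem _), inv_eq_of_mul_eq_one_right (H.j_sq _)]
  have c2 : ∀ b ∈ L, b * b = 1 → b ≠ 1 → ∃ u ∈ L, u * b * u⁻¹ = j e0 := by
    intro b hb bb b1
    obtain ⟨c, hc, hcS⟩ := H.syl.exists_cj_le
      (isPGroup_zpowers_of_pow (p := 2) (x := b) (k := 1) (by rw [pow_one, pow_two, bb])) (zpowers_le.mpr hb)
    have hb' := cj_le_iff.mp hcS b (mem_zpowers b)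
    have bb' := sq c b bb
    by_cases hw : c * b * c⁻¹ ∈ W
    · obtain ⟨x, e⟩ := (H.jom _ hw).mp bb'
      obtain ⟨u, hu, e1⟩ := cz x (by rw [e]; simpa using b1)
      exact ⟨u * c, L.mul_mem hu hc, by rw [← e1, e]; group⟩
    · obtain ⟨m, hm, h1, h2⟩ := H.exists_conj hb' bb' hw
      obtain ⟨u, hu, e1⟩ := c1 _ h1 (sq m _ bb') h2
      exact ⟨u * m * c, L.mul_mem (L.mul_mem hu (H.NL hm)) hc, by rw [← e1]; group⟩
  intro b hb b' hb' bb bb' b1 b1'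
  obtain ⟨u, hu, e⟩ := c2 b hb bb b1
  obtain ⟨u', hu', e'⟩ := c2 b' hb' bb' b1'
  refine ⟨u'⁻¹ * u, L.mul_mem (L.inv_mem hu') hu, ?_⟩
  calc u'⁻¹ * u * b * (u'⁻¹ * u)⁻¹ = u'⁻¹ * (u * b * u⁻¹) * u' := by group
    _ = b' := by rw [e, ← e']; group

end Xc

end CfsgLib.JG
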