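import Mathlib
import Cfsg.Agent.Lib.JG.XN
import Cfsg.Agent.Lib.JG.XFA

/-! Standard subgroup `J₁` (plans/J1S.md; copy of Lib/GMS without the TI property, package XF). -/

set_option autoImplicit false
set_option linter.unusedSectionVars false

namespace CfsgLib.JG

open Subgroup Cfsg CfsgLib.Tech CfsgLib.SzS
open scoped MatrixGroups

variable {F : Type*} [Field F] [Finite F] {G : Type*} [Group G] [Finite G]

theorem xf_cc (g a b : G) : g * a * g⁻¹ * (g * b * g⁻¹) * (g * a * g⁻¹)⁻¹ = g * (a * b * a⁻¹) * g⁻¹ := by group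

theorem xf_c2 (g h a : G) : g * h * a * (g * h)⁻¹ = g * (h * a * h⁻¹) * g⁻¹ := by group

namespace Xc

variable {t : G} {L W N S : Subgroup G} {n : ℕ} {p : G → V3} {j : V3 → G} {θ : G} (H : Xc t L W N S n p j θ)
include H

theorem xf_yz {β γ : ZMod 2} {y : G} (M : My W N p j β γ y) : y ^ 2 ^ n = j ![γ, β, 0] := by
  rw [← H.jp y M.yW, M.py]

theorem xf_intoU {J : Subgroup G} (hJ : IsPGroup 2 J) (hL : J ≤ L) (hc : J ≤ centralizer (H.xfU : Set G)) :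
    ∃ c ∈ L, c ∈ centralizer (H.xfU : Set G) ∧ ∀ g ∈ J, c * g * c⁻¹ ∈ S := by
  obtain ⟨c, hc, e⟩ := (xf_syl H.syl H.xf_nU).exists_cj_le hJ (le_inf hL hc)
  exact ⟨c, hc.1, hc.2, fun g hg => (cj_le_iff.1 e g hg).1⟩

theorem exists_x (hn : n ≠ 0) (h1 : One L) {a : G} (ha : a ∈ S) (aa : a * a = 1) (h : Acts W p a (ut 0 0 1)) :
    ∃ x ∈ L, x * j e0 * x⁻¹ = j e0 ∧ x * a * x⁻¹ = j e1 ∧
      ∀ c ∈ S, c * a = a * c → x * c * x⁻¹ ∈ S ∧ ∃ β γ, Acts W p (x * c * x⁻¹) (ut 0 β γ) := by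
  have aW : a ∉ W := fun e => by simpa using (H.xf_zero ha h).1 e
  have z1 : j e0 ≠ 1 := H.xf_ne (by decide)
  have nL := H.top.norm
  have hQ : ∀ g ∈ L, IsPGroup 2 (cj g (S ⊓ centralizer {a})) ∧ cj g (S ⊓ centralizer {a}) ≤ L := fun g hg =>
    ⟨isPGroup_cj g H.syl.pgroup.to_inf_left, cj_le_iff.2 fun x hx => nL.conj_mem x (H.xf_SL hx.1) g⟩
  have hC : ∀ g c, c ∈ centralizer {a} → g * c * g⁻¹ * (g * a * g⁻¹) * (g * c * g⁻¹)⁻¹ = g * a * g⁻¹ := fun g c hc => by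
    rw [conj_mul, mem_centralizer_singleton_iff.1 hc]; group
  obtain ⟨g0, hg0, e0'⟩ := h1 a (H.xf_SL ha) _ (H.xf_SL (H.WS (H.j_mem e0))) aa (H.j_sq e0)
    (fun e => aW (e ▸ W.one_mem)) z1
  obtain ⟨c, hc, e⟩ := (xf_syl1 H.syl fun s hs => Or.inl (H.xf_z hs)).exists_cj_le (hQ g0 hg0).1
    (le_inf (hQ g0 hg0).2 (cj_le_iff.2 fun x hx => mem_centralizer_singleton_iff.2 (by
      rw [← e0']; exact eq_mul_of_mul_inv_eq (hC g0 x hx.2))))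
  rw [← cj_mul] at e
  have e1' : c * g0 * a * (c * g0)⁻¹ = j e0 := by
    rw [xf_c2, e0', mul_inv_eq_of_eq_mul (mem_centralizer_singleton_iff.1 hc.2)]
  have hg := mul_mem hc.1 hg0
  generalize c * g0 = g at e e1' hg
  obtain ⟨y, M⟩ := H.exists_my (β := 0) (γ := 1) (by simp)
  have hy : g * y * g⁻¹ ∈ S := (cj_le_iff.1 e y ⟨H.WS M.yW, mem_centralizer_singleton_iff.2
    (eq_mul_of_mul_inv_eq (by simpa using M.actB a (H.SN ha) 0 1 h)).symm⟩).1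
  have hz : g * j e0 * g⁻¹ = (g * y * g⁻¹) ^ 2 ^ n := by rw [conj_pow, H.xf_yz M]; rfl
  have zz : g * j e0 * g⁻¹ * (g * j e0 * g⁻¹) = 1 := by rw [conj_mul, H.j_sq]; simp
  have zW : g * j e0 * g⁻¹ ∈ W := by
    rw [hz] at zz ⊢
    generalize g * y * g⁻¹ = r at hy zz
    obtain ⟨α, β, γ, hr⟩ := H.utS r hy
    have h2 := H.xf_mul hy hr hr
    obtain ⟨m, rfl⟩ := Nat.exists_eq_succ_of_ne_zero hn
    rw [pow_succ', pow_mul, pow_two] at zz ⊢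
    by_cases h3 : α * β = 0
    · exact pow_mem ((H.xf_zero (mul_mem hy hy) h2).2 ((by decide : ∀ α β γ : ZMod 2, α * β = 0 →
        α + α = 0 ∧ β + β = 0 ∧ γ + γ + α * β = 0) α β γ h3)) _
    obtain ⟨rfl, rfl⟩ := (by decide : ∀ α β : ZMod 2, ¬ α * β = 0 → α = 1 ∧ β = 1) α β h3
    rw [show (1 + 1 : ZMod 2) = 0 from rfl, (by decide : ∀ γ : ZMod 2, γ + γ + 1 * 1 = 1)] at h2
    rcases m with _ | m
    · rw [pow_zero, pow_one] at zz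
      exact absurd (mul_assoc r r r).symm (H.m3 hn (mul_mem hy hy) zz h2 hy hr)
    · rw [pow_succ', pow_mul, pow_two]
      exact pow_mem ((H.xf_zero (mul_mem (mul_mem hy hy) (mul_mem hy hy)) (H.xf_mul (mul_mem hy hy) h2 h2)).2
        (by decide)) _
  obtain ⟨x, hx⟩ := (H.jom _ zW).1 zz
  obtain ⟨m, hm, m0, m1⟩ := H.exists_pair (x := x) (y := e0) (x' := e0) (y' := e1)
    (fun e => z1 (by rw [e, H.j_zero] at hx; exact conj_eq_one_iff.1 hx.symm)) (by decide)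
    (fun e => aW (by
      rw [e] at hx
      exact (MulAut.conj g).injective (e1'.trans hx) ▸ H.j_mem e0)) (by decide) (by decide) (by decide)
  have k0 : m * g * j e0 * (m * g)⁻¹ = j e0 := by rw [xf_c2, ← hx, m0]
  have k1 : m * g * a * (m * g)⁻¹ = j e1 := by rw [xf_c2, e1', m1]
  have hg' := mul_mem (H.NL hm) hg
  generalize m * g = g at k0 k1 hg'
  obtain ⟨c, hc, hU, e⟩ := H.xf_intoU (hQ g hg').1 (hQ g hg').2 (cj_le_iff.2 fun s hs => H.xf_cU.2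
    ⟨by rw [← k0, xf_cc, H.xf_z hs.1], by rw [← k1]; exact hC g s hs.2⟩)
  have k2 : c * g * a * (c * g)⁻¹ = j e1 := by rw [xf_c2, k1, (H.xf_cU.1 hU).2]
  refine ⟨c * g, mul_mem hc hg', by rw [xf_c2, k0, (H.xf_cU.1 hU).1], k2, fun s hs hsa => ?_⟩
  have k3 : c * g * s * (c * g)⁻¹ ∈ S := by
    rw [xf_c2]; exact e _ (conj_mem_cj.2 ⟨hs, mem_centralizer_singleton_iff.2 hsa⟩)
  exact ⟨k3, H.xf_typeU k3 (by rw [← k2]; exact hC _ s (mem_centralizer_singleton_iff.2 hsa))⟩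

theorem xf_com {a : G} (hn : n ≠ 0) (ha : a ∈ S) (h : Acts W p a (ut 0 0 1)) {x : V3} (hx : x 2 = 0) :
    ∃ v ∈ W, v * a * v⁻¹ = j x * a := by
  obtain ⟨y, M⟩ := H.exists_my (β := 0) (γ := 1) (by simp)
  obtain ⟨v, hv, e⟩ := M.com a (H.SN ha) h (j x) (H.j_mem x) (by
    rw [H.xf_j ha h, (by decide : ∀ x : V3, x 2 = 0 → ut 0 0 1 x = x) x hx, H.j_sq]) (Or.inl (H.p_j hn x))
  refine ⟨v⁻¹, inv_mem hv, ?_⟩
  rw [e, H.ab _ (H.xf_conjW (H.SN ha) hv) _ (inv_mem hv)]; group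

/-- `a` is not conjugate into `V` under `C_L(U)` -/
theorem xf_notV (hn : n ≠ 0) {a g : G} (ha : a ∈ S) (h : Acts W p a (ut 0 0 1)) (hg : g ∈ L)
    (hU : g ∈ centralizer (H.xfU : Set G)) (x : V3) : g * a * g⁻¹ ≠ j x := fun e => by
  have aW : a ∉ W := fun e => by simpa using (H.xf_zero ha h).1 e
  have x2 : x 2 ≠ 0 := fun hx => aW ((MulAut.conj g).injective (e.trans (H.xf_fixU hU hx).symm) ▸ H.j_mem x)
  obtain ⟨v, hv, e0'⟩ := H.xf_com hn ha h (x := e0) rfl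
  obtain ⟨v', hv', e1'⟩ := H.xf_com hn ha h (x := e1) rfl
  have k : ∀ v ∈ W, ∀ x' : V3, x' 2 = 0 → v * a * v⁻¹ = j x' * a →
      g * v * g⁻¹ * j x * (g * v * g⁻¹)⁻¹ = j (x' + x) := fun v _ x' h1 h2 => by
    rw [← e, xf_cc, h2, ← conj_mul, H.xf_fixU hU h1, e, H.j_add]
  have hW : cj g W ≤ L ⊓ centralizer (H.xfU : Set G) := cj_le_iff.2 fun w hw =>
    ⟨H.top.norm.conj_mem w (H.xf_SL (H.WS hw)) g, Subgroup.mul_mem _ (mul_mem hU (H.xf_cU.2 ⟨H.xf_jW hw _, H.xf_jW hw _⟩))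
      (inv_mem hU)⟩
  have k2 : ∀ v ∈ W, ∀ x' : V3, x' 2 = 0 → v * a * v⁻¹ = j x' * a → g * v * g⁻¹ ∈ normalizer (H.xfV : Set G) :=
    fun v hv x' h1 h2 => mem_normalizer_of_forall (by
      rintro _ ⟨u, rfl⟩
      by_cases hu : u 2 = 0
      · exact ⟨u, (H.xf_fixU (hW (conj_mem_cj.2 hv)).2 hu).symm⟩
      · have h3 : (u + x) 2 = 0 := (by decide : ∀ a b : ZMod 2, a ≠ 0 → b ≠ 0 → a + b = 0) _ _ hu x2
        rw [show u = u + x + x by rw [add_assoc, (by decide : ∀ x : V3, x + x = 0), add_zero], H.j_add, ← conj_mul,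
          H.xf_fixU (hW (conj_mem_cj.2 hv)).2 h3, k v hv x' h1 h2, ← H.j_add]
        exact ⟨_, rfl⟩)
  obtain ⟨c, ⟨⟨cL, cU⟩, cV⟩, hc⟩ := ((xf_syl H.syl H.xf_nU).of_le
    (K := L ⊓ centralizer (H.xfU : Set G) ⊓ normalizer (H.xfV : Set G))
    (le_inf (inf_le_inf_right _ H.xf_SL) (inf_le_left.trans H.xf_nV)) inf_le_left).exists_cj_le
    (Q := cj g W ⊓ normalizer (H.xfV : Set G)) (isPGroup_cj g (H.syl.pgroup.to_le H.WS)).to_inf_left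
    (inf_le_inf_right _ hW)
  obtain ⟨u, hu⟩ := conj_mem_of_mem_normalizer cV (show j x ∈ H.xfV from ⟨x, rfl⟩)
  have u2 : u 2 ≠ 0 := fun h2 => x2 (H.jinj ((MulAut.conj c).injective (hu.symm.trans (H.xf_fixU cU h2).symm)) ▸ h2)
  have k3 : ∀ v ∈ W, ∀ x' : V3, x' 2 = 0 → v * a * v⁻¹ = j x' * a → c * (g * v * g⁻¹) * c⁻¹ ∈ S ∧
      ∃ β γ, Acts W p (c * (g * v * g⁻¹) * c⁻¹) (ut 0 β γ) ∧ ut 0 β γ u = x' + u := fun v hv x' h1 h2 => by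
    have h3 := cj_le_iff.1 hc _ ⟨conj_mem_cj.2 hv, k2 v hv x' h1 h2⟩
    obtain ⟨β, γ, h4⟩ := H.xf_typeU h3.1 (H.xf_cU.1 h3.2).2
    refine ⟨h3.1, β, γ, h4, H.jinj ?_⟩
    rw [← H.xf_j h3.1 h4, hu, xf_cc, k v hv x' h1 h2, H.j_add, ← conj_mul, H.xf_fixU cU h1,
      H.j_add, hu]
  obtain ⟨s1, β, γ, a1, b1⟩ := k3 v hv e0 rfl e0'
  obtain ⟨s2, β', γ', a2, b2⟩ := k3 v' hv' e1 rfl e1'
  have h5 := H.ns hn s1 s2 a1 a2 (by rw [conj_mul, conj_mul, conj_mul, conj_mul, H.ab v hv v' hv'])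
  exact (by decide : ∀ (u : V3) (β γ β' γ' : ZMod 2), u 2 ≠ 0 → ut 0 β γ u = e0 + u → ut 0 β' γ' u = e1 + u →
    ¬ ((β = 0 ∧ γ = 0) ∨ (β' = 0 ∧ γ' = 0) ∨ (β = β' ∧ γ = γ'))) u β γ β' γ' u2 b1 b2 h5

/-- an element with axis `x 2 = 0` that commutes with `b` -/
theorem xf_dec (hn : n ≠ 0) {b s : G} (hb : b ∈ S) (bW : b ∉ W) {β γ β' γ' : ZMod 2} (h : Acts W p b (ut 0 β γ))
    (hs : s ∈ S) (h' : Acts W p s (ut 0 β' γ')) (hc : s * b = b * s) : s ∈ W ∨ s * b⁻¹ ∈ W := by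
  rcases H.ns hn hs hb h' h hc with e | e | ⟨rfl, rfl⟩
  · exact Or.inl ((H.xf_zero hs h').2 ⟨rfl, e⟩)
  · exact absurd ((H.xf_zero hb h).2 ⟨rfl, e⟩) bW
  · exact Or.inr (H.mem_of_same hs hb h' h)

theorem xf_yy {β γ : ZMod 2} {y : G} (hn : n ≠ 0) (M : My W N p j β γ y) (h : ¬ (β = 0 ∧ γ = 0)) : y ≠ y⁻¹ := fun e => by
  obtain ⟨m, rfl⟩ := Nat.exists_eq_succ_of_ne_zero hn
  refine H.xf_ne ((by decide : ∀ β γ : ZMod 2, ¬ (β = 0 ∧ γ = 0) → ![γ, β, 0] ≠ (0 : V3)) β γ h) ?_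
  rw [← H.xf_yz M, pow_succ', pow_mul, pow_two, mul_eq_one_iff_eq_inv.2 e, one_pow]

/-- `ζ` is not conjugate to `y` -/
theorem xf_notY (hn : n ≠ 0) {y ζ x : G} (M : My W N p j 0 1 y) (ζW : ζ ∈ W)
    (hζ : ∀ s ∈ S, ∀ α γ, Acts W p s (ut α 0 γ) → s * ζ = ζ * s) (hx : x ∈ L)
    (e : x * ζ * x⁻¹ = y ∨ x * ζ * x⁻¹ = y⁻¹) : False := by
  have hy : ∀ s ∈ S, ∀ {α β γ}, Acts W p s (ut α β γ) → s * y * s⁻¹ = if α = β then y else y⁻¹ :=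
    fun s hs _ _ _ h => H.act_y M (H.SN hs) h
  obtain ⟨c, hc, e1'⟩ := (xf_syl1 (y := y) H.syl fun s hs => by
    obtain ⟨α, β, γ, h⟩ := H.utS s hs
    rw [hy s hs h]; split_ifs <;> simp).exists_cj_le (Q := cj x (S ⊓ centralizer {ζ}))
    (isPGroup_cj x H.syl.pgroup.to_inf_left) (cj_le_iff.2 fun s hs => ⟨H.top.norm.conj_mem s (H.xf_SL hs.1) x, by
      have h1 : x * s * x⁻¹ ∈ centralizer {x * ζ * x⁻¹} := cj_centralizer_singleton x ζ ▸ conj_mem_cj.2 hs.2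
      rcases e with e | e <;> rw [e] at h1
      · exact h1
      · exact mem_centralizer_singleton_iff.2 (Commute.inv_right_iff.1 (mem_centralizer_singleton_iff.1 h1))⟩)
  rw [← cj_mul] at e1'
  have hg : c * x ∈ L := mul_mem hc.1 hx
  generalize c * x = g at e1' hg
  have h1 : cj g W = W := H.wc hn g hg (((cj_mono g (le_inf H.WS fun w hw =>
    mem_centralizer_singleton_iff.2 (H.ab w hw ζ ζW))).trans e1').trans inf_le_left)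
  have h2 : ∀ s ∈ S, ∀ α γ, Acts W p s (ut α 0 γ) → ¬ (α = 0 ∧ γ = 0) →
      g * s * g⁻¹ ∈ S ∧ Acts W p (g * s * g⁻¹) (ut 0 0 1) := fun s hs α γ h h0 => by
    have h3 := cj_le_iff.1 e1' s ⟨hs, mem_centralizer_singleton_iff.2 (hζ s hs α γ h)⟩
    obtain ⟨α', β', γ', h4⟩ := H.utS _ h3.1
    have h5 := hy _ h3.1 h4
    rw [mem_centralizer_singleton_iff.1 h3.2, mul_inv_cancel_right] at h5
    have h6 := (H.xf_zero (mul_mem h3.1 h3.1) (H.xf_mul h3.1 h4 h4)).1 (by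
      rw [conj_mul, ← h1, conj_mem_cj]
      exact (H.xf_zero (mul_mem hs hs) (H.xf_mul hs h h)).2 ((by decide : ∀ α γ : ZMod 2,
        α + α = 0 ∧ (0 : ZMod 2) + 0 = 0 ∧ γ + γ + α * 0 = 0) α γ))
    have h7 := (H.xf_zero h3.1 h4).not.1 (by
      rw [← h1, conj_mem_cj, H.xf_zero hs h]; tauto)
    obtain rfl : α' = β' := by_contra fun h8 => H.xf_yy hn M (by simp) (by rwa [if_neg h8] at h5)
    obtain ⟨rfl, rfl⟩ := (by decide : ∀ α γ : ZMod 2, γ + γ + α * α = 0 → ¬ (α = 0 ∧ α = 0 ∧ γ = 0) →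
      α = 0 ∧ γ = 1) α' γ' h6.2.2 h7
    exact ⟨h3.1, h4⟩
  obtain ⟨s, hs, a1⟩ := H.utX 1 0 0
  obtain ⟨s', hs', a2⟩ := H.utX 0 0 1
  obtain ⟨b1, b2⟩ := h2 s hs 1 0 a1 (by simp)
  obtain ⟨b3, b4⟩ := h2 s' hs' 0 1 a2 (by simp)
  have h3 := (H.xf_zero (mul_mem b1 b3) (H.xf_mul b3 b2 b4)).2 (by decide)
  rw [conj_mul, ← h1, conj_mem_cj, H.xf_zero (mul_mem hs hs') (H.xf_mul hs' a1 a2)] at h3
  exact absurd h3 (by decide)

theorem xl (hn : n ≠ 0) (h1 : One L) {a : G} (ha : a ∈ S) (aa : a * a = 1) (h : Acts W p a (ut 0 0 1)) :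
    n = 1 ∧ ∃ ζ, Xl L W S p j a ζ := by
  obtain ⟨x, hx, xz, xa, hc⟩ := H.exists_x hn h1 ha aa h
  have aW : a ∉ W := fun e => by simpa using (H.xf_zero ha h).1 e
  have z1 : j e0 ≠ 1 := H.xf_ne (by decide)
  have uW := H.j_mem e1
  obtain ⟨bS, β, γ, hb⟩ := hc _ (H.WS uW) (eq_mul_of_mul_inv_eq (H.xf_j ha h e1)).symm
  have bb : x * j e1 * x⁻¹ * (x * j e1 * x⁻¹) = 1 := by rw [conj_mul, H.j_sq]; simp
  have bW : x * j e1 * x⁻¹ ∉ W := fun bW => by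
    obtain ⟨v, hv⟩ := (H.jom _ bW).1 bb
    obtain ⟨m, hm, m0, m1⟩ := H.exists_pair (x := e0) (y := v) (x' := e0) (y' := e1) (by decide)
      (fun e => H.xf_ne (x := e1) (by decide) (by rw [e, H.j_zero] at hv; exact conj_eq_one_iff.1 hv.symm))
      (fun e => absurd (H.jinj ((MulAut.conj x).injective (xz.trans (e ▸ hv)))) (by decide))
      (by decide) (by decide) (by decide)
    obtain ⟨u, hu⟩ := (H.jom _ (H.xf_conjW hm uW)).1 (by rw [conj_mul, H.j_sq]; simp)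
    exact H.xf_notV hn ha h (mul_mem (H.NL hm) hx) (H.xf_cU.2 ⟨by rw [xf_c2, xz, m0], by rw [xf_c2, ← hv, m1]⟩) u
      (by rw [xf_c2, xa, hu])
  obtain ⟨y, M⟩ := H.exists_my (β := 0) (γ := 1) (by simp)
  have yz : y ^ 2 ^ n = j e0 := H.xf_yz M
  obtain ⟨yS, β', γ', hy⟩ := hc _ (H.WS M.yW) (eq_mul_of_mul_inv_eq (by simpa using M.actB a (H.SN ha) 0 1 h)).symm
  have yb : x * y * x⁻¹ * (x * j e1 * x⁻¹) = x * j e1 * x⁻¹ * (x * y * x⁻¹) := by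
    rw [conj_mul, conj_mul, H.ab y M.yW _ uW]
  obtain ⟨d, dS, da, hd⟩ := H.exists_d hn ha aa h
  obtain ⟨dS', β'', γ'', hd'⟩ := hc d dS da
  have db : x * d * x⁻¹ * (x * j e1 * x⁻¹) * (x * d * x⁻¹)⁻¹ = j e0 * (x * j e1 * x⁻¹) := by
    rw [xf_cc, H.xf_j dS hd, show ut 1 0 0 e1 = e0 + e1 by decide, H.j_add, ← conj_mul, xz]
  have dy : x * d * x⁻¹ * (x * y * x⁻¹) * (x * d * x⁻¹)⁻¹ = (x * y * x⁻¹)⁻¹ := by
    rw [xf_cc, H.act_y M (H.SN dS) hd, if_neg (by decide), conj_inv]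
  have y'z : (x * y * x⁻¹) ^ 2 ^ n = j e0 := by rw [conj_pow, yz, xz]
  have xζ : x * (y * j e1) * x⁻¹ = x * y * x⁻¹ * (x * j e1 * x⁻¹) := (conj_mul ..).symm
  have y2 : x * y * x⁻¹ * (x * y * x⁻¹) = j e0 → y * y = j e0 := fun e =>
    (MulAut.conj x).injective (by simpa only [MulAut.conj_apply, ← conj_mul, xz] using e)
  generalize x * j e1 * x⁻¹ = b at *
  generalize x * y * x⁻¹ = y' at *
  generalize x * d * x⁻¹ = d' at *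
  have bi : b⁻¹ = b := inv_eq_of_mul_eq_one_right bb
  obtain ⟨m, rfl⟩ := Nat.exists_eq_succ_of_ne_zero hn
  have key : ∀ w ∈ W, b * w = w * b → w * w = y' * y' → ∀ {yb}, My W N p j β γ yb →
      ∃ (k : ℕ) (v : V3), v 2 = 0 ∧ w = yb ^ k * j v ∧ (k : ZMod 2) • ![γ, β, 0] = e0 := fun w hw h2 h3 yb Mb => by
    obtain ⟨k, v, hv, rfl⟩ := Mb.cen b (H.SN bS) hb w hw h2
    refine ⟨k, v, hv, rfl, H.jinj ?_⟩
    rw [← Mb.py, ← H.p_pow Mb.yW, H.jp _ (pow_mem Mb.yW k), ← y'z, pow_succ', pow_mul, pow_mul, pow_two, pow_two, ← h3,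
      mul_assoc, ← mul_assoc (j v), H.ab _ (H.j_mem v) _ (pow_mem Mb.yW k), mul_assoc, H.j_sq, mul_one]
  have hw : ∃ w ∈ W, b * w = w * b ∧ w * w = y' * y' := by
    rcases H.xf_dec hn bS bW hb yS hy yb with e | e
    · exact ⟨_, e, yb.symm, rfl⟩
    · exact ⟨_, e, by rw [← mul_assoc, ← yb, bi], by
        rw [bi, mul_assoc, ← mul_assoc b, ← yb, mul_assoc, bb, mul_one]⟩
  obtain ⟨rfl, rfl⟩ : β = 0 ∧ γ = 1 := by
    obtain ⟨w, hw, h2, h3⟩ := hw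
    obtain ⟨yb, Mb⟩ := H.exists_my (β := β) (γ := γ) fun e => bW ((H.xf_zero bS hb).2 ⟨rfl, e⟩)
    obtain ⟨k, -, -, -, e⟩ := key w hw h2 h3 Mb
    exact (by decide : ∀ k β γ : ZMod 2, k • ![γ, β, 0] = e0 → β = 0 ∧ γ = 1) _ _ _ e
  obtain ⟨v, hv, vb⟩ := H.xf_com hn bS hb (x := e0) rfl
  have zb : b * j e0 = j e0 * b := eq_mul_of_mul_inv_eq (H.xf_z bS)
  obtain ⟨w, hw', wb, wy⟩ : ∃ w ∈ W, w * b * w⁻¹ = j e0 * b ∧ w * y' * w⁻¹ = y'⁻¹ := by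
    have h2 : v * d' * b = b * (v * d') := eq_mul_of_mul_inv_eq (by
      rw [xf_c2, db, ← conj_mul, vb, H.xf_jW hv, ← mul_assoc, H.j_sq, one_mul])
    rcases H.xf_dec hn bS bW hb (mul_mem (H.WS hv) dS') (H.xf_Wmul hv dS' hd') h2 with e | e
    · exact ⟨d', (W.mul_mem_cancel_left hv).1 e, db, dy⟩
    · rw [mul_assoc] at e
      refine ⟨_, (W.mul_mem_cancel_left hv).1 e, by rw [xf_c2, inv_mul_cancel, one_mul, inv_inv, db], ?_⟩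
      rw [xf_c2, inv_inv, mul_assoc b⁻¹, yb, inv_mul_cancel_left, dy]
  have yy : y' ≠ y'⁻¹ := fun e => z1 (by rw [← y'z, pow_succ', pow_mul, pow_two, mul_eq_one_iff_eq_inv.2 e, one_pow])
  have e := (H.xf_dec hn bS bW hb yS hy yb).resolve_left fun e => yy (by
    rw [← wy, H.ab w hw' _ e, mul_inv_cancel_right])
  rw [bi] at e
  have y2' : y' * y' = j e0 := by
    have h2 : w * (y' * b) * w⁻¹ = y' * b := by rw [H.ab w hw' _ e, mul_inv_cancel_right]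
    rw [← conj_mul, wy, wb, ← mul_assoc, mul_left_inj, inv_mul_eq_iff_eq_mul] at h2
    exact h2.symm
  replace y2 := y2 y2'
  obtain rfl : m = 0 := by
    rcases m with _ | m
    · rfl
    · exact absurd (by rw [← yz, pow_succ', pow_mul, pow_two, y2, pow_succ', pow_mul, pow_two, H.j_sq, one_pow]) z1
  have yi : y⁻¹ = y * j e0 := inv_eq_of_mul_eq_one_right (by rw [← mul_assoc, y2, H.j_sq])
  have cζ : ∀ s ∈ S, ∀ α γ, Acts W p s (ut α 0 γ) → s * (y * j e1) = y * j e1 * s := fun s hs α γ h => by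
    refine eq_mul_of_mul_inv_eq ?_
    rw [← conj_mul, H.act_y M (H.SN hs) h, H.xf_j hs h]
    split_ifs with h2
    · rw [h2, (by decide : ∀ γ, ut 0 0 γ e1 = e1)]
    · rw [yi, mul_assoc, ← H.j_add, (by decide : ∀ α γ : ZMod 2, ¬ α = 0 → e0 + ut α 0 γ e1 = e1) α γ h2]
  have ζi : (y * j e1)⁻¹ = y * j (e0 + e1) := by
    rw [mul_inv_rev, H.ab _ (inv_mem uW) _ (inv_mem M.yW), yi, H.xf_inv, H.j_add, mul_assoc]
  have iζ : ∀ s ∈ S, ∀ α γ, Acts W p s (ut α 1 γ) → s * (y * j e1) * s⁻¹ = (y * j e1)⁻¹ := fun s hs α γ h => by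
    rw [← conj_mul, H.act_y M (H.SN hs) h, H.xf_j hs h, ζi]
    split_ifs with h2
    · rw [h2, (by decide : ∀ γ, ut 1 1 γ e1 = e0 + e1)]
    · rw [yi, mul_assoc, ← H.j_add, (by decide : ∀ α γ : ZMod 2, ¬ α = 1 → e0 + ut α 1 γ e1 = e0 + e1) α γ h2]
  refine ⟨rfl, y * j e1, ha, aa, h, mul_mem M.yW uW, by rw [H.add _ M.yW _ uW, M.py, H.p_j hn, add_zero]; rfl,
    cζ, iζ, ?_⟩
  obtain ⟨k, u, hu, e2, e3⟩ := key _ e (by rw [← mul_assoc, ← yb, mul_assoc]) (by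
    rw [mul_assoc, ← mul_assoc b, ← yb, mul_assoc, bb, mul_one]) M
  obtain ⟨u, hu, e2⟩ : ∃ u : V3, u 2 = 0 ∧ x * (y * j e1) * x⁻¹ = y * j u := by
    obtain ⟨l, rfl⟩ : Odd k := ZMod.natCast_eq_one_iff_odd.1 ((by decide : ∀ k : ZMod 2, k • ![1, 0, 0] = e0 → k = 1) _ e3)
    rw [xζ, e2, pow_succ', pow_mul, pow_two, y2, mul_assoc]
    obtain ⟨u, hu, e⟩ := mul_mem (pow_mem (show j e0 ∈ H.xfU from ⟨e0, rfl, rfl⟩) l) (show j u ∈ H.xfU from ⟨u, hu, rfl⟩)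
    exact ⟨u, hu, by rw [e]⟩
  rcases (by decide : ∀ x : V3, x 2 = 0 → x = 0 ∨ x = e0 ∨ x = e1 ∨ x = e0 + e1) u hu with rfl | rfl | rfl | rfl
  · exact (H.xf_notY hn M (mul_mem M.yW uW) cζ hx (Or.inl (by rw [e2, H.j_zero, mul_one]))).elim
  · exact (H.xf_notY hn M (mul_mem M.yW uW) cζ hx (Or.inr (by rw [e2, yi]))).elim
  · exact ⟨x, hx, eq_mul_of_mul_inv_eq e2, xa⟩
  · obtain ⟨s, hs, a1⟩ := H.utX 0 1 0
    exact ⟨s * x, mul_mem (H.xf_SL hs) hx, eq_mul_of_mul_inv_eq (by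
      rw [xf_c2, e2, ← ζi, ← conj_inv, iζ s hs 0 0 a1, inv_inv]), by
      rw [xf_c2, xa, H.xf_j hs a1, show ut 0 1 0 e1 = e1 by decide]⟩

end Xc

end CfsgLib.JG
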