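import Mathlib
import Cfsg.Agent.Lib.JG.XN
import Cfsg.Agent.Lib.JG.X1A

/-! Standard subgroup `J₁` (plans/J1S.md, package XR). -/

set_option autoImplicit false
set_option linter.unusedSectionVars false

namespace CfsgLib.JG

open Subgroup Cfsg CfsgLib.Tech CfsgLib.SzS
open scoped MatrixGroups

variable {G : Type*} [Group G] [Finite G]

theorem Xc.xr_pair {t : G} {L W N S : Subgroup G} {n : ℕ} {p : G → V3} {j : V3 → G} {θ : G}
    (H : Xc t L W N S n p j θ) {X : Subgroup G} (hX : X ≤ S) (ab : ∀ a ∈ X, ∀ b ∈ X, a * b = b * a)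
    (sq : ∀ a ∈ X, a * a = 1) (hc : 8 < Nat.card X) :
    ∃ x ∈ X, ∃ y ∈ X, ∃ γ, Acts W p x (ut 0 1 γ) ∧ Acts W p y (ut 0 0 1) := by
  obtain ⟨X0, h0, h1, h2⟩ := H.xm_two hX ab
  have z : ∀ x : ZMod 2, x = 0 ∨ x = 1 := by decide
  have hV : X ⊓ W ≤ H.xbP n := fun x hx => H.mem_xbP.2 ((H.jom x hx.2).1 (sq x hx.1))
  obtain ⟨s, hs, hW⟩ : ∃ s ∈ X, s ∉ W := by
    by_contra! e
    have := card_le_of_le ((le_inf le_rfl e).trans hV)
    rw [H.card_xbP] at this; omega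
  have h3 : Nat.card ↥(X ⊓ W) ≤ 4 := by
    have h4 := card_dvd_of_le hV
    have h5 : ¬ Nat.card (H.xbP n) ≤ Nat.card ↥(X ⊓ W) := fun e => hW (H.ut0 s (hX hs)
      ((H.xb_id (H.nW (H.SN (hX hs)))).2 fun x => ab s hs _
        ((eq_of_le_of_card_ge hV e).ge (H.mem_xbP.2 ⟨x, rfl⟩)).1))
    rw [H.card_xbP] at h4 h5
    generalize Nat.card ↥(X ⊓ W) = m at h4 h5
    push Not at h5
    interval_cases m <;> omega
  obtain ⟨y, hy, hy'⟩ : ∃ y ∈ X0, y ∉ X ⊓ W := by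
    by_contra! e
    have := card_le_of_le (show X0 ≤ X ⊓ W from e)
    omega
  obtain ⟨x, hx, hx'⟩ : ∃ x ∈ X, x ∉ X0 := by
    by_contra! e
    have := card_le_of_le (show X ≤ X0 from e)
    omega
  obtain ⟨w, hw, hw'⟩ : ∃ w ∈ X ⊓ W, w ∉ zpowers (j e0) := by
    by_contra! e
    have := card_le_of_le (show X ⊓ W ≤ zpowers (j e0) from e)
    have := Nat.le_of_dvd two_pos (orderOf_dvd_of_pow_eq_one ((pow_two _).trans (H.j_sq e0)))
    rw [← Nat.card_zpowers] at this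
    omega
  obtain ⟨hy, γ, a1⟩ := (h0 y).1 hy
  rcases z γ with rfl | rfl
  · exact absurd ⟨hy, H.ut0 y (hX hy) (by rwa [ut_zero] at a1)⟩ hy'
  obtain ⟨α, β, γ, a2⟩ := H.utS x (hX hx)
  obtain ⟨ξ, rfl⟩ := (H.jom w hw.2).1 (sq w hw.1)
  have f : ∀ {g m}, g ∈ X → Acts W p g m → m ξ = ξ := fun {g m} hg e => H.jinj (by
    rw [← H.j_act (H.nW (H.SN (hX hg))) e, ab g hg _ hw.1, mul_inv_cancel_right])
  obtain ⟨rfl, rfl⟩ := (by decide +kernel : ∀ (α β γ : ZMod 2) (ξ : V3), ut 0 0 1 ξ = ξ → ut α β γ ξ = ξ → ξ ≠ 0 →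
    ξ ≠ e0 → ¬ (α = 0 ∧ β = 0) → α = 0 ∧ β = 1) α β γ ξ (f hy a1) (f hx a2)
    (fun e => hw' (by rw [e, H.j_zero]; exact one_mem _)) (fun e => hw' (e ▸ mem_zpowers _))
    fun e => hx' ((h0 x).2 ⟨hx, γ, by rwa [e.1, e.2] at a2⟩)
  exact ⟨x, hx, y, hy, γ, a2, a1⟩

theorem Xc.rank' {t : G} {L W N S : Subgroup G} {n : ℕ} {p : G → V3} {j : V3 → G} {θ : G}
    (H : Xc t L W N S n p j θ) (hn : n ≠ 0) : PRankLE 2 3 L := by
  intro A hA el
  by_contra! hc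
  have sq0 : ∀ x ∈ A.map L.subtype, x * x = 1 := by
    rintro _ ⟨x, hx, rfl⟩
    rw [← map_mul, ← pow_two, el x hx, map_one]
  obtain ⟨g, -, hX⟩ := H.syl.exists_cj_le (Q := A.map L.subtype)
    (isPGroup_iff_mem.2 fun x hx => ⟨1, (pow_two x).trans (sq0 x hx)⟩) (map_subtype_le _)
  have sq : ∀ x ∈ cj g (A.map L.subtype), x * x = 1 := by
    rintro _ ⟨x, hx, rfl⟩
    rw [← map_mul, sq0 x hx, map_one]
  have hc' : 8 < Nat.card (cj g (A.map L.subtype)) := by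
    rwa [card_cj, card_map_of_injective L.subtype_injective]
  generalize cj g (A.map L.subtype) = X at hX sq hc'
  have inv : ∀ {x : G}, x * x = 1 → x⁻¹ = x := inv_eq_of_mul_eq_one_right
  have ab : ∀ a ∈ X, ∀ b ∈ X, a * b = b * a := fun a ha b hb => by
    rw [← inv (sq _ (mul_mem ha hb)), mul_inv_rev, inv (sq a ha), inv (sq b hb)]
  obtain ⟨x, hx, y, hy, γ, a1, a2⟩ := H.xr_pair hX ab sq hc'
  simpa using H.ns hn (hX hx) (hX hy) a1 a2 (ab x hx y hy)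

theorem Xc.not_rank {t : G} {L W N S : Subgroup G} {n : ℕ} {p : G → V3} {j : V3 → G} {θ : G}
    (H : Xc t L W N S n p j θ) : ¬ PRankLE 2 2 L := by
  intro h
  have le : H.xbP n ≤ L := (H.xbP_le n).trans (H.WS.trans H.syl.le)
  have := h ((H.xbP n).subgroupOf L) ⟨⟨fun a b => Subtype.ext (Subtype.ext
    (H.ab _ (H.xbP_le n a.2) _ (H.xbP_le n b.2)))⟩⟩ fun a ha => Subtype.ext (by
      obtain ⟨v, e⟩ := H.mem_xbP.1 ha
      change (a : G) ^ 2 = 1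
      rw [pow_two, ← show j v = a from e, H.j_sq])
  rw [Nat.card_congr (subgroupOfEquivOfLe le).toEquiv, H.card_xbP] at this
  omega

end CfsgLib.JG
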